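import Mathlib.RingTheory.Flat.Equalizer
import Mathlib.RingTheory.Flat.Basic

/-!
# Flatness of kernels and exactness of tensoring "flat-cokernel" sequences
-/

open TensorProduct

universe u

namespace Groth.Agent.Lib.Helper65

variable {A : Type u} [CommRing A]

/-- If `0 → K → P → F → 0` is exact with `P` and `F` flat, then `K` is flat. -/
theorem flat_of_exact_of_flat {K P F : Type u} [AddCommGroup K] [AddCommGroup P] [AddCommGroup F]
    [Module A K] [Module A P] [Module A F] [Module.Flat A P] [Module.Flat A F]
    (i : K →ₗ[A] P) (q : P →ₗ[A] F) (hi : Function.Injective i) (hq : Function.Surjective q)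
    (H : Function.Exact i q) : Module.Flat A K := by
  rw [Module.Flat.iff_lTensor_preserves_injective_linearMap]
  intro N N' _ _ _ _ f hf
  have h1 : Function.Injective (i.rTensor N) := by
    rw [← LinearMap.lTensor_inj_iff_rTensor_inj]
    exact LinearMap.lTensor_injective_of_exact_of_flat q hq i hi H N
  have h2 : Function.Injective (f.lTensor P) :=
    Module.Flat.lTensor_preserves_injective_linearMap f hf
  have h3 : (i.rTensor N') ∘ₗ (f.lTensor K) = (f.lTensor P) ∘ₗ (i.rTensor N) := by
    ext x y
    simp
  have h4 : Function.Injective ((i.rTensor N') ∘ₗ (f.lTensor K)) := by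
    rw [h3]
    exact h2.comp h1
  exact Function.Injective.of_comp (f := i.rTensor N') (by rw [← LinearMap.coe_comp]; exact h4)

/-- If `f, g` is exact and the cokernel of `g` is flat, then tensoring with any module `N`
on the left keeps the sequence exact. -/
theorem lTensor_exact_of_flat_coker {X Y Z : Type u} [AddCommGroup X] [AddCommGroup Y]
    [AddCommGroup Z] [Module A X] [Module A Y] [Module A Z]
    (f : X →ₗ[A] Y) (g : Y →ₗ[A] Z) (H : Function.Exact f g)
    [Module.Flat A (Z ⧸ LinearMap.range g)]
    (N : Type u) [AddCommGroup N] [Module A N] :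
    Function.Exact (f.lTensor N) (g.lTensor N) := by
  have hinj : Function.Injective ((LinearMap.range g).subtype.lTensor N) :=
    LinearMap.lTensor_injective_of_exact_of_flat (LinearMap.range g).mkQ
      (Submodule.mkQ_surjective _) (LinearMap.range g).subtype (Submodule.subtype_injective _)
      (LinearMap.exact_subtype_mkQ _) N
  have hg : g = (LinearMap.range g).subtype ∘ₗ g.rangeRestrict := by
    ext x; rfl
  have hex : Function.Exact f g.rangeRestrict := by
    intro y
    rw [← H y]
    constructor
    · intro h; exact congrArg Subtype.val h
    · intro h; exact Subtype.ext h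
  have h1 : Function.Exact (f.lTensor N) (g.rangeRestrict.lTensor N) :=
    _root_.lTensor_exact N hex g.surjective_rangeRestrict
  rw [hg, LinearMap.lTensor_comp]
  exact h1.comp_injective _ hinj (map_zero _)

end Groth.Agent.Lib.Helper65
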