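import Groth.Agent.Lib.Helper65.Gonf2

set_option autoImplicit false
universe u

namespace Groth.Agent.Lib.Helper65.Gonf

open IsLocalRing Polynomial
open scoped Classical

set_option maxHeartbeats 400000 in
/-- flatness of a directed colimit of flat ring maps. -/
theorem flat_of_comp {ι : Type*} [Preorder ι] [Nonempty ι] [IsDirected ι (· ≤ ·)]
    (G : ι → Type*) [∀ i, CommRing (G i)] (f : ∀ i j, i ≤ j → G i →+* G j)
    [DirectedSystem G fun i j h => f i j h]
    {A : Type*} [CommRing A] (i₀ : ι) (a : ∀ j, i₀ ≤ j → A →+* G j)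
    (hcomp : ∀ j k (hj : i₀ ≤ j) (hjk : j ≤ k) (r : A), f j k hjk (a j hj r) = a k (hj.trans hjk) r)
    (hflat : ∀ j hj, (a j hj).Flat) :
    ((Ring.DirectLimit.of G (fun i j h => f i j h) i₀).comp (a i₀ le_rfl)).Flat := by
  set g := (Ring.DirectLimit.of G (fun i j h => f i j h) i₀).comp (a i₀ le_rfl) with hg
  have hfact : ∀ j (hj : i₀ ≤ j) (r : A),
      Ring.DirectLimit.of G (fun i j h => f i j h) j (a j hj r) = g r := by
    intro j hj r
    rw [← hcomp i₀ j le_rfl hj r, Ring.DirectLimit.of_f]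
    rfl
  have htrans : ∀ i j k (hij : i ≤ j) (hjk : j ≤ k) (y : G i),
      f j k hjk (f i j hij y) = f i k (hij.trans hjk) y := fun i j k hij hjk y =>
    DirectedSystem.map_map (f := fun i j h => f i j h) hij hjk y
  letI := g.toAlgebra
  have hsm : ∀ (r : A) (z : Ring.DirectLimit G fun i j h => f i j h), r • z = g r * z :=
    fun r z => rfl
  show Module.Flat A (Ring.DirectLimit G fun i j h => f i j h)
  refine Module.Flat.of_forall_isTrivialRelation ?_
  intro l c x hx
  simp only [hsm] at hx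
  choose jx yx hyx using fun k => Ring.DirectLimit.exists_of (x k)
  obtain ⟨j₁, hj₁⟩ := Finite.exists_le jx
  obtain ⟨j, hj₁j, hi₀j⟩ := exists_ge_ge j₁ i₀
  let y : Fin l → G j := fun k => f (jx k) j ((hj₁ k).trans hj₁j) (yx k)
  have hy : ∀ k, Ring.DirectLimit.of G (fun i j h => f i j h) j (y k) = x k := fun k => by
    rw [Ring.DirectLimit.of_f, hyx]
  have h0 : Ring.DirectLimit.of G (fun i j h => f i j h) j (∑ k, a j hi₀j (c k) * y k) = 0 := by
    rw [map_sum]
    simp only [map_mul, hy, hfact]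
    exact hx
  obtain ⟨j', hjj', hz⟩ := Ring.DirectLimit.of.zero_exact h0
  rw [map_sum] at hz
  simp only [map_mul, hcomp] at hz
  have hj' : i₀ ≤ j' := hi₀j.trans hjj'
  obtain ⟨m, z, w, hz1, hz2⟩ : ∃ (m : ℕ) (z : Fin l → Fin m → A) (w : Fin m → G j'),
      (∀ k, f j j' hjj' (y k) = ∑ t, a j' hj' (z k t) * w t) ∧ ∀ t, ∑ k, c k * z k t = 0 := by
    letI := (a j' hj').toAlgebra
    haveI : Module.Flat A (G j') := hflat j' hj'
    have hsm' : ∀ (r : A) (z : G j'), r • z = a j' hj' r * z := fun r z => rfl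
    have hz' : ∑ k, c k • f j j' hjj' (y k) = 0 := by
      simp only [hsm']
      exact hz
    obtain ⟨m, z, w, h1, h2⟩ := Module.Flat.isTrivialRelation_of_sum_smul_eq_zero (R := A)
      (M := G j') (f := c) (x := fun k => f j j' hjj' (y k)) hz'
    refine ⟨m, z, w, fun k => ?_, h2⟩
    have := h1 k
    simp only [hsm'] at this
    exact this
  refine ⟨m, z, fun t => Ring.DirectLimit.of G (fun i j h => f i j h) j' (w t), fun k => ?_, hz2⟩
  rw [← hy k, ← Ring.DirectLimit.of_f hjj', hz1 k, map_sum]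
  simp only [map_mul, hfact, hsm]

end Groth.Agent.Lib.Helper65.Gonf
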