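import Groth.Agent.Lib.Helper65.Gonf4

set_option autoImplicit false
universe u

namespace Groth.Agent.Lib.Helper65.Gonf

open IsLocalRing Polynomial
open scoped Classical

variable (R : Type u) [CommRing R] [IsLocalRing R] (K : Type u) [Field K]
  [Algebra (ResidueField R) K]

/-- **Gonflement**: there is a stage whose residue map is onto `K`. -/
theorem exists_surjective_stage : ∃ s : Stage R K, Function.Surjective s.res := by
  obtain ⟨m, hm⟩ := exists_maximal_of_chains_bounded (r := Stage.le (R := R) (K := K)) (by
    intro c hc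
    by_cases hne : c.Nonempty
    · by_cases hmax : ∃ m ∈ c, ∀ s ∈ c, Stage.le s m
      · obtain ⟨m, -, hm⟩ := hmax
        exact ⟨m, hm⟩
      · push Not at hmax
        exact Stage.exists_upper_bound_of_no_max c hc hne hmax
    · refine ⟨Stage.base, fun s hs => ?_⟩
      exact absurd ⟨s, hs⟩ hne) (fun h1 h2 => Stage.le_trans h1 h2)
  refine ⟨m, fun a => ?_⟩
  by_contra ha
  obtain ⟨t, hmt, hat⟩ := m.exists_extension a ha
  exact ha (Stage.range_subset (hm t hmt) hat)

end Groth.Agent.Lib.Helper65.Gonf
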