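import Mathlib
import Groth.Agent.Lib.Helper83.RegQuot
import Groth.Agent.Lib.Helper29.CM
import Groth.Agent.S5671

/-!
# Presentation independence of complete intersections (helper65)

`IsCI R J` : the ideal `J` of `R` satisfies `μ(J) + dim R/J ≤ dim R`.  Over a Cohen–Macaulay local
ring this says that `J` is generated by a regular sequence.  For regular local rings the notion
passes up and down along surjections of regular local rings (`isCI_comap`, `isCI_map`), hence is
independent of the presentation (`isCI_of_isCI`).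
-/

set_option autoImplicit false
universe u

namespace Groth.Agent.Lib.Helper65.CIPres

open IsLocalRing RingTheory.Sequence Groth.Agent.Lib.Helper83.RegQuot
  Groth.Agent.Lib.Helper29 Groth.Agent.Lib.Helper29.CMLib

/-- `μ(J) + dim R/J ≤ dim R`. -/
def IsCI (R : Type u) [CommRing R] (J : Ideal R) : Prop :=
  (J.spanFinrank : WithBot ℕ∞) + ringKrullDim (R ⧸ J) ≤ ringKrullDim R

section Basic

variable {R : Type u} [CommRing R]

theorem ofList_eq_span_toFinset [DecidableEq R] (rs : List R) :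
    Ideal.ofList rs = Ideal.span (rs.toFinset : Set R) := by
  unfold Ideal.ofList
  congr 1
  ext x
  simp

theorem spanFinrank_ofList_le (rs : List R) : (Ideal.ofList rs).spanFinrank ≤ rs.length := by
  classical
  rw [ofList_eq_span_toFinset]
  have := Submodule.spanFinrank_span_le_ncard_of_finite (R := R) (Finset.finite_toSet rs.toFinset)
  rw [Set.ncard_coe_finset] at this
  exact this.trans (List.toFinset_card_le rs)

theorem exists_list_of_fg (J : Ideal R) (hJ : J.FG) :
    ∃ rs : List R, Ideal.ofList rs = J ∧ rs.length = J.spanFinrank := by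
  classical
  obtain ⟨s, hcard, hspan⟩ := Submodule.FG.exists_span_finset_card_eq_spanFinrank hJ
  refine ⟨s.toList, ?_, by rw [Finset.length_toList, hcard]⟩
  rw [ofList_eq_span_toFinset, Finset.toList_toFinset]
  exact hspan

/-- transport along a ring isomorphism -/
theorem IsCI.map_ringEquiv {R' : Type u} [CommRing R'] (e : R ≃+* R') {J : Ideal R}
    (h : IsCI R J) : IsCI R' (J.map (e : R →+* R')) := by
  unfold IsCI at h ⊢
  have h1 : (J.map (e : R →+* R')).spanFinrank = J.spanFinrank :=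
    Ideal.spanFinrank_map_eq_of_ringEquiv e J
  have h2 : ringKrullDim (R' ⧸ J.map (e : R →+* R')) = ringKrullDim (R ⧸ J) :=
    (ringKrullDim_eq_of_ringEquiv (Ideal.quotientEquiv J (J.map (e : R →+* R')) e rfl)).symm
  rw [h1, h2, ← ringKrullDim_eq_of_ringEquiv e]
  exact h

end Basic

section CM

variable (R : Type u) [CommRing R] [hR : LocCoh.IsCohenMacaulayLocalRing R]

theorem smul_top_eq (J : Ideal R) : J • (⊤ : Submodule R R) = J := by
  rw [smul_eq_mul, Ideal.mul_top]

/-- Over a Cohen–Macaulay local ring, `IsCI` means generated by a regular sequence. -/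
theorem isCI_iff (J : Ideal R) (hJ : J ≠ ⊤) :
    IsCI R J ↔ ∃ rs : List R, IsRegular R rs ∧ Ideal.ofList rs = J := by
  haveI : IsNoetherianRing R := inferInstance
  haveI : IsLocalRing R := inferInstance
  have hCM : LocCoh.IsCohenMacaulayModule R R := hR.supportDim_eq_depth
  have hJm : J ≤ maximalIdeal R := IsLocalRing.le_maximalIdeal hJ
  constructor
  · intro h
    obtain ⟨rs, hrs, hlen⟩ := exists_list_of_fg J (J.fg_of_isNoetherianRing)
    have hmem : ∀ x ∈ rs, x ∈ maximalIdeal R := fun x hx =>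
      hJm (hrs ▸ Ideal.subset_span hx)
    refine ⟨rs, ⟨?_, ?_⟩, hrs⟩
    · refine ((isWeaklyRegular_iff_of_isCM R rs R hCM hmem).1).2 ?_
      rw [smul_top_eq, hrs, Module.supportDim_quotient_eq_ringKrullDim,
        Module.supportDim_self_eq_ringKrullDim]
      apply le_antisymm
      · unfold IsCI at h
        rw [hlen, add_comm]
        exact h
      · have := supportDim_le_quotient_add_length R rs R hmem
        rwa [smul_top_eq, hrs, Module.supportDim_quotient_eq_ringKrullDim,
          Module.supportDim_self_eq_ringKrullDim] at this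
    · rw [smul_top_eq, hrs]
      exact hJ.symm
  · rintro ⟨rs, hreg, hrs⟩
    have hmem : ∀ x ∈ rs, x ∈ maximalIdeal R := fun x hx =>
      hJm (hrs ▸ Ideal.subset_span hx)
    have h1 := ((isWeaklyRegular_iff_of_isCM R rs R hCM hmem).1).1 hreg.toIsWeaklyRegular
    rw [smul_top_eq, hrs, Module.supportDim_quotient_eq_ringKrullDim,
      Module.supportDim_self_eq_ringKrullDim] at h1
    unfold IsCI
    rw [← h1, add_comm]
    gcongr
    have := spanFinrank_ofList_le rs
    rw [hrs] at this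
    exact_mod_cast this

end CM


section Reg

/-- a regular local ring is Cohen–Macaulay -/
theorem isCM_of_isRegularLocalRing (R : Type u) [CommRing R] [IsRegularLocalRing R] :
    LocCoh.IsCohenMacaulayLocalRing R :=
  LocCoh.IsCohenMacaulayLocalRing.mk (Groth.Agent.S5671.isCM_of_regular R)

theorem dim_quotient_comap {R₃ R₂ : Type u} [CommRing R₃] [CommRing R₂] (ρ : R₃ →+* R₂)
    (hρ : Function.Surjective ρ) (J : Ideal R₂) :
    ringKrullDim (R₃ ⧸ J.comap ρ) = ringKrullDim (R₂ ⧸ J) := by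
  have hf : Function.Surjective ((Ideal.Quotient.mk J).comp ρ) :=
    Ideal.Quotient.mk_surjective.comp hρ
  have hker : RingHom.ker ((Ideal.Quotient.mk J).comp ρ) = J.comap ρ := by
    rw [← RingHom.comap_ker, Ideal.mk_ker]
  exact (ringKrullDim_eq_of_ringEquiv
    ((RingHom.quotientKerEquivOfSurjective hf).symm.trans (Ideal.quotEquivOfEq hker))).symm

/-- going up along a surjection of regular local rings -/
theorem IsCI.comap {R₃ R₂ : Type u} [CommRing R₃] [CommRing R₂] [IsRegularLocalRing R₃]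
    [IsRegularLocalRing R₂] (ρ : R₃ →+* R₂) (hρ : Function.Surjective ρ) {J : Ideal R₂}
    (h : IsCI R₂ J) : IsCI R₃ (J.comap ρ) := by
  classical
  haveI : IsRegularLocalRing (R₃ ⧸ RingHom.ker ρ) :=
    IsRegularLocalRing.of_ringEquiv (RingHom.quotientKerEquivOfSurjective hρ).symm
  have hK := spanFinrank_add_le_of_isRegularLocalRing_quotient (RingHom.ker ρ)
  have h1 : ((maximalIdeal R₃).spanFinrank : WithBot ℕ∞) = ringKrullDim R₃ :=
    IsRegularLocalRing.spanFinrank_maximalIdeal
  have h2 : ((maximalIdeal (R₃ ⧸ RingHom.ker ρ)).spanFinrank : WithBot ℕ∞) =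
      ringKrullDim (R₃ ⧸ RingHom.ker ρ) := IsRegularLocalRing.spanFinrank_maximalIdeal
  have h3 : ringKrullDim (R₃ ⧸ RingHom.ker ρ) = ringKrullDim R₂ :=
    ringKrullDim_eq_of_ringEquiv (RingHom.quotientKerEquivOfSurjective hρ)
  -- generators
  obtain ⟨s, hcard, hspan⟩ := Submodule.FG.exists_span_finset_card_eq_spanFinrank
    (J.fg_of_isNoetherianRing)
  obtain ⟨g, hg⟩ := hρ.hasRightInverse
  have hcomap : J.comap ρ = Ideal.span ((s.image g : Finset R₃) : Set R₃) ⊔ RingHom.ker ρ := by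
    have : J = (Ideal.span ((s.image g : Finset R₃) : Set R₃)).map ρ := by
      rw [Ideal.map_span, Finset.coe_image, ← Set.image_comp]
      have : (ρ ∘ g) = id := funext hg
      rw [this, Set.image_id]
      exact hspan.symm
    rw [this, Ideal.comap_map_of_surjective ρ hρ, ← RingHom.ker_eq_comap_bot]
  have hμ : (J.comap ρ).spanFinrank ≤ J.spanFinrank + (RingHom.ker ρ).spanFinrank := by
    have hfg1 : (Ideal.span ((s.image g : Finset R₃) : Set R₃)).FG := ⟨_, rfl⟩
    have hfg2 : (RingHom.ker ρ).FG := (RingHom.ker ρ).fg_of_isNoetherianRing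
    have hfg : (J.comap ρ).FG := (J.comap ρ).fg_of_isNoetherianRing
    have h4 := Submodule.spanRank_sup_le_sum_spanRank
      (p := Ideal.span ((s.image g : Finset R₃) : Set R₃)) (q := RingHom.ker ρ)
    rw [← hcomap, Submodule.FG.spanRank_eq_spanFinrank hfg,
      Submodule.FG.spanRank_eq_spanFinrank hfg1, Submodule.FG.spanRank_eq_spanFinrank hfg2] at h4
    have h5 : (J.comap ρ).spanFinrank ≤ (Ideal.span ((s.image g : Finset R₃) : Set R₃)).spanFinrank
        + (RingHom.ker ρ).spanFinrank := by exact_mod_cast h4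
    have h6 : (Ideal.span ((s.image g : Finset R₃) : Set R₃)).spanFinrank ≤ (s.image g).card := by
      have := Submodule.spanFinrank_span_le_ncard_of_finite (R := R₃)
        (Finset.finite_toSet (s.image g))
      rwa [Set.ncard_coe_finset] at this
    have h7 : (s.image g).card ≤ s.card := Finset.card_image_le
    omega
  unfold IsCI at h ⊢
  rw [dim_quotient_comap ρ hρ J]
  rw [← h1]
  rw [← h3, ← h2] at h
  -- now arithmetic
  obtain ⟨a, ha⟩ : ∃ a : ℕ, ringKrullDim (R₂ ⧸ J) = (a : WithBot ℕ∞) ∨ ringKrullDim (R₂ ⧸ J) = ⊥ := by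
    rcases eq_or_ne (ringKrullDim (R₂ ⧸ J)) ⊥ with hb | hb
    · exact ⟨0, Or.inr hb⟩
    · have hlt : ringKrullDim (R₂ ⧸ J) < ⊤ :=
        lt_of_le_of_lt (ringKrullDim_quotient_le J) ringKrullDim_lt_top
      obtain ⟨x, hx⟩ := WithBot.ne_bot_iff_exists.1 hb
      have hx' : x ≠ ⊤ := by
        rintro rfl
        rw [← hx] at hlt
        exact lt_irrefl _ hlt
      exact ⟨x.toNat, Or.inl (by rw [← hx, ← ENat.coe_toNat hx']; rfl)⟩
  rcases ha with ha | ha
  · rw [ha] at h ⊢
    have h' : J.spanFinrank + a ≤ (maximalIdeal (R₃ ⧸ RingHom.ker ρ)).spanFinrank := by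
      exact_mod_cast h
    have : (J.comap ρ).spanFinrank + a ≤ (maximalIdeal R₃).spanFinrank := by omega
    exact_mod_cast this
  · rw [ha, WithBot.add_bot]
    exact bot_le

end Reg


section Down

/-- If `x ∈ J \ m²`, then `J/(x)` is generated by one element less than `J`. -/
theorem spanFinrank_map_quot_succ_le (R : Type u) [CommRing R] [IsLocalRing R]
    [IsNoetherianRing R] (J : Ideal R) (hJ : J ≤ maximalIdeal R) (x : R) (hx : x ∈ J)
    (hx2 : x ∉ (maximalIdeal R) ^ 2) :
    (J.map (Ideal.Quotient.mk (Ideal.span ({x} : Set R)))).spanFinrank + 1 ≤ J.spanFinrank := by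
  classical
  set π := Ideal.Quotient.mk (Ideal.span ({x} : Set R)) with hπ
  have hπs : Function.Surjective π := Ideal.Quotient.mk_surjective
  have hfg : J.FG := J.fg_of_isNoetherianRing
  obtain ⟨s, hcard, hspan⟩ := Submodule.FG.exists_span_finset_card_eq_spanFinrank hfg
  have hxs : x ∈ Submodule.span R (s : Set R) := by rw [hspan]; exact hx
  obtain ⟨f, hfs, hfx⟩ := Submodule.mem_span_finset.1 hxs
  have hex : ∃ j ∈ s, IsUnit (f j) := by
    by_contra hcon
    push Not at hcon
    apply hx2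
    rw [← hfx, pow_two]
    refine Ideal.sum_mem _ fun i hi => ?_
    have h1 : f i ∈ maximalIdeal R := (mem_maximalIdeal _).2 (hcon i hi)
    have h2 : i ∈ maximalIdeal R := by
      apply hJ
      rw [← hspan]; exact Submodule.subset_span hi
    exact Ideal.mul_mem_mul h1 h2
  obtain ⟨j, hj, hju⟩ := hex
  have hπx : π x = 0 := by
    rw [hπ, Ideal.Quotient.eq_zero_iff_mem]; exact Ideal.subset_span rfl
  have hsum : π (f j) * π j = - ∑ i ∈ s.erase j, π (f i) * π i := by
    have := congrArg π hfx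
    rw [map_sum, hπx, ← Finset.add_sum_erase s _ hj] at this
    simp only [smul_eq_mul, map_mul] at this
    rw [eq_neg_iff_add_eq_zero]
    exact this
  have hjmem : π j ∈ Ideal.span ((s.erase j).image π : Set (R ⧸ Ideal.span ({x} : Set R))) := by
    have hu : IsUnit (π (f j)) := hju.map π
    obtain ⟨u, hu'⟩ := hu
    have : π j = ↑u⁻¹ * (π (f j) * π j) := by
      rw [← mul_assoc, ← hu', Units.inv_mul, one_mul]
    rw [this, hsum]
    refine Ideal.mul_mem_left _ _ (neg_mem (Ideal.sum_mem _ fun i hi => ?_))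
    refine Ideal.mul_mem_left _ _ (Ideal.subset_span ?_)
    simp only [Finset.coe_image, Set.mem_image, Finset.mem_coe]
    exact ⟨i, hi, rfl⟩
  have hgen : J.map π =
      Ideal.span ((s.erase j).image π : Set (R ⧸ Ideal.span ({x} : Set R))) := by
    have : J = Ideal.span (s : Set R) := hspan.symm
    rw [this, Ideal.map_span]
    apply le_antisymm
    · rw [Ideal.span_le]
      rintro _ ⟨i, hi, rfl⟩
      by_cases hij : i = j
      · rw [hij]; exact hjmem
      · apply Ideal.subset_span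
        simp only [Finset.coe_image, Set.mem_image, Finset.mem_coe]
        exact ⟨i, Finset.mem_erase.2 ⟨hij, hi⟩, rfl⟩
    · apply Ideal.span_mono
      simp only [Finset.coe_image]
      exact Set.image_mono (Finset.coe_subset.2 (Finset.erase_subset _ _))
  have h1 : (J.map π).spanFinrank ≤ ((s.erase j).image π).card := by
    rw [hgen]
    have := Submodule.spanFinrank_span_le_ncard_of_finite (R := R ⧸ Ideal.span ({x} : Set R))
      (Finset.finite_toSet ((s.erase j).image π))
    rwa [Set.ncard_coe_finset] at this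
  have h2 : ((s.erase j).image π).card ≤ (s.erase j).card := Finset.card_image_le
  have h3 : (s.erase j).card + 1 = s.card := Finset.card_erase_add_one hj
  omega

/-- `dim R/J` as a natural number or `⊥`. -/
theorem exists_nat_dim_quotient (R : Type u) [CommRing R] [IsLocalRing R] [IsNoetherianRing R]
    (J : Ideal R) :
    ringKrullDim (R ⧸ J) = ⊥ ∨ ∃ a : ℕ, ringKrullDim (R ⧸ J) = (a : WithBot ℕ∞) := by
  rcases eq_or_ne (ringKrullDim (R ⧸ J)) ⊥ with hb | hb
  · exact Or.inl hb
  · have hlt : ringKrullDim (R ⧸ J) < ⊤ :=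
      lt_of_le_of_lt (ringKrullDim_quotient_le J) ringKrullDim_lt_top
    obtain ⟨x, hx⟩ := WithBot.ne_bot_iff_exists.1 hb
    have hx' : x ≠ ⊤ := by
      rintro rfl
      rw [← hx] at hlt
      exact lt_irrefl _ hlt
    exact Or.inr ⟨x.toNat, by rw [← hx, ← ENat.coe_toNat hx']; rfl⟩

/-- one step down: dividing by `x ∈ J \ m²` -/
theorem IsCI.quot_singleton (R : Type u) [CommRing R] [IsRegularLocalRing R] (J : Ideal R)
    (hJ : J ≠ ⊤) (x : R) (hx : x ∈ J) (hx2 : x ∉ (maximalIdeal R) ^ 2) (h : IsCI R J) :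
    IsCI (R ⧸ Ideal.span ({x} : Set R)) (J.map (Ideal.Quotient.mk (Ideal.span ({x} : Set R)))) := by
  have hJm : J ≤ maximalIdeal R := IsLocalRing.le_maximalIdeal hJ
  obtain ⟨hreg, hμ⟩ := Groth.Agent.S0558.isRegularLocalRing_quot R x (hJm hx) hx2
  have h1 : ((maximalIdeal R).spanFinrank : WithBot ℕ∞) = ringKrullDim R :=
    IsRegularLocalRing.spanFinrank_maximalIdeal
  have h2 : ((maximalIdeal (R ⧸ Ideal.span ({x} : Set R))).spanFinrank : WithBot ℕ∞) =
      ringKrullDim (R ⧸ Ideal.span ({x} : Set R)) := IsRegularLocalRing.spanFinrank_maximalIdeal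
  have hle : Ideal.span ({x} : Set R) ≤ J := (Ideal.span_singleton_le_iff_mem _).2 hx
  have h3 : ringKrullDim ((R ⧸ Ideal.span ({x} : Set R)) ⧸
      J.map (Ideal.Quotient.mk (Ideal.span ({x} : Set R)))) = ringKrullDim (R ⧸ J) :=
    ringKrullDim_eq_of_ringEquiv (DoubleQuot.quotQuotEquivQuotOfLE hle)
  have h4 := spanFinrank_map_quot_succ_le R J hJm x hx hx2
  unfold IsCI at h ⊢
  rw [h3, ← h2]
  rw [← h1] at h
  rcases exists_nat_dim_quotient R J with hb | ⟨a, ha⟩
  · rw [hb, WithBot.add_bot]; exact bot_le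
  · rw [ha] at h ⊢
    have h' : J.spanFinrank + a ≤ (maximalIdeal R).spanFinrank := by exact_mod_cast h
    have : (J.map (Ideal.Quotient.mk (Ideal.span ({x} : Set R)))).spanFinrank + a ≤
        (maximalIdeal (R ⧸ Ideal.span ({x} : Set R))).spanFinrank := by omega
    exact_mod_cast this

theorem isCI_quot_aux : ∀ (d : ℕ) (R : Type u) [CommRing R] [IsRegularLocalRing R]
    (K : Ideal R) [IsRegularLocalRing (R ⧸ K)],
    (maximalIdeal R).spanFinrank = (maximalIdeal (R ⧸ K)).spanFinrank + d →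
      ∀ J : Ideal R, K ≤ J → J ≠ ⊤ → IsCI R J → IsCI (R ⧸ K) (J.map (Ideal.Quotient.mk K)) := by
  intro d
  induction d with
  | zero =>
    intro R _ _ K _ h J hKJ hJ hCI
    have : IsDomain R := Groth.Agent.S0558.result R
    have h1 : ringKrullDim R = ((maximalIdeal R).spanFinrank : ℕ) :=
      (IsRegularLocalRing.spanFinrank_maximalIdeal (R := R)).symm
    have h2 : ringKrullDim (R ⧸ K) = ((maximalIdeal R).spanFinrank : ℕ) := by
      rw [h, add_zero]
      exact (IsRegularLocalRing.spanFinrank_maximalIdeal (R := R ⧸ K)).symm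
    have hK := eq_bot_of_ringKrullDim_quotient_eq K _ h1 h2
    have := hCI.map_ringEquiv ((RingEquiv.quotientBot R).symm.trans
      (Ideal.quotEquivOfEq hK.symm))
    convert this using 2
    ext y
    simp
  | succ d ih =>
    intro R _ _ K _ h J hKJ hJ hCI
    have hKne : K ≠ ⊤ := by
      intro hK
      have : Subsingleton (R ⧸ K) := Ideal.Quotient.subsingleton_iff.2 hK
      exact not_subsingleton (R ⧸ K) this
    have hKm : K ≤ maximalIdeal R := IsLocalRing.le_maximalIdeal hKne
    have hnot : ¬ K ≤ maximalIdeal R ^ 2 := by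
      intro hle
      have := spanFinrank_maximalIdeal_le_of_le_sq K hle
      omega
    obtain ⟨x, hxK, hx2⟩ := Set.not_subset.1 hnot
    have hxm : x ∈ maximalIdeal R := hKm hxK
    obtain ⟨hreg, hμ⟩ := Groth.Agent.S0558.isRegularLocalRing_quot R x hxm hx2
    have hle : Ideal.span ({x} : Set R) ≤ K := (Ideal.span_singleton_le_iff_mem _).2 hxK
    let e : ((R ⧸ Ideal.span ({x} : Set R)) ⧸
        K.map (Ideal.Quotient.mk (Ideal.span ({x} : Set R)))) ≃+* R ⧸ K :=
      DoubleQuot.quotQuotEquivQuotOfLE hle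
    have hreg' : IsRegularLocalRing ((R ⧸ Ideal.span ({x} : Set R)) ⧸
        K.map (Ideal.Quotient.mk (Ideal.span ({x} : Set R)))) :=
      IsRegularLocalRing.of_ringEquiv e.symm
    have hμ' : (maximalIdeal ((R ⧸ Ideal.span ({x} : Set R)) ⧸
        K.map (Ideal.Quotient.mk (Ideal.span ({x} : Set R))))).spanFinrank =
          (maximalIdeal (R ⧸ K)).spanFinrank := by
      have h1 : ((maximalIdeal ((R ⧸ Ideal.span ({x} : Set R)) ⧸
        K.map (Ideal.Quotient.mk (Ideal.span ({x} : Set R))))).spanFinrank : WithBot ℕ∞) =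
          ringKrullDim ((R ⧸ Ideal.span ({x} : Set R)) ⧸
        K.map (Ideal.Quotient.mk (Ideal.span ({x} : Set R)))) :=
        IsRegularLocalRing.spanFinrank_maximalIdeal
      have h2 : ((maximalIdeal (R ⧸ K)).spanFinrank : WithBot ℕ∞) = ringKrullDim (R ⧸ K) :=
        IsRegularLocalRing.spanFinrank_maximalIdeal
      rw [ringKrullDim_eq_of_ringEquiv e, ← h2] at h1
      exact_mod_cast h1
    have hCI' := IsCI.quot_singleton R J hJ x (hKJ hxK) hx2 hCI
    have hJ' : J.map (Ideal.Quotient.mk (Ideal.span ({x} : Set R))) ≠ ⊤ := by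
      intro htop
      apply hJ
      have := congrArg (Ideal.comap (Ideal.Quotient.mk (Ideal.span ({x} : Set R)))) htop
      rw [Ideal.comap_map_of_surjective _ Ideal.Quotient.mk_surjective, Ideal.comap_top,
        ← RingHom.ker_eq_comap_bot, Ideal.mk_ker, sup_eq_left.2 (hle.trans hKJ)] at this
      exact this
    have hih := ih (R ⧸ Ideal.span ({x} : Set R))
      (K.map (Ideal.Quotient.mk (Ideal.span ({x} : Set R)))) (by omega)
      (J.map (Ideal.Quotient.mk (Ideal.span ({x} : Set R)))) (Ideal.map_mono hKJ) hJ' hCI'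
    have := hih.map_ringEquiv e
    convert this using 1
    rw [Ideal.map_map, Ideal.map_map]
    congr 1

end Down


section PI

/-- going down along a surjection of regular local rings -/
theorem IsCI.map {R₃ R₁ : Type u} [CommRing R₃] [CommRing R₁] [IsRegularLocalRing R₃]
    [IsRegularLocalRing R₁] (ρ : R₃ →+* R₁) (hρ : Function.Surjective ρ) {J : Ideal R₃}
    (hK : RingHom.ker ρ ≤ J) (hJ : J ≠ ⊤) (h : IsCI R₃ J) : IsCI R₁ (J.map ρ) := by
  let e : (R₃ ⧸ RingHom.ker ρ) ≃+* R₁ := RingHom.quotientKerEquivOfSurjective hρ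
  haveI : IsRegularLocalRing (R₃ ⧸ RingHom.ker ρ) := IsRegularLocalRing.of_ringEquiv e.symm
  have h1 : ((maximalIdeal R₃).spanFinrank : WithBot ℕ∞) = ringKrullDim R₃ :=
    IsRegularLocalRing.spanFinrank_maximalIdeal
  have h2 : ((maximalIdeal (R₃ ⧸ RingHom.ker ρ)).spanFinrank : WithBot ℕ∞) =
      ringKrullDim (R₃ ⧸ RingHom.ker ρ) := IsRegularLocalRing.spanFinrank_maximalIdeal
  have h3 : ringKrullDim (R₃ ⧸ RingHom.ker ρ) ≤ ringKrullDim R₃ := ringKrullDim_quotient_le _
  rw [← h1, ← h2] at h3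
  have h3' : (maximalIdeal (R₃ ⧸ RingHom.ker ρ)).spanFinrank ≤ (maximalIdeal R₃).spanFinrank := by
    exact_mod_cast h3
  obtain ⟨d, hd⟩ := Nat.exists_eq_add_of_le h3'
  have := (isCI_quot_aux d R₃ (RingHom.ker ρ) hd J hK hJ h).map_ringEquiv e
  convert this using 1
  rw [Ideal.map_map]
  congr 1

/-- **Presentation independence.**  Let `R₁ → A ← R₂` be surjections from regular local rings
dominated by a common regular local ring `R₃`.  If the kernel of `R₁ → A` is generated by a regular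
sequence, so is the kernel of `R₂ → A`. -/
theorem isCI_of_isCI {R₁ R₂ R₃ A : Type u} [CommRing R₁] [CommRing R₂] [CommRing R₃] [CommRing A]
    [Nontrivial A] [IsRegularLocalRing R₁] [IsRegularLocalRing R₂] [IsRegularLocalRing R₃]
    (π₁ : R₁ →+* A) (π₂ : R₂ →+* A) (ρ₁ : R₃ →+* R₁) (ρ₂ : R₃ →+* R₂)
    (hρ₁ : Function.Surjective ρ₁) (hρ₂ : Function.Surjective ρ₂)
    (hcomm : π₁.comp ρ₁ = π₂.comp ρ₂) (h : IsCI R₁ (RingHom.ker π₁)) :
    IsCI R₂ (RingHom.ker π₂) := by
  have h3 := h.comap ρ₁ hρ₁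
  have hker : (RingHom.ker π₁).comap ρ₁ = (RingHom.ker π₂).comap ρ₂ := by
    rw [RingHom.comap_ker, RingHom.comap_ker, hcomm]
  rw [hker] at h3
  have hne : (RingHom.ker π₂).comap ρ₂ ≠ ⊤ := by
    rw [RingHom.comap_ker]
    exact RingHom.ker_ne_top _
  have hK : RingHom.ker ρ₂ ≤ (RingHom.ker π₂).comap ρ₂ := by
    rw [RingHom.ker_eq_comap_bot]
    exact Ideal.comap_mono bot_le
  have := h3.map ρ₂ hρ₂ hK hne
  rwa [Ideal.map_comap_of_surjective ρ₂ hρ₂] at this

end PI


section R3

theorem comap_maximalIdeal_of_surjective {R A : Type u} [CommRing R] [CommRing A] [IsLocalRing R]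
    [IsLocalRing A] (π : R →+* A) (hπ : Function.Surjective π) :
    (maximalIdeal A).comap π = maximalIdeal R := by
  have hloc : IsLocalHom π := IsLocalHom.of_surjective π hπ
  ext y
  simp only [Ideal.mem_comap, mem_maximalIdeal, mem_nonunits_iff]
  exact not_congr (isUnit_map_iff π y)

/-- Two local `k`-algebras essentially of finite type surjecting onto the same ring are dominated
by a common regular local ring. -/
theorem exists_common_regular (k : Type u) [Field k] (R₁ R₂ A : Type u) [CommRing R₁]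
    [CommRing R₂] [CommRing A] [IsLocalRing R₁] [IsLocalRing R₂] [Nontrivial A]
    [Algebra k R₁] [Algebra k R₂] [Algebra k A] [Algebra.EssFiniteType k R₁]
    [Algebra.EssFiniteType k R₂] (π₁ : R₁ →ₐ[k] A) (π₂ : R₂ →ₐ[k] A)
    (hπ₁ : Function.Surjective π₁) (hπ₂ : Function.Surjective π₂) :
    ∃ (R₃ : Type u) (_ : CommRing R₃) (_ : IsRegularLocalRing R₃) (ρ₁ : R₃ →+* R₁)
      (ρ₂ : R₃ →+* R₂), Function.Surjective ρ₁ ∧ Function.Surjective ρ₂ ∧
        π₁.toRingHom.comp ρ₁ = π₂.toRingHom.comp ρ₂ := by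
  classical
  haveI : IsLocalRing A := IsLocalRing.of_surjective' π₁.toRingHom hπ₁
  obtain ⟨t₁, ht₁⟩ : ∃ t : Finset R₁, t = Algebra.EssFiniteType.finset k R₁ := ⟨_, rfl⟩
  obtain ⟨t₂, ht₂⟩ : ∃ t : Finset R₂, t = Algebra.EssFiniteType.finset k R₂ := ⟨_, rfl⟩
  have hl : ∀ z : R₂, ∃ y : R₁, π₁ y = π₂ z := fun z => hπ₁ (π₂ z)
  have hm : ∀ z : R₁, ∃ y : R₂, π₂ y = π₁ z := fun z => hπ₂ (π₁ z)
  choose lam hlam using hl
  choose mu hmu using hm
  let β₁ : MvPolynomial (↥t₁ ⊕ ↥t₂) k →ₐ[k] R₁ :=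
    MvPolynomial.aeval (Sum.elim (fun z => (z : R₁)) (fun z => lam (z : R₂)))
  let β₂ : MvPolynomial (↥t₁ ⊕ ↥t₂) k →ₐ[k] R₂ :=
    MvPolynomial.aeval (Sum.elim (fun z => mu (z : R₁)) (fun z => (z : R₂)))
  have hβ : π₁.comp β₁ = π₂.comp β₂ := by
    apply MvPolynomial.algHom_ext
    rintro (z | z)
    · simp [β₁, β₂, hmu]
    · simp [β₁, β₂, hlam]
  have hβ' : ∀ p, π₁ (β₁ p) = π₂ (β₂ p) := fun p => DFunLike.congr_fun hβ p
  obtain ⟨Q, hQ⟩ : ∃ Q : Ideal (MvPolynomial (↥t₁ ⊕ ↥t₂) k),
      Q = (maximalIdeal R₁).comap β₁.toRingHom := ⟨_, rfl⟩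
  haveI hQprime : Q.IsPrime := by rw [hQ]; exact Ideal.comap_isPrime _ _
  have hQ2 : Q = (maximalIdeal R₂).comap β₂.toRingHom := by
    rw [hQ, ← comap_maximalIdeal_of_surjective π₁.toRingHom hπ₁,
      ← comap_maximalIdeal_of_surjective π₂.toRingHom hπ₂, Ideal.comap_comap, Ideal.comap_comap]
    congr 1
    exact RingHom.ext fun p => hβ' p
  haveI : IsRegularRing (MvPolynomial (↥t₁ ⊕ ↥t₂) k) := inferInstance
  haveI : IsRegularLocalRing (Localization.AtPrime Q) := inferInstance
  have hu₁ : ∀ y : Q.primeCompl, IsUnit (β₁.toRingHom y) := by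
    rintro ⟨y, hy⟩
    have : y ∉ Q := hy
    rw [hQ, Ideal.mem_comap, mem_maximalIdeal, mem_nonunits_iff, not_not] at this
    exact this
  have hu₂ : ∀ y : Q.primeCompl, IsUnit (β₂.toRingHom y) := by
    rintro ⟨y, hy⟩
    have : y ∉ Q := hy
    rw [hQ2, Ideal.mem_comap, mem_maximalIdeal, mem_nonunits_iff, not_not] at this
    exact this
  let ρ₁ : Localization.AtPrime Q →+* R₁ := IsLocalization.lift hu₁
  let ρ₂ : Localization.AtPrime Q →+* R₂ := IsLocalization.lift hu₂
  have hρ₁c : ∀ p, ρ₁ (algebraMap _ (Localization.AtPrime Q) p) = β₁ p :=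
    fun p => IsLocalization.lift_eq hu₁ p
  have hρ₂c : ∀ p, ρ₂ (algebraMap _ (Localization.AtPrime Q) p) = β₂ p :=
    fun p => IsLocalization.lift_eq hu₂ p
  -- a general surjectivity argument
  have hsurj : ∀ (R : Type u) [CommRing R] [IsLocalRing R] [Algebra k R]
      [Algebra.EssFiniteType k R] (β : MvPolynomial (↥t₁ ⊕ ↥t₂) k →ₐ[k] R)
      (ρ : Localization.AtPrime Q →+* R)
      (hρc : ∀ p, ρ (algebraMap _ (Localization.AtPrime Q) p) = β p)
      (hQβ : Q = (maximalIdeal R).comap β.toRingHom)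
      (hrange : ∀ z ∈ Algebra.EssFiniteType.finset k R, z ∈ β.range), Function.Surjective ρ := by
    intro R _ _ _ _ β ρ hρc hQβ hrange r
    obtain ⟨a, s, rfl⟩ := IsLocalization.exists_mk'_eq (Algebra.EssFiniteType.submonoid k R) r
    have hadj : Algebra.EssFiniteType.subalgebra k R ≤ β.range := by
      apply Algebra.adjoin_le
      intro z hz
      exact hrange z hz
    obtain ⟨a', ha'0⟩ := hadj a.2
    obtain ⟨s', hs'0⟩ := hadj s.1.2
    have ha' : β a' = algebraMap (Algebra.EssFiniteType.subalgebra k R) R a := ha'0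
    have hs' : β s' = algebraMap (Algebra.EssFiniteType.subalgebra k R) R s.1 := hs'0
    have hsu : IsUnit (algebraMap (Algebra.EssFiniteType.subalgebra k R) R s.1) := s.2
    have hs'Q : s' ∉ Q := by
      rw [hQβ, Ideal.mem_comap, mem_maximalIdeal, mem_nonunits_iff, not_not]
      show IsUnit (β s')
      rw [hs']
      exact hsu
    refine ⟨IsLocalization.mk' (Localization.AtPrime Q) a' (⟨s', hs'Q⟩ : Q.primeCompl), ?_⟩
    have h1 : ρ (IsLocalization.mk' (Localization.AtPrime Q) a' (⟨s', hs'Q⟩ : Q.primeCompl)) *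
        β s' = β a' := by
      rw [← hρc s', ← map_mul, ← hρc a']
      congr 1
      exact IsLocalization.mk'_spec _ a' (⟨s', hs'Q⟩ : Q.primeCompl)
    have h2 : IsLocalization.mk' R a s * β s' = β a' := by
      rw [ha', hs']
      exact IsLocalization.mk'_spec R a s
    have hu : IsUnit (β s') := by rw [hs']; exact hsu
    exact hu.mul_left_injective (h1.trans h2.symm)
  refine ⟨Localization.AtPrime Q, inferInstance, inferInstance, ρ₁, ρ₂, ?_, ?_, ?_⟩
  · refine hsurj R₁ β₁ ρ₁ hρ₁c hQ ?_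
    intro z hz
    rw [← ht₁] at hz
    exact ⟨MvPolynomial.X (Sum.inl ⟨z, hz⟩), by simp [β₁]⟩
  · refine hsurj R₂ β₂ ρ₂ hρ₂c hQ2 ?_
    intro z hz
    rw [← ht₂] at hz
    exact ⟨MvPolynomial.X (Sum.inr ⟨z, hz⟩), by simp [β₂]⟩
  · apply IsLocalization.ringHom_ext Q.primeCompl
    refine RingHom.ext fun p => ?_
    simp only [RingHom.coe_comp, Function.comp_apply, AlgHom.toRingHom_eq_coe, RingHom.coe_coe]
    rw [hρ₁c, hρ₂c]
    exact hβ' p

end R3


section Main

/-- **Presentation independence** for local `k`-algebras essentially of finite type. -/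
theorem isCI_ker_of_isCI_ker (k : Type u) [Field k] (R₁ R₂ A : Type u) [CommRing R₁]
    [CommRing R₂] [CommRing A] [IsRegularLocalRing R₁] [IsRegularLocalRing R₂] [Nontrivial A]
    [Algebra k R₁] [Algebra k R₂] [Algebra k A] [Algebra.EssFiniteType k R₁]
    [Algebra.EssFiniteType k R₂] (π₁ : R₁ →ₐ[k] A) (π₂ : R₂ →ₐ[k] A)
    (hπ₁ : Function.Surjective π₁) (hπ₂ : Function.Surjective π₂)
    (h : IsCI R₁ (RingHom.ker π₁.toRingHom)) : IsCI R₂ (RingHom.ker π₂.toRingHom) := by
  obtain ⟨R₃, _, _, ρ₁, ρ₂, hρ₁, hρ₂, hcomm⟩ :=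
    exists_common_regular k R₁ R₂ A π₁ π₂ hπ₁ hπ₂
  exact isCI_of_isCI π₁.toRingHom π₂.toRingHom ρ₁ ρ₂ hρ₁ hρ₂ hcomm h

end Main

end Groth.Agent.Lib.Helper65.CIPres
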