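import Mathlib
import Groth.Agent.Lib.Helper65.CIPres
import Groth.Agent.Lib.Helper62.JacMinor
import Groth.Agent.Lib.Helper62.GCIField5
import Groth.Agent.S9142
import Groth.Agent.S9156

/-!
# Complete intersections over a field: local rings versus principal open neighbourhoods (helper65)
-/

set_option autoImplicit false
universe u

namespace Groth.Agent.Lib.Helper65.CIPres

open IsLocalRing RingTheory.Sequence Groth.Agent.Lib.Helper28.CMAux
  Groth.Agent.Lib.Helper29 Groth.Agent.Lib.Helper29.CMLib Groth.Agent.Lib.Helper62.DimLoc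
  Groth.Agent.Lib.Helper62.GCIField

section LocalAlgHom

variable (k : Type u) [Field k] {P A : Type u} [CommRing P] [CommRing A] [Algebra k P] [Algebra k A]

/-- the map induced on local rings by a `k`-algebra map, as a `k`-algebra map -/
noncomputable def localAlgHom (ψ : P →ₐ[k] A) (q : Ideal A) [q.IsPrime] :
    Localization.AtPrime (q.comap ψ.toRingHom) →ₐ[k] Localization.AtPrime q :=
  { Localization.localRingHom (q.comap ψ.toRingHom) q ψ.toRingHom rfl with
    commutes' := by
      intro a
      show Localization.localRingHom (q.comap ψ.toRingHom) q ψ.toRingHom rfl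
        (algebraMap k (Localization.AtPrime (q.comap ψ.toRingHom)) a) = _
      rw [IsScalarTower.algebraMap_apply k P (Localization.AtPrime (q.comap ψ.toRingHom)),
        Localization.localRingHom_to_map, IsScalarTower.algebraMap_apply k A (Localization.AtPrime q)]
      congr 1
      exact ψ.commutes a }

theorem localAlgHom_toRingHom (ψ : P →ₐ[k] A) (q : Ideal A) [q.IsPrime] :
    (localAlgHom k ψ q).toRingHom =
      Localization.localRingHom (q.comap ψ.toRingHom) q ψ.toRingHom rfl := rfl

theorem localAlgHom_surjective (ψ : P →ₐ[k] A) (hψ : Function.Surjective ψ) (q : Ideal A)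
    [q.IsPrime] : Function.Surjective (localAlgHom k ψ q) :=
  RingHom.surjective_localRingHom_of_surjective ψ.toRingHom hψ q

theorem ker_localAlgHom (ψ : P →ₐ[k] A) (hψ : Function.Surjective ψ) (q : Ideal A) [q.IsPrime] :
    RingHom.ker (localAlgHom k ψ q).toRingHom =
      (RingHom.ker ψ.toRingHom).map
        (algebraMap P (Localization.AtPrime (q.comap ψ.toRingHom))) :=
  Groth.Agent.Lib.Helper62.JacMinor.ker_localRingHom_eq_map ψ.toRingHom hψ q

end LocalAlgHom

section G1

variable (k : Type u) [Field k]

/-- the local rings of a global complete intersection presentation are complete intersections -/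
theorem isCI_of_pres (m c' : ℕ) (hc : c' ≤ m) (B : Type u) [CommRing B] [Algebra k B]
    (φ' : MvPolynomial (Fin m) k →ₐ[k] B) (F : Fin c' → MvPolynomial (Fin m) k)
    (hker : RingHom.ker φ'.toRingHom = Ideal.span (Set.range F))
    (hsurj : Function.Surjective φ')
    (hdim : ringKrullDim B = ((m - c' : ℕ) : WithBot ℕ∞)) (p : Ideal B) [p.IsPrime] :
    IsCI (Localization.AtPrime (p.comap φ'.toRingHom))
      ((RingHom.ker φ'.toRingHom).map
        (algebraMap _ (Localization.AtPrime (p.comap φ'.toRingHom)))) := by
  haveI : IsRegularRing (MvPolynomial (Fin m) k) := inferInstance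
  haveI hPCM : LocCoh.IsCohenMacaulayRing (MvPolynomial (Fin m) k) :=
    Groth.Agent.S18865.isCohenMacaulayRing_of_isRegularRing _
  have heq : ∀ q ∈ minimalPrimes (MvPolynomial (Fin m) k),
      ringKrullDim (MvPolynomial (Fin m) k ⧸ q) = m := by
    intro q hq
    rw [IsDomain.minimalPrimes_eq_singleton_bot, Set.mem_singleton_iff] at hq
    subst hq
    rw [ringKrullDim_eq_of_ringEquiv (RingEquiv.quotientBot _),
      MvPolynomial.ringKrullDim_of_isNoetherianRing, ringKrullDim_eq_zero_of_field, zero_add,
      Nat.card_fin]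
  have hI : RingHom.ker φ'.toRingHom = Ideal.ofList (List.ofFn F) := by
    rw [hker, Groth.Agent.S9142.ofList_ofFn]
  set f := List.ofFn F with hf
  have hflen : f.length = c' := by rw [hf, List.length_ofFn]
  have hle : ringKrullDim (MvPolynomial (Fin m) k ⧸ Ideal.ofList f) ≤
      ((m - f.length : ℕ) : WithBot ℕ∞) := by
    rw [hflen, ← hdim, ← ringKrullDim_eq_of_ringEquiv
      (RingHom.quotientKerEquivOfSurjective (f := φ'.toRingHom) hsurj),
      ringKrullDim_eq_of_ringEquiv (Ideal.quotEquivOfEq hI)]
  have key : ∀ (Q : Ideal (MvPolynomial (Fin m) k)) [Q.IsPrime], Ideal.ofList f ≤ Q →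
      IsCI (Localization.AtPrime Q) ((Ideal.ofList f).map (algebraMap _ (Localization.AtPrime Q))) := by
    intro Q _ hfQ
    have hreg := (Groth.Agent.S9154.key k (MvPolynomial (Fin m) k) m heq f (by omega) hle Q hfQ).1
    haveI : LocCoh.IsCohenMacaulayLocalRing (Localization.AtPrime Q) :=
      hPCM.isCohenMacaulayLocalRing_localization Q
    rw [isCI_iff _ _ (map_ne_top_of_le Q _ hfQ)]
    exact ⟨_, hreg, (Ideal.map_ofList _ _).symm⟩
  rw [hI]
  apply key
  rw [← hI]
  intro x hx
  rw [Ideal.mem_comap, (RingHom.mem_ker).1 hx]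
  exact zero_mem _

end G1

end Groth.Agent.Lib.Helper65.CIPres
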