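import Mathlib
import Groth.Agent.Lib.Helper65.CIPres
import Groth.Agent.Lib.Helper62.JacMinor
import Groth.Agent.Lib.Helper62.GCIField5
import Groth.Agent.S9142
import Groth.Agent.S9156
import Groth.Agent.Lib.Helper65.CIPres2

set_option autoImplicit false
universe u

namespace Groth.Agent.Lib.Helper65.CIPres

open IsLocalRing RingTheory.Sequence Groth.Agent.Lib.Helper28.CMAux
  Groth.Agent.Lib.Helper29 Groth.Agent.Lib.Helper29.CMLib Groth.Agent.Lib.Helper62.DimLoc
  Groth.Agent.Lib.Helper62.GCIField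

section G3

theorem isLocalization_away_of_surjective {A A' B : Type*} [CommRing A] [CommRing A'] [CommRing B]
    [Algebra A A'] [Algebra A' B] [Algebra A B] [IsScalarTower A A' B]
    (hsurj : Function.Surjective (algebraMap A A')) (u v : A)
    (hu : ∀ x : A, algebraMap A A' x = 0 → u * x = 0)
    [IsLocalization.Away (algebraMap A A' (u * v)) B] : IsLocalization.Away (u * v) B := by
  rw [IsLocalization.Away, isLocalization_iff]
  refine ⟨?_, ?_, ?_⟩
  · rintro ⟨_, n, rfl⟩
    rw [map_pow, IsScalarTower.algebraMap_apply A A' B]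
    exact (IsLocalization.Away.algebraMap_isUnit _).pow n
  · intro z
    obtain ⟨n, a, ha⟩ := IsLocalization.Away.surj (algebraMap A A' (u * v)) z
    obtain ⟨a₀, rfl⟩ := hsurj a
    refine ⟨(a₀, ⟨(u * v) ^ n, n, rfl⟩), ?_⟩
    simp only
    rw [map_pow, IsScalarTower.algebraMap_apply A A' B, ha, ← IsScalarTower.algebraMap_apply]
  · intro x y hxy
    rw [IsScalarTower.algebraMap_apply A A' B, IsScalarTower.algebraMap_apply A A' B y] at hxy
    obtain ⟨⟨_, n, rfl⟩, hc⟩ :=
      IsLocalization.exists_of_eq (M := Submonoid.powers (algebraMap A A' (u * v))) hxy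
    have h0 : algebraMap A A' ((u * v) ^ n * (x - y)) = 0 := by
      rw [map_mul, map_pow, map_sub, mul_sub]
      exact sub_eq_zero.2 hc
    have h1 := hu _ h0
    refine ⟨⟨(u * v) ^ (n + 1), n + 1, rfl⟩, ?_⟩
    show (u * v) ^ (n + 1) * x = (u * v) ^ (n + 1) * y
    rw [← sub_eq_zero, ← mul_sub, pow_succ]
    calc (u * v) ^ n * (u * v) * (x - y) = v * (u * ((u * v) ^ n * (x - y))) := by ring
      _ = 0 := by rw [h1, mul_zero]

theorem exists_mul_mem_of_map_le {R L : Type*} [CommRing R] [CommRing L] [Algebra R L]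
    (M : Submonoid R) [IsLocalization M L] (I I₀ : Ideal R) (hI : I.FG)
    (h : I.map (algebraMap R L) ≤ I₀.map (algebraMap R L)) : ∃ s ∈ M, ∀ x ∈ I, s * x ∈ I₀ := by
  classical
  obtain ⟨T, rfl⟩ := hI
  have h1 : ∀ t ∈ T, ∃ s ∈ M, s * t ∈ I₀ := by
    intro t ht
    have h2 : algebraMap R L t ∈ I₀.map (algebraMap R L) :=
      h (Ideal.mem_map_of_mem _ (Ideal.subset_span ht))
    rw [IsLocalization.mem_map_algebraMap_iff M L] at h2
    obtain ⟨⟨⟨a, ha⟩, s⟩, h3⟩ := h2
    simp only at h3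
    rw [← map_mul] at h3
    obtain ⟨c, hc⟩ := IsLocalization.exists_of_eq (M := M) h3
    refine ⟨c * s, M.mul_mem c.2 s.2, ?_⟩
    have : (c : R) * s * t = c * a := by rw [← hc]; ring
    rw [this]
    exact I₀.mul_mem_left _ ha
  choose! f hfM hf using h1
  refine ⟨∏ t ∈ T, f t, M.prod_mem (fun t ht => hfM t ht), ?_⟩
  intro x hx
  induction hx using Submodule.span_induction with
  | mem t ht =>
    obtain ⟨w, hw⟩ := Finset.dvd_prod_of_mem f ht
    rw [hw, mul_comm (f t) w, mul_assoc]
    exact I₀.mul_mem_left _ (hf t ht)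
  | zero => rw [mul_zero]; exact zero_mem _
  | add x y _ _ hx hy => rw [mul_add]; exact add_mem hx hy
  | smul a x _ hx => rw [smul_eq_mul, mul_left_comm]; exact I₀.mul_mem_left _ hx

theorem le_comap_mk {P : Type u} [CommRing P] (I : Ideal P) (q : Ideal (P ⧸ I)) :
    I ≤ q.comap (Ideal.Quotient.mk I) := by
  intro x hx
  rw [Ideal.mem_comap, Ideal.Quotient.eq_zero_iff_mem.2 hx]
  exact zero_mem _

theorem dim_QP_eq_height {P : Type u} [CommRing P] (I : Ideal P) (q : Ideal (P ⧸ I)) [q.IsPrime] :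
    ringKrullDim (Localization.AtPrime (q.comap (Ideal.Quotient.mk I)) ⧸
      I.map (algebraMap P (Localization.AtPrime (q.comap (Ideal.Quotient.mk I))))) = q.height := by
  have hIq : I ≤ q.comap (Ideal.Quotient.mk I) := le_comap_mk I q
  haveI := isPrime_map_mk (q.comap (Ideal.Quotient.mk I)) I hIq
  have := ringKrullDim_QP_eq' (q.comap (Ideal.Quotient.mk I)) I hIq
  rw [this, IsLocalization.AtPrime.ringKrullDim_eq_height
      ((q.comap (Ideal.Quotient.mk I)).map (Ideal.Quotient.mk I)) _,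
    Ideal.map_comap_of_surjective _ Ideal.Quotient.mk_surjective]

end G3

end Groth.Agent.Lib.Helper65.CIPres
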