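import Mathlib
import Groth.Agent.Lib.Helper65.CIPres
import Groth.Agent.Lib.Helper62.JacMinor
import Groth.Agent.Lib.Helper62.GCIField5
import Groth.Agent.S9142
import Groth.Agent.S9156
import Groth.Agent.Lib.Helper65.CIPres2
import Groth.Agent.Lib.Helper65.CIPres3

set_option autoImplicit false
universe u

namespace Groth.Agent.Lib.Helper65.CIPres

open IsLocalRing RingTheory.Sequence Groth.Agent.Lib.Helper28.CMAux
  Groth.Agent.Lib.Helper29 Groth.Agent.Lib.Helper29.CMLib Groth.Agent.Lib.Helper62.DimLoc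
  Groth.Agent.Lib.Helper62.GCIField

section G3main

variable (k : Type u) [Field k] (n : ℕ) (I : Ideal (MvPolynomial (Fin n) k))
  (q : Ideal (MvPolynomial (Fin n) k ⧸ I)) [q.IsPrime]

local notation "Pn" => MvPolynomial (Fin n) k
local notation "q'" => Ideal.comap (Ideal.Quotient.mk I) q
local notation "Lq" => Localization.AtPrime (Ideal.comap (Ideal.Quotient.mk I) q)

/-- numerics: `c + ht q ≤ ht q'` gives `c ≤ n` and `compDim q ≤ n - c`. -/
theorem compDim_le_of_isCI (c : ℕ)
    (h : (c : WithBot ℕ∞) + (q.height : WithBot ℕ∞) ≤ ((q').height : WithBot ℕ∞)) :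
    c ≤ n ∧ compDim q ≤ ((n - c : ℕ) : WithBot ℕ∞) := by
  haveI : IsNoetherianRing Pn := inferInstance
  have hn : compDim (q') = (n : WithBot ℕ∞) := by
    have hbot : (⊥ : Ideal Pn) ∈ minimalPrimes Pn := by
      rw [IsDomain.minimalPrimes_eq_singleton_bot]; rfl
    have hd : ringKrullDim (Pn ⧸ (⊥ : Ideal Pn)) = n := by
      rw [ringKrullDim_eq_of_ringEquiv (RingEquiv.quotientBot _),
        MvPolynomial.ringKrullDim_of_isNoetherianRing, ringKrullDim_eq_zero_of_field, zero_add,
        Nat.card_fin]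
    apply le_antisymm
    · rw [compDim_le_iff]
      intro Q hQ _
      rw [IsDomain.minimalPrimes_eq_singleton_bot, Set.mem_singleton_iff] at hQ
      subst hQ
      exact hd.le
    · rw [← hd]
      exact le_compDim hbot bot_le
  have h5 := compDim_eq_height_add k Pn (q')
  rw [hn] at h5
  obtain ⟨a, b, ha, hb, hab⟩ := Groth.Agent.S9154.exists_nat_of_add_eq h5.symm
  have h6 := compDim_eq_height_add k (Pn ⧸ I) q
  rw [Groth.Agent.S9156.dim_quot_quot, hb] at h6
  rw [ha] at h
  obtain ⟨e, he⟩ : ∃ e : ℕ, q.height = e := by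
    have : q.height ≠ ⊤ := Ideal.height_ne_top (Ideal.IsPrime.ne_top inferInstance)
    exact ⟨_, (ENat.coe_toNat this).symm⟩
  rw [he] at h h6
  have h7 : c + e ≤ a := by exact_mod_cast h
  refine ⟨by omega, ?_⟩
  rw [h6]
  have h8 : e + b ≤ n - c := by omega
  have h9 : ((e + b : ℕ) : WithBot ℕ∞) ≤ ((n - c : ℕ) : WithBot ℕ∞) := Nat.mono_cast h8
  rw [Nat.cast_add] at h9
  exact h9

/-- **(G3)** if `I` is a complete intersection ideal at `q'`, then a principal open neighbourhood of `q` in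
`Spec (P/I)` is a global complete intersection. -/
theorem exists_isGlobalCI_away
    (h : IsCI Lq (I.map (algebraMap Pn Lq))) :
    ∃ g, g ∉ q ∧ Synt.IsGlobalCI k (Localization.Away g) := by
  classical
  haveI : IsNoetherianRing Pn := inferInstance
  have hIq : I ≤ q' := le_comap_mk I q
  have hfg : (I.map (algebraMap Pn Lq)).FG := (I.map _).fg_of_isNoetherianRing
  obtain ⟨s, hcard, hspan⟩ := Submodule.FG.exists_span_finset_card_eq_spanFinrank hfg
  unfold IsCI at h
  rw [dim_QP_eq_height, IsLocalization.AtPrime.ringKrullDim_eq_height (q') Lq, ← hcard] at h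
  obtain ⟨hcn, hcomp⟩ := compDim_le_of_isCI k n I q s.card h
  -- numerators
  have hnum : ∀ b ∈ s, ∃ a ∈ I, ∃ t ∈ (q').primeCompl,
      b * algebraMap Pn Lq t = algebraMap Pn Lq a := by
    intro b hb
    have hb' : b ∈ I.map (algebraMap Pn Lq) := by rw [← hspan]; exact Submodule.subset_span hb
    rw [IsLocalization.mem_map_algebraMap_iff (q').primeCompl Lq] at hb'
    obtain ⟨⟨⟨a, ha⟩, t⟩, h3⟩ := hb'
    exact ⟨a, ha, t, t.2, h3⟩
  choose! num hnumI den hden hnd using hnum
  obtain ⟨a, ha⟩ : ∃ a : Fin s.card → Pn, a = fun i => num (s.equivFin.symm i) := ⟨_, rfl⟩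
  have haI : ∀ i, a i ∈ I := fun i => by rw [ha]; exact hnumI _ (s.equivFin.symm i).2
  have hI₀ : Ideal.span (Set.range a) ≤ I := Ideal.span_le.2 (by rintro _ ⟨i, rfl⟩; exact haI i)
  have hle : I.map (algebraMap Pn Lq) ≤ (Ideal.span (Set.range a)).map (algebraMap Pn Lq) := by
    rw [← hspan]
    apply Submodule.span_le.2
    intro b hb
    obtain ⟨u, hu⟩ := IsLocalization.map_units Lq (⟨den b, hden b hb⟩ : (q').primeCompl)
    have hbu : b = algebraMap Pn Lq (num b) * ↑u⁻¹ := by
      rw [← hnd b hb, ← hu, mul_assoc, Units.mul_inv, mul_one]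
    rw [SetLike.mem_coe, hbu]
    refine Ideal.mul_mem_right _ _ (Ideal.mem_map_of_mem _
      (Ideal.subset_span ⟨s.equivFin ⟨b, hb⟩, ?_⟩))
    rw [ha]
    simp
  obtain ⟨h₁, hh₁M, hh₁⟩ := exists_mul_mem_of_map_le (q').primeCompl (L := Lq) I _
    (I.fg_of_isNoetherianRing) hle
  obtain ⟨g₂, hg₂q, hg₂⟩ := exists_notMem_forall_compDim_le k (Pn ⧸ I) q
  obtain ⟨h₂, rfl⟩ := Ideal.Quotient.mk_surjective g₂
  have hg₁q : Ideal.Quotient.mk I h₁ ∉ q := hh₁M
  obtain ⟨g, hg⟩ : ∃ g, g = Ideal.Quotient.mk I (h₁ * h₂) := ⟨_, rfl⟩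
  have hgq : g ∉ q := by
    rw [hg, map_mul]
    intro hmem
    rcases Ideal.IsPrime.mem_or_mem inferInstance hmem with h' | h'
    · exact hg₁q h'
    · exact hg₂q h'
  refine ⟨g, hgq, ?_⟩
  have hdimB : ringKrullDim (Localization.Away g) ≤ ((n - s.card : ℕ) : WithBot ℕ∞) := by
    refine le_trans (ringKrullDim_away_le _ g (compDim q) ?_) hcomp
    intro Q hQ hgQ
    haveI := hQ
    refine le_trans (height_le_compDim Q) (hg₂ Q hQ ?_)
    intro h'
    apply hgQ
    rw [hg, map_mul]
    exact Q.mul_mem_left _ h'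
  haveI : Nontrivial (Localization.Away g) :=
    (IsLocalization.Away.lift (S := Localization.Away g) g
      (g := algebraMap _ (Localization.AtPrime q))
      (IsLocalization.map_units _ (⟨g, hgq⟩ : q.primeCompl))).domain_nontrivial
  -- presentation
  letI : Algebra (Pn ⧸ Ideal.span (Set.range a)) (Pn ⧸ I) := (Ideal.Quotient.factor hI₀).toAlgebra
  haveI : IsScalarTower k (Pn ⧸ Ideal.span (Set.range a)) (Pn ⧸ I) :=
    IsScalarTower.of_algebraMap_eq (R := k) (S := Pn ⧸ Ideal.span (Set.range a)) (A := Pn ⧸ I)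
      (fun x => rfl)
  haveI : IsScalarTower (Pn ⧸ Ideal.span (Set.range a)) (Pn ⧸ I) (Localization.Away g) :=
    inferInstance
  haveI : IsScalarTower k (Pn ⧸ Ideal.span (Set.range a)) (Localization.Away g) :=
    inferInstance
  have hpres0 : HasPres k (Pn ⧸ Ideal.span (Set.range a)) (n - s.card) :=
    ⟨Fin n, Fin s.card, inferInstance, inferInstance, Algebra.Presentation.naive (v := a), by
      rw [Nat.card_fin, Nat.card_fin]; omega⟩
  have hsurj : Function.Surjective
      (algebraMap (Pn ⧸ Ideal.span (Set.range a)) (Pn ⧸ I)) :=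
    Ideal.Quotient.factor_surjective hI₀
  have hu : ∀ x : Pn ⧸ Ideal.span (Set.range a),
      algebraMap (Pn ⧸ Ideal.span (Set.range a)) (Pn ⧸ I) x = 0 →
        Ideal.Quotient.mk (Ideal.span (Set.range a)) h₁ * x = 0 := by
    intro x hx
    obtain ⟨p, rfl⟩ := Ideal.Quotient.mk_surjective x
    have hp : p ∈ I := Ideal.Quotient.eq_zero_iff_mem.1 hx
    rw [← map_mul, Ideal.Quotient.eq_zero_iff_mem]
    exact hh₁ p hp
  have hgg : algebraMap (Pn ⧸ Ideal.span (Set.range a)) (Pn ⧸ I)
      (Ideal.Quotient.mk (Ideal.span (Set.range a)) h₁ *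
        Ideal.Quotient.mk (Ideal.span (Set.range a)) h₂) = g := by
    rw [hg, ← map_mul]; rfl
  haveI hloc : IsLocalization.Away (algebraMap (Pn ⧸ Ideal.span (Set.range a)) (Pn ⧸ I)
      (Ideal.Quotient.mk (Ideal.span (Set.range a)) h₁ *
        Ideal.Quotient.mk (Ideal.span (Set.range a)) h₂)) (Localization.Away g) := by
    rw [hgg]; infer_instance
  haveI hloc0 : IsLocalization.Away (Ideal.Quotient.mk (Ideal.span (Set.range a)) h₁ *
        Ideal.Quotient.mk (Ideal.span (Set.range a)) h₂) (Localization.Away g) :=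
    isLocalization_away_of_surjective (A' := Pn ⧸ I) hsurj _ _ hu
  have hpres : HasPres k (Localization.Away g) (n - s.card) := by
    have := hpres0.comp (hasPres_away (Pn ⧸ Ideal.span (Set.range a))
      (Ideal.Quotient.mk (Ideal.span (Set.range a)) h₁ *
        Ideal.Quotient.mk (Ideal.span (Set.range a)) h₂) (Localization.Away g))
    simpa using this
  exact hpres.isGlobalCI (le_antisymm hdimB hpres.le_ringKrullDim)

end G3main

end Groth.Agent.Lib.Helper65.CIPres
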