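import Mathlib
import Groth.Agent.Lib.Helper65.CIPres
import Groth.Agent.Lib.Helper62.JacMinor
import Groth.Agent.Lib.Helper62.GCIField5
import Groth.Agent.S9142
import Groth.Agent.S9156
import Groth.Agent.Lib.Helper65.CIPres2

set_option autoImplicit false
universe u

namespace Groth.Agent.Lib.Helper65.CIPres

open IsLocalRing RingTheory.Sequence Groth.Agent.Lib.Helper28.CMAux
  Groth.Agent.Lib.Helper29 Groth.Agent.Lib.Helper29.CMLib Groth.Agent.Lib.Helper62.DimLoc
  Groth.Agent.Lib.Helper62.GCIField

section A1

variable (k : Type u) [Field k]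

/-- transport along an equality of primes -/
theorem isCI_congr {P S : Type u} [CommRing P] [CommRing S] (ψ : P →+* S) (I : Ideal P)
    (q q' : Ideal S) [q.IsPrime] [q'.IsPrime] (h : q = q')
    (hq : IsCI (Localization.AtPrime (q.comap ψ)) (I.map (algebraMap _ _))) :
    IsCI (Localization.AtPrime (q'.comap ψ)) (I.map (algebraMap _ _)) := by
  subst h
  exact hq

/-- if a localization `B` of `S` is a global complete intersection over `k`, then for every surjection `ψ` from a
polynomial ring (or any regular ess. f.t. algebra) onto `S`, the kernel of `ψ` is a complete intersection ideal at the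
primes coming from `B`. -/
theorem isCI_of_isGlobalCI_localization {P S B : Type u} [CommRing P] [CommRing S] [CommRing B]
    [Algebra k P] [Algebra k S] [Algebra k B] [Algebra S B] [IsScalarTower k S B]
    [IsRegularRing P] [Algebra.EssFiniteType k P]
    (M : Submonoid S) [IsLocalization M B] (ψ : P →ₐ[k] S) (hψ : Function.Surjective ψ)
    (hB : Synt.IsGlobalCI k B) (p : Ideal B) [p.IsPrime] :
    IsCI (Localization.AtPrime ((p.comap (algebraMap S B)).comap ψ.toRingHom))
      ((RingHom.ker ψ.toRingHom).map (algebraMap _ _)) := by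
  haveI : Nontrivial B := ⟨⟨0, 1, fun h => (Ideal.IsPrime.ne_top ‹p.IsPrime›)
    ((Ideal.eq_top_iff_one p).2 (h ▸ zero_mem p))⟩⟩
  rcases hB with hB | ⟨m, c', hc, φ', F, hsurj, hker, hdim⟩
  · exact absurd hB (not_subsingleton B)
  have h2 := isCI_of_pres k m c' hc B φ' F hker hsurj hdim p
  haveI : IsLocalization.AtPrime (Localization.AtPrime p) (p.comap (algebraMap S B)) :=
    IsLocalization.isLocalization_isLocalization_atPrime_isLocalization M _ p
  let e : Localization.AtPrime (p.comap (algebraMap S B)) ≃ₐ[S] Localization.AtPrime p :=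
    IsLocalization.algEquiv (p.comap (algebraMap S B)).primeCompl _ _
  let π₁ : Localization.AtPrime ((p.comap (algebraMap S B)).comap ψ.toRingHom) →ₐ[k]
      Localization.AtPrime p :=
    (e.restrictScalars k).toAlgHom.comp (localAlgHom k ψ (p.comap (algebraMap S B)))
  have hπ₁ : Function.Surjective π₁ :=
    (e.restrictScalars k).surjective.comp (localAlgHom_surjective k ψ hψ _)
  have hk₁ : RingHom.ker π₁.toRingHom = (RingHom.ker ψ.toRingHom).map (algebraMap _ _) := by
    rw [← ker_localAlgHom k ψ hψ]
    ext x
    simp only [RingHom.mem_ker]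
    show (e.restrictScalars k) (localAlgHom k ψ _ x) = 0 ↔ localAlgHom k ψ _ x = 0
    exact map_eq_zero_iff _ (e.restrictScalars k).injective
  rw [← hk₁]
  refine isCI_ker_of_isCI_ker k _ _ (Localization.AtPrime p) (localAlgHom k φ' p) π₁
    (localAlgHom_surjective k φ' hsurj p) hπ₁ ?_
  rw [ker_localAlgHom k φ' hsurj]
  exact h2

end A1

end Groth.Agent.Lib.Helper65.CIPres
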