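import Mathlib
import Groth.Agent.Lib.Helper65.CIPres4
import Groth.Agent.Lib.Helper65.CIPres5

/-!
# Complete intersections over a field: `IsCIOver` in terms of the kernel of one presentation (helper65)
-/

set_option autoImplicit false
universe u

namespace Groth.Agent.Lib.Helper65.CIPres

open IsLocalRing RingTheory.Sequence Groth.Agent.Lib.Helper28.CMAux
  Groth.Agent.Lib.Helper62.GCIField

section K1

variable (k : Type u) [Field k]

theorem IsCIOver.of_algEquiv {A B : Type u} [CommRing A] [CommRing B] [IsLocalRing A]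
    [IsLocalRing B] [Algebra k A] [Algebra k B] (e : A ≃ₐ[k] B) (h : Synt.IsCIOver k A) :
    Synt.IsCIOver k B := by
  obtain ⟨R, iR, iReg, iAlg, hess, rs, hrs, hreg, ⟨e'⟩⟩ := h
  exact ⟨R, iR, iReg, iAlg, hess, rs, hrs, hreg, ⟨e.symm.trans e'⟩⟩

theorem isCIOver_congr {S : Type u} [CommRing S] [Algebra k S] (q q' : Ideal S) [q.IsPrime]
    [q'.IsPrime] (h : q = q') (hq : Synt.IsCIOver k (Localization.AtPrime q)) :
    Synt.IsCIOver k (Localization.AtPrime q') := by
  subst h
  exact hq

theorem isCI_congr' {P : Type u} [CommRing P] (I : Ideal P) (Q Q' : Ideal P) [Q.IsPrime]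
    [Q'.IsPrime] (h : Q = Q')
    (hq : IsCI (Localization.AtPrime Q) (I.map (algebraMap _ _))) :
    IsCI (Localization.AtPrime Q') (I.map (algebraMap _ _)) := by
  subst h
  exact hq

variable {R A : Type u} [CommRing R] [CommRing A] [IsRegularLocalRing R] [IsLocalRing A]
  [Algebra k R] [Algebra k A] [Algebra.EssFiniteType k R]

theorem isCIOver_of_isCI_ker (π : R →ₐ[k] A) (hπ : Function.Surjective π)
    (h : IsCI R (RingHom.ker π.toRingHom)) : Synt.IsCIOver k A := by
  haveI := isCM_of_isRegularLocalRing R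
  have hne : RingHom.ker π.toRingHom ≠ ⊤ := RingHom.ker_ne_top _
  obtain ⟨rs, hreg, hrs⟩ := (isCI_iff R _ hne).1 h
  refine ⟨R, inferInstance, inferInstance, inferInstance, inferInstance, rs, ?_, hreg, ⟨?_⟩⟩
  · intro r hr
    have : r ∈ RingHom.ker π.toRingHom := by rw [← hrs]; exact Ideal.subset_span hr
    exact IsLocalRing.le_maximalIdeal hne this
  · exact (Ideal.quotientKerAlgEquivOfSurjective hπ).symm.trans
      (Ideal.quotientEquivAlgOfEq k hrs.symm)

theorem isCI_ker_of_isCIOver (π : R →ₐ[k] A) (hπ : Function.Surjective π)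
    (h : Synt.IsCIOver k A) : IsCI R (RingHom.ker π.toRingHom) := by
  obtain ⟨R₀, iR, iReg, iAlg, hess, rs, hrs, hreg, ⟨e⟩⟩ := h
  haveI := hess
  let π₀ : R₀ →ₐ[k] A := e.symm.toAlgHom.comp (Ideal.Quotient.mkₐ k (Ideal.ofList rs))
  have hπ₀ : Function.Surjective π₀ :=
    e.symm.surjective.comp (Ideal.Quotient.mkₐ_surjective k _)
  have hker : RingHom.ker π₀.toRingHom = Ideal.ofList rs := by
    ext x
    simp only [RingHom.mem_ker]
    show e.symm (Ideal.Quotient.mk _ x) = 0 ↔ _
    rw [map_eq_zero_iff _ e.symm.injective, Ideal.Quotient.eq_zero_iff_mem]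
  apply isCI_ker_of_isCI_ker k R₀ R A π₀ π hπ₀ hπ
  rw [hker]
  haveI := isCM_of_isRegularLocalRing R₀
  have hne : Ideal.ofList rs ≠ ⊤ := by
    intro htop
    have : Ideal.ofList rs ≤ maximalIdeal R₀ := Ideal.span_le.2 (fun r hr => hrs r hr)
    rw [htop] at this
    exact (maximalIdeal.isMaximal R₀).ne_top (eq_top_iff.2 this)
  exact (isCI_iff R₀ _ hne).2 ⟨rs, hreg, rfl⟩

theorem isCIOver_iff_isCI_ker (π : R →ₐ[k] A) (hπ : Function.Surjective π) :
    Synt.IsCIOver k A ↔ IsCI R (RingHom.ker π.toRingHom) :=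
  ⟨isCI_ker_of_isCIOver k π hπ, isCIOver_of_isCI_ker k π hπ⟩

end K1

section Structure

variable (k : Type u) [Field k]

/-- a local algebra essentially of finite type is the local ring at a prime of an algebra of finite type -/
theorem exists_atPrime_equiv (S : Type u) [CommRing S] [IsLocalRing S] [Algebra k S]
    [Algebra.EssFiniteType k S] :
    ∃ (A : Type u) (_ : CommRing A) (_ : Algebra k A) (a : Ideal A) (_ : a.IsPrime),
      Algebra.FiniteType k A ∧ Nonempty (S ≃ₐ[k] Localization.AtPrime a) := by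
  obtain ⟨a, ha⟩ : ∃ a : Ideal (Algebra.EssFiniteType.subalgebra k S),
    a = (maximalIdeal S).comap (algebraMap (Algebra.EssFiniteType.subalgebra k S) S) := ⟨_, rfl⟩
  haveI : a.IsPrime := by rw [ha]; exact Ideal.comap_isPrime _ _
  have hM : Algebra.EssFiniteType.submonoid k S = a.primeCompl := by
    ext x
    show IsUnit (algebraMap (Algebra.EssFiniteType.subalgebra k S) S x) ↔ x ∉ a
    rw [ha, Ideal.mem_comap, mem_maximalIdeal, mem_nonunits_iff, not_not]
  haveI : IsLocalization.AtPrime S a := by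
    rw [IsLocalization.AtPrime, ← hM]
    infer_instance
  refine ⟨Algebra.EssFiniteType.subalgebra k S, inferInstance, inferInstance, a, inferInstance,
    inferInstance, ⟨?_⟩⟩
  exact (IsLocalization.algEquiv a.primeCompl S (Localization.AtPrime a)).restrictScalars k

end Structure

section LemmaT

variable (k : Type u) [Field k]

theorem isGlobalCI_self_away {A : Type u} [CommRing A] [Algebra k A] (h : Synt.IsGlobalCI k A)
    (g : A) : Synt.IsGlobalCI k (Localization.Away g) :=
  isGlobalCI_away h g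

theorem isLCIOver_of_isGlobalCI {A : Type u} [CommRing A] [Algebra k A] [Algebra.FiniteType k A]
    (h : Synt.IsGlobalCI k A) : Synt.IsLCIOver k A :=
  ⟨inferInstance, fun p => ⟨1, fun h1 => p.2.ne_top ((Ideal.eq_top_iff_one _).2 h1),
    isGlobalCI_away h 1⟩⟩

variable (S : Type u) [CommRing S] [Algebra k S]

/-- a global complete intersection neighbourhood gives the complete intersection inequality, for any
presentation -/
theorem isCI_of_exists_away {n : ℕ} (ψ : MvPolynomial (Fin n) k →ₐ[k] S)
    (hψ : Function.Surjective ψ) (q : Ideal S) [q.IsPrime] (g : S) (hgq : g ∉ q)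
    (hg : Synt.IsGlobalCI k (Localization.Away g)) :
    IsCI (Localization.AtPrime (q.comap ψ.toRingHom))
      ((RingHom.ker ψ.toRingHom).map (algebraMap _ _)) := by
  have hdisj : Disjoint (Submonoid.powers g : Set S) (q : Set S) := by
    rw [Set.disjoint_left]
    rintro x ⟨m, rfl⟩ hx
    exact hgq (Ideal.IsPrime.mem_of_pow_mem inferInstance m hx)
  haveI hp : (q.map (algebraMap S (Localization.Away g))).IsPrime :=
    IsLocalization.isPrime_of_isPrime_disjoint (Submonoid.powers g) (Localization.Away g) q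
      inferInstance hdisj
  have hpq : (q.map (algebraMap S (Localization.Away g))).comap
      (algebraMap S (Localization.Away g)) = q :=
    IsLocalization.comap_map_of_isPrime_disjoint (Submonoid.powers g) (Localization.Away g)
      inferInstance hdisj
  have h1 := isCI_of_isGlobalCI_localization k (Submonoid.powers g) ψ hψ hg
    (q.map (algebraMap S (Localization.Away g)))
  exact isCI_congr ψ.toRingHom _ _ q hpq h1

variable [Algebra.FiniteType k S]

/-- **the local ring at `q` is a complete intersection iff a principal open neighbourhood is a global complete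
intersection** -/
theorem isCIOver_atPrime_iff (q : Ideal S) [q.IsPrime] :
    Synt.IsCIOver k (Localization.AtPrime q) ↔
      ∃ g : S, g ∉ q ∧ Synt.IsGlobalCI k (Localization.Away g) := by
  obtain ⟨n, ψ, hψ⟩ := Algebra.FiniteType.iff_quotient_mvPolynomial''.1
    (inferInstance : Algebra.FiniteType k S)
  haveI : IsRegularRing (MvPolynomial (Fin n) k) := inferInstance
  rw [isCIOver_iff_isCI_ker k (localAlgHom k ψ q) (localAlgHom_surjective k ψ hψ q),
    ker_localAlgHom k ψ hψ q]
  constructor
  · intro h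
    obtain ⟨e, he⟩ : ∃ e : (MvPolynomial (Fin n) k ⧸ RingHom.ker ψ) ≃ₐ[k] S,
      e = Ideal.quotientKerAlgEquivOfSurjective hψ := ⟨_, rfl⟩
    have hemk : ∀ x, e (Ideal.Quotient.mk _ x) = ψ x := fun x => by rw [he]; rfl
    haveI hq₁ : (q.comap (e : (MvPolynomial (Fin n) k ⧸ RingHom.ker ψ) →+* S)).IsPrime :=
      Ideal.comap_isPrime _ _
    have hqq : q.comap ψ.toRingHom = (q.comap (e : (MvPolynomial (Fin n) k ⧸ RingHom.ker ψ) →+* S)).comap
        (Ideal.Quotient.mk (RingHom.ker ψ)) := by
      ext x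
      simp only [Ideal.mem_comap]
      show ψ x ∈ q ↔ e (Ideal.Quotient.mk _ x) ∈ q
      rw [hemk]
    have h' := isCI_congr' (RingHom.ker ψ) _ _ hqq h
    obtain ⟨g₁, hg₁, hG⟩ := exists_isGlobalCI_away k n (RingHom.ker ψ)
      (q.comap (e : (MvPolynomial (Fin n) k ⧸ RingHom.ker ψ) →+* S)) h'
    refine ⟨e g₁, hg₁, ?_⟩
    exact isGlobalCI_of_algEquiv (IsLocalization.algEquivOfAlgEquiv
      (M := Submonoid.powers g₁) (T := Submonoid.powers (e g₁)) (Localization.Away g₁)
      (Localization.Away (e g₁)) e (Submonoid.map_powers _ _)) hG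
  · rintro ⟨g, hgq, hg⟩
    exact isCI_of_exists_away k S ψ hψ q g hgq hg

end LemmaT

end Groth.Agent.Lib.Helper65.CIPres
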