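import Mathlib

set_option autoImplicit false
universe u

namespace Groth.Agent.Lib.Helper65.Gonf

open IsLocalRing Polynomial

/-- closure of a set under the ring operations, scalars from `R`, and inverses. -/
inductive Gen (R : Type*) [CommRing R] {B : Type*} [CommRing B] [Algebra R B] (S : Set B) : B → Prop
  | algebraMap (r : R) : Gen R S (algebraMap R B r)
  | mem {b : B} (hb : b ∈ S) : Gen R S b
  | add {a b : B} : Gen R S a → Gen R S b → Gen R S (a + b)
  | mul {a b : B} : Gen R S a → Gen R S b → Gen R S (a * b)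
  | inv {a b : B} : Gen R S a → a * b = 1 → Gen R S b

theorem Gen.eq_of_eqOn {R : Type*} [CommRing R] {B B' : Type*} [CommRing B] [Algebra R B]
    [CommRing B'] [Algebra R B'] {S : Set B} (φ ψ : B →ₐ[R] B') (h : ∀ s ∈ S, φ s = ψ s)
    {b : B} (hb : Gen R S b) : φ b = ψ b := by
  induction hb with
  | algebraMap r => simp
  | mem hb => exact h _ hb
  | add _ _ h1 h2 => rw [map_add, map_add, h1, h2]
  | mul _ _ h1 h2 => rw [map_mul, map_mul, h1, h2]
  | @inv a b _ hab h1 =>
    have e1 : φ a * φ b = 1 := by rw [← map_mul, hab, map_one]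
    have e2 : ψ a * ψ b = 1 := by rw [← map_mul, hab, map_one]
    calc φ b = φ b * (ψ a * ψ b) := by rw [e2, mul_one]
      _ = (φ a * φ b) * ψ b := by rw [← h1]; ring
      _ = ψ b := by rw [e1, one_mul]

theorem Gen.map {R : Type*} [CommRing R] {B B' : Type*} [CommRing B] [Algebra R B]
    [CommRing B'] [Algebra R B'] {S : Set B} {S' : Set B'} (φ : B →ₐ[R] B')
    (h : ∀ s ∈ S, Gen R S' (φ s)) {b : B} (hb : Gen R S b) : Gen R S' (φ b) := by
  induction hb with
  | algebraMap r => rw [AlgHom.commutes]; exact Gen.algebraMap r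
  | mem hb => exact h _ hb
  | add _ _ h1 h2 => rw [map_add]; exact Gen.add h1 h2
  | mul _ _ h1 h2 => rw [map_mul]; exact Gen.mul h1 h2
  | @inv a b _ hab h1 => exact Gen.inv h1 (by rw [← map_mul, hab, map_one])

theorem Gen.mono {R : Type*} [CommRing R] {B : Type*} [CommRing B] [Algebra R B]
    {S S' : Set B} (h : S ⊆ S') {b : B} (hb : Gen R S b) : Gen R S' b := by
  have := Gen.map (AlgHom.id R B) (S' := S') (fun s hs => Gen.mem (h hs)) hb
  simpa using this

/-- **Algebraic step**: adjoining a root of a monic polynomial with irreducible reduction to a local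
ring gives a local ring whose maximal ideal is generated by that of the base. -/
theorem adjoinRoot_isLocalRing {B : Type*} [CommRing B] [IsLocalRing B] (f : B[X]) (hf : f.Monic)
    (hirr : Irreducible (f.map (Ideal.Quotient.mk (maximalIdeal B)))) :
    ∃ _ : IsLocalRing (AdjoinRoot f),
      maximalIdeal (AdjoinRoot f) = (maximalIdeal B).map (AdjoinRoot.of f) := by
  set J := (maximalIdeal B).map (AdjoinRoot.of f) with hJ
  have hJmax : J.IsMaximal := by
    haveI : Fact (Irreducible (f.map (Ideal.Quotient.mk (maximalIdeal B)))) := ⟨hirr⟩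
    haveI : (Ideal.span ({f.map (Ideal.Quotient.mk (maximalIdeal B))} :
        Set (B ⧸ maximalIdeal B)[X])).IsMaximal := by
      letI : Field (B ⧸ maximalIdeal B) := Ideal.Quotient.field _
      exact AdjoinRoot.span_maximal_of_irreducible
    have e := AdjoinRoot.quotAdjoinRootEquivQuotPolynomialQuot (maximalIdeal B) f
    rw [Ideal.Quotient.maximal_ideal_iff_isField_quotient]
    exact e.toMulEquiv.isField ((Ideal.Quotient.maximal_ideal_iff_isField_quotient _).mp inferInstance)
  haveI : Module.Finite B (AdjoinRoot f) := hf.finite_adjoinRoot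
  haveI : Algebra.IsIntegral B (AdjoinRoot f) := Algebra.IsIntegral.of_finite B _
  have hle : ∀ M : Ideal (AdjoinRoot f), M.IsMaximal → J ≤ M := by
    intro M hM
    have h1 : (M.comap (algebraMap B (AdjoinRoot f))).IsMaximal :=
      Ideal.isMaximal_comap_of_isIntegral_of_isMaximal M
    have h2 : M.comap (algebraMap B (AdjoinRoot f)) = maximalIdeal B :=
      IsLocalRing.eq_maximalIdeal h1
    rw [hJ, Ideal.map_le_iff_le_comap]
    exact h2.ge
  have hloc : IsLocalRing (AdjoinRoot f) :=
    IsLocalRing.of_unique_max_ideal ⟨J, hJmax, fun M hM => (hJmax.eq_of_le hM.ne_top (hle M hM)).symm⟩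
  exact ⟨hloc, (IsLocalRing.eq_maximalIdeal hJmax).symm⟩

variable (R : Type u) [CommRing R] [IsLocalRing R] (K : Type u) [Field K]
  [Algebra (ResidueField R) K]

/-- The statement that Noetherianity passes to suitable directed colimits (to be supplied by
S2365). -/
def NoethColim : Prop :=
  ∀ {ι : Type u} [Preorder ι] [Nonempty ι] [IsDirected ι (· ≤ ·)]
    (G : ι → Type u) [∀ i, CommRing (G i)] [∀ i, IsLocalRing (G i)]
    (f : ∀ i j, i ≤ j → G i →+* G j) [DirectedSystem G fun i j h => f i j h]
    (_ : ∀ i j (h : i ≤ j), IsLocalHom (f i j h))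
    [∀ i, IsNoetherianRing (G i)]
    (_ : ∀ i j (h : i ≤ j), (IsLocalRing.maximalIdeal (G i)).map (f i j h) = IsLocalRing.maximalIdeal (G j))
    (_ : ∀ i j (h : i ≤ j), (f i j h).Flat),
    IsNoetherianRing (Ring.DirectLimit G fun i j h => f i j h)

/-- A stage of the gonflement construction. -/
structure Stage where
  B : Type u
  [ring : CommRing B]
  [alg : Algebra R B]
  res : B →+* K
  x : K → B
  isUnit_of_res_ne_zero : ∀ b, res b ≠ 0 → IsUnit b
  res_algebraMap : ∀ r, res (algebraMap R B r) = algebraMap (ResidueField R) K (residue R r)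
  res_x : ∀ b, res (x (res b)) = res b
  flat : Module.Flat R B
  mem_map : ∀ b, res b = 0 → b ∈ (maximalIdeal R).map (algebraMap R B)
  gen : ∀ b, Gen R (x '' Set.range res) b
  noeth : NoethColim.{u} → IsNoetherianRing R → IsNoetherianRing B

attribute [instance] Stage.ring Stage.alg

variable {R K}

namespace Stage

theorem res_eq_zero_iff (s : Stage R K) (b : s.B) : s.res b = 0 ↔ ¬ IsUnit b := by
  constructor
  · intro h hu
    have := hu.map s.res
    rw [h] at this
    exact not_isUnit_zero this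
  · intro h
    by_contra h0
    exact h (s.isUnit_of_res_ne_zero b h0)

theorem isLocalRing (s : Stage R K) : IsLocalRing s.B := by
  haveI : Nontrivial s.B := s.res.domain_nontrivial
  refine IsLocalRing.of_nonunits_add ?_
  intro a b ha hb
  rw [mem_nonunits_iff, ← res_eq_zero_iff] at *
  rw [map_add, ha, hb, add_zero]

/-- the order relation on stages. -/
def le (s t : Stage R K) : Prop :=
  (Set.range s.res = Set.range t.res → s = t) ∧
    ∃ φ : s.B →ₐ[R] t.B, φ.toRingHom.Flat ∧ (∀ b, t.res (φ b) = s.res b) ∧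
      (∀ a ∈ Set.range s.res, φ (s.x a) = t.x a)

theorem le_refl (s : Stage R K) : le s s :=
  ⟨fun _ => rfl, AlgHom.id R s.B, RingHom.Flat.id _, fun _ => rfl, fun _ _ => rfl⟩

theorem range_subset {s t : Stage R K} (h : le s t) : Set.range s.res ⊆ Set.range t.res := by
  obtain ⟨_, φ, _, h2, _⟩ := h
  rintro _ ⟨b, rfl⟩
  exact ⟨φ b, h2 b⟩

theorem le_trans {s t v : Stage R K} (h1 : le s t) (h2 : le t v) : le s v := by
  refine ⟨fun h => ?_, ?_⟩
  · have e1 : Set.range s.res = Set.range t.res :=
      Set.Subset.antisymm (range_subset h1) (h ▸ range_subset h2)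
    have := h1.1 e1
    subst this
    exact h2.1 h
  · obtain ⟨_, φ, f1, r1, x1⟩ := h1
    obtain ⟨_, ψ, f2, r2, x2⟩ := h2
    refine ⟨ψ.comp φ, RingHom.Flat.comp f1 f2, fun b => ?_, fun a ha => ?_⟩
    · simp [r2, r1]
    · have : ψ (φ (s.x a)) = v.x a := by
        rw [x1 a ha]
        apply x2
        obtain ⟨b, rfl⟩ := ha
        exact ⟨φ b, r1 b⟩
      exact this

/-- uniqueness of the transition maps. -/
theorem hom_unique {s t : Stage R K} (φ ψ : s.B →ₐ[R] t.B)
    (h1 : ∀ a ∈ Set.range s.res, φ (s.x a) = t.x a)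
    (h2 : ∀ a ∈ Set.range s.res, ψ (s.x a) = t.x a) : φ = ψ := by
  ext b
  refine Gen.eq_of_eqOn φ ψ ?_ (s.gen b)
  rintro _ ⟨a, ha, rfl⟩
  rw [h1 a ha, h2 a ha]

end Stage

end Groth.Agent.Lib.Helper65.Gonf
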