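import Mathlib
import Groth.Agent.Lib.Helper65.CIPres3
import Groth.Agent.Lib.Helper29.CodepthOpen

/-!
# Openness of the complete intersection locus of an ideal of a ring with Cohen–Macaulay local rings
-/

set_option autoImplicit false
universe u

namespace Groth.Agent.Lib.Helper65.CILocus

open IsLocalRing Groth.Agent.Lib.Helper65.CIPres Groth.Agent.Lib.Helper29.CodepthOpen

theorem isCI_top (R : Type u) [CommRing R] : IsCI R (⊤ : Ideal R) := by
  unfold IsCI
  have : Subsingleton (R ⧸ (⊤ : Ideal R)) := Ideal.Quotient.subsingleton_iff.2 rfl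
  rw [ringKrullDim_eq_bot_of_subsingleton, WithBot.add_bot]
  exact bot_le

/-- the numerical criterion via heights in a CM local ring -/
theorem isCI_iff_le_height (T : Type u) [CommRing T] [hT : LocCoh.IsCohenMacaulayLocalRing T]
    (J : Ideal T) (hJ : J ≠ ⊤) : IsCI T J ↔ (J.spanFinrank : ℕ∞) ≤ J.height := by
  haveI : IsNoetherianRing T := inferInstance
  haveI : IsLocalRing T := inferInstance
  have hdim := ringKrullDim_eq_quotient_add_height T J hJ
  obtain ⟨g, hg⟩ := ENat.ne_top_iff_exists.1 (Ideal.height_ne_top hJ)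
  have hne : Nontrivial (T ⧸ J) := Ideal.Quotient.nontrivial_iff.2 hJ
  rcases exists_nat_dim_quotient T J with hb | ⟨a, ha⟩
  · exfalso
    have := ringKrullDim_nonneg_of_nontrivial (R := T ⧸ J)
    rw [hb] at this
    exact absurd this (by simp)
  unfold IsCI
  rw [hdim, ha, ← hg]
  constructor
  · intro h
    have h' : J.spanFinrank + a ≤ a + g := by exact_mod_cast h
    have : J.spanFinrank ≤ g := by omega
    exact_mod_cast this
  · intro h
    have h' : J.spanFinrank ≤ g := by exact_mod_cast h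
    have : J.spanFinrank + a ≤ a + g := by omega
    exact_mod_cast this

theorem isOpen_isCI (B : Type u) [CommRing B] [IsNoetherianRing B]
    (hCM : ∀ (q : Ideal B) [q.IsPrime], LocCoh.IsCohenMacaulayLocalRing (Localization.AtPrime q))
    (I : Ideal B) :
    IsOpen {q : PrimeSpectrum B | IsCI (Localization.AtPrime q.asIdeal)
      (I.map (algebraMap B (Localization.AtPrime q.asIdeal)))} := by
  classical
  rw [isOpen_iff_forall_mem_open]
  intro 𝔭 h𝔭
  have hcomap : ∀ 𝔭' : PrimeSpectrum B, (maximalIdeal (Localization.AtPrime 𝔭'.asIdeal)).comap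
      (algebraMap B (Localization.AtPrime 𝔭'.asIdeal)) = 𝔭'.asIdeal := fun 𝔭' =>
    IsLocalization.AtPrime.under_maximalIdeal (Localization.AtPrime 𝔭'.asIdeal) 𝔭'.asIdeal
  have hout : ∀ 𝔭' : PrimeSpectrum B, ¬ I ≤ 𝔭'.asIdeal →
      IsCI (Localization.AtPrime 𝔭'.asIdeal)
        (I.map (algebraMap B (Localization.AtPrime 𝔭'.asIdeal))) := by
    intro 𝔭' h𝔭'
    have : I.map (algebraMap B (Localization.AtPrime 𝔭'.asIdeal)) = ⊤ := by
      by_contra hne
      apply h𝔭'
      have h1 := IsLocalRing.le_maximalIdeal hne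
      rw [Ideal.map_le_iff_le_comap, hcomap 𝔭'] at h1
      exact h1
    rw [this]
    exact isCI_top _
  have hne_top : ∀ 𝔭' : PrimeSpectrum B, I ≤ 𝔭'.asIdeal →
      I.map (algebraMap B (Localization.AtPrime 𝔭'.asIdeal)) ≠ ⊤ := by
    intro 𝔭' h𝔭' htop
    have h1 : I.map (algebraMap B (Localization.AtPrime 𝔭'.asIdeal)) ≤
        maximalIdeal (Localization.AtPrime 𝔭'.asIdeal) := by
      rw [Ideal.map_le_iff_le_comap, hcomap 𝔭']
      exact h𝔭'
    rw [htop] at h1
    exact (maximalIdeal.isMaximal _).ne_top (eq_top_iff.2 h1)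
  by_cases hI𝔭 : I ≤ 𝔭.asIdeal
  swap
  · refine ⟨(PrimeSpectrum.zeroLocus (I : Set B))ᶜ, fun 𝔭' h𝔭' => hout 𝔭' ?_,
      (PrimeSpectrum.isClosed_zeroLocus _).isOpen_compl, ?_⟩
    · intro hle
      exact h𝔭' ((PrimeSpectrum.mem_zeroLocus _ _).2 hle)
    · intro hmem
      exact hI𝔭 ((PrimeSpectrum.mem_zeroLocus _ _).1 hmem)
  haveI := hCM 𝔭.asIdeal
  obtain ⟨J, hJdef⟩ : ∃ J : Ideal (Localization.AtPrime 𝔭.asIdeal),
      J = I.map (algebraMap B (Localization.AtPrime 𝔭.asIdeal)) := ⟨_, rfl⟩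
  have hJne : J ≠ ⊤ := hJdef ▸ hne_top 𝔭 hI𝔭
  have hcrit : (J.spanFinrank : ℕ∞) ≤ J.height := by
    rw [← isCI_iff_le_height _ J hJne, hJdef]
    exact h𝔭
  -- choose generators
  obtain ⟨s, hcard, hspan⟩ := Submodule.FG.exists_span_finset_card_eq_spanFinrank
    (J.fg_of_isNoetherianRing)
  have hs : ∀ y ∈ s, ∃ a : B, a ∈ I ∧ ∃ t : 𝔭.asIdeal.primeCompl,
      y * algebraMap B (Localization.AtPrime 𝔭.asIdeal) t =
        algebraMap B (Localization.AtPrime 𝔭.asIdeal) a := by
    intro y hy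
    have hyJ : y ∈ I.map (algebraMap B (Localization.AtPrime 𝔭.asIdeal)) := by
      rw [← hJdef, ← hspan]
      exact Submodule.subset_span hy
    rw [IsLocalization.mem_map_algebraMap_iff 𝔭.asIdeal.primeCompl] at hyJ
    obtain ⟨⟨⟨a, ha⟩, t⟩, h3⟩ := hyJ
    exact ⟨a, ha, t, h3⟩
  choose! f hfI hft using hs
  obtain ⟨I₀, hI₀⟩ : ∃ I₀ : Ideal B, I₀ = Ideal.span ((s.image f : Finset B) : Set B) := ⟨_, rfl⟩
  have hI₀I : I₀ ≤ I := by
    rw [hI₀, Ideal.span_le]
    intro x hx
    simp only [Finset.coe_image, Set.mem_image, Finset.mem_coe] at hx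
    obtain ⟨y, hy, rfl⟩ := hx
    exact hfI y hy
  have hle : I.map (algebraMap B (Localization.AtPrime 𝔭.asIdeal)) ≤
      I₀.map (algebraMap B (Localization.AtPrime 𝔭.asIdeal)) := by
    rw [← hJdef, ← hspan]
    apply Submodule.span_le.2
    intro y hy
    obtain ⟨t, ht⟩ := hft y hy
    have hu : IsUnit (algebraMap B (Localization.AtPrime 𝔭.asIdeal) t) :=
      IsLocalization.map_units _ t
    have hmem : algebraMap B (Localization.AtPrime 𝔭.asIdeal) (f y) ∈
        I₀.map (algebraMap B (Localization.AtPrime 𝔭.asIdeal)) := by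
      apply Ideal.mem_map_of_mem
      rw [hI₀]
      apply Ideal.subset_span
      simp only [Finset.coe_image, Set.mem_image, Finset.mem_coe]
      exact ⟨y, hy, rfl⟩
    rw [← ht] at hmem
    exact (Ideal.mul_unit_mem_iff_mem _ hu).1 hmem
  obtain ⟨g, hgM, hg⟩ := exists_mul_mem_of_map_le (L := Localization.AtPrime 𝔭.asIdeal)
    𝔭.asIdeal.primeCompl I I₀ I.fg_of_isNoetherianRing hle
  -- the height neighbourhood
  have hfin : (I.minimalPrimes).Finite := Ideal.finite_minimalPrimes_of_isNoetherianRing B _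
  have hGopen : IsOpen (⋂ 𝔮 ∈ I.minimalPrimes,
      {𝔭' : PrimeSpectrum B | 𝔮 ≤ 𝔭'.asIdeal → J.height ≤ 𝔮.height}) := by
    refine hfin.isOpen_biInter fun 𝔮 h𝔮 => ?_
    by_cases hg : J.height ≤ 𝔮.height
    · convert isOpen_univ
      ext 𝔭'
      simp [hg]
    · have : {𝔭' : PrimeSpectrum B | 𝔮 ≤ 𝔭'.asIdeal → J.height ≤ 𝔮.height} =
          (PrimeSpectrum.zeroLocus (𝔮 : Set B))ᶜ := by
        ext 𝔭'
        simp [hg, PrimeSpectrum.mem_zeroLocus]
      rw [this]
      exact (PrimeSpectrum.isClosed_zeroLocus _).isOpen_compl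
  refine ⟨_, ?_, (PrimeSpectrum.basicOpen g).isOpen.inter hGopen, ⟨?_, ?_⟩⟩
  · rintro 𝔭' ⟨hgp, hG⟩
    by_cases hI𝔭' : I ≤ 𝔭'.asIdeal
    swap
    · exact hout 𝔭' hI𝔭'
    haveI := hCM 𝔭'.asIdeal
    have hgp' : g ∉ 𝔭'.asIdeal := hgp
    show IsCI _ _
    rw [isCI_iff_le_height _ _ (hne_top 𝔭' hI𝔭')]
    have hht : J.height ≤
        (I.map (algebraMap B (Localization.AtPrime 𝔭'.asIdeal))).height := by
      refine le_height_map_of_forall B _ 𝔭'.asIdeal _ fun 𝔮 h𝔮 hle => ?_
      have := Set.mem_iInter₂.mp hG 𝔮 h𝔮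
      exact this hle
    have hmapeq : I.map (algebraMap B (Localization.AtPrime 𝔭'.asIdeal)) =
        I₀.map (algebraMap B (Localization.AtPrime 𝔭'.asIdeal)) := by
      refine le_antisymm ?_ (Ideal.map_mono hI₀I)
      rw [Ideal.map_le_iff_le_comap]
      intro x hx
      rw [Ideal.mem_comap]
      have hu : IsUnit (algebraMap B (Localization.AtPrime 𝔭'.asIdeal) g) :=
        IsLocalization.map_units _ (⟨g, hgp'⟩ : 𝔭'.asIdeal.primeCompl)
      have hmem : algebraMap B (Localization.AtPrime 𝔭'.asIdeal) (g * x) ∈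
          I₀.map (algebraMap B (Localization.AtPrime 𝔭'.asIdeal)) :=
        Ideal.mem_map_of_mem _ (hg x hx)
      rw [map_mul] at hmem
      exact (Ideal.unit_mul_mem_iff_mem _ hu).1 hmem
    have hmu : (I.map (algebraMap B (Localization.AtPrime 𝔭'.asIdeal))).spanFinrank ≤
        J.spanFinrank := by
      rw [hmapeq, hI₀, Ideal.map_span, ← hcard]
      refine (Submodule.spanFinrank_span_le_ncard_of_finite
        (((s.image f).finite_toSet).image _)).trans ?_
      refine (Set.ncard_image_le (s.image f).finite_toSet).trans ?_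
      rw [Set.ncard_coe_finset]
      exact Finset.card_image_le
    calc ((I.map (algebraMap B (Localization.AtPrime 𝔭'.asIdeal))).spanFinrank : ℕ∞)
        ≤ (J.spanFinrank : ℕ∞) := by exact_mod_cast hmu
      _ ≤ J.height := hcrit
      _ ≤ _ := hht
  · exact hgM
  · refine Set.mem_iInter₂.mpr fun 𝔮 h𝔮 => ?_
    intro hle
    have : 𝔮.IsPrime := h𝔮.1.1
    rw [hJdef]
    exact height_map_le B _ 𝔮 𝔭.asIdeal h𝔮.1.2 hle

end Groth.Agent.Lib.Helper65.CILocus
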