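import Mathlib
import Groth.Agent.Lib.Helper83.FlatLocalDim

set_option autoImplicit false
universe u

namespace Groth.Agent.Lib.Helper65.SpanMap

open IsLocalRing Groth.Agent.Lib.Helper83

variable {A B : Type*} [CommRing A] [CommRing B] [Algebra A B]
  [IsLocalRing A] [IsLocalRing B]

theorem spanFinrank_le_map [IsNoetherianRing A] [IsNoetherianRing B] [Module.Flat A B]
    (h : (maximalIdeal A).map (algebraMap A B) = maximalIdeal B) (I : Ideal A) :
    I.spanFinrank ≤ (I.map (algebraMap A B)).spanFinrank := by
  have := isLocalHom_of_map_maximalIdeal h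
  have ff := faithfullyFlat_of_map_maximalIdeal h
  obtain ⟨J, hJ⟩ : ∃ J : Ideal B, J = I.map (algebraMap A B) := ⟨_, rfl⟩
  rw [← hJ]
  have hmem : ∀ a : I, algebraMap A B a ∈ J := fun a => by
    rw [hJ]; exact Ideal.mem_map_of_mem _ a.2
  letI : Field (B ⧸ maximalIdeal B) := Ideal.Quotient.field _
  let ψ : I → J := fun a => ⟨algebraMap A B a, hmem a⟩
  let φ : I → (J ⧸ (maximalIdeal B • ⊤ : Submodule B J)) := fun a => Submodule.mkQ _ (ψ a)
  have hψ : Submodule.span B (Set.range ψ) = ⊤ := by
    apply Submodule.map_injective_of_injective J.subtype_injective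
    rw [Submodule.map_span, Submodule.map_top, Submodule.range_subtype]
    have himg : J.subtype '' Set.range ψ =
        algebraMap A B '' (I : Set A) := by
      ext x
      simp only [Set.mem_image, Set.mem_range, SetLike.mem_coe, ψ]
      constructor
      · rintro ⟨_, ⟨a, rfl⟩, rfl⟩
        exact ⟨a, a.2, rfl⟩
      · rintro ⟨a, ha, rfl⟩
        exact ⟨_, ⟨⟨a, ha⟩, rfl⟩, rfl⟩
    rw [himg, hJ]
    rfl
  have hsurj : Function.Surjective (algebraMap B (B ⧸ maximalIdeal B)) :=
    Ideal.Quotient.mk_surjective
  have key : ∀ s : Set J, Submodule.span (B ⧸ maximalIdeal B)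
      ((Submodule.mkQ (maximalIdeal B • ⊤ : Submodule B J)) '' s) = ⊤ ↔ Submodule.span B s = ⊤ := by
    intro s
    rw [← Submodule.restrictScalars_eq_top_iff B, Submodule.restrictScalars_span _ _ hsurj,
      ← Submodule.map_span, IsLocalRing.map_mkQ_eq_top]
  have hspan : Submodule.span (B ⧸ maximalIdeal B) (Set.range φ) = ⊤ := by
    have : Set.range φ = (Submodule.mkQ (maximalIdeal B • ⊤ : Submodule B J)) '' (Set.range ψ) := by
      rw [← Set.range_comp]; rfl
    rw [this, key, hψ]
  obtain ⟨κ, a, hainj, haspan, hali⟩ := exists_linearIndependent' (B ⧸ maximalIdeal B) φ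
  rw [hspan] at haspan
  let bas := Module.Basis.mk hali haspan.ge
  have : Module.Finite (B ⧸ maximalIdeal B) (J ⧸ (maximalIdeal B • ⊤ : Submodule B J)) :=
    Module.Finite.of_restrictScalars_finite B _ _
  have : Finite κ := Module.Finite.finite_basis bas
  have hcard : Nat.card κ = J.spanFinrank := by
    rw [IsLocalRing.spanFinrank_eq_finrank_quotient J J.fg_of_isNoetherianRing,
      Module.finrank_eq_nat_card_basis bas]
  -- the ideal generated by the chosen elements
  let t : Set A := Set.range (fun k => (a k : A))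
  have htfin : t.Finite := Set.finite_range _
  have hI : Ideal.span t = I := by
    apply Ideal.map_injective_of_faithfullyFlat (B := B)
    rw [← hJ, Ideal.map_span]
    have h2 : Submodule.span B (Set.range (ψ ∘ a)) = ⊤ := by
      rw [← key, ← Set.range_comp]
      exact haspan
    have h3 := congrArg (Submodule.map J.subtype) h2
    rw [Submodule.map_span, Submodule.map_top, Submodule.range_subtype] at h3
    rw [← h3]
    congr 1
    ext x
    simp only [Set.mem_image, Set.mem_range, t, Function.comp, ψ]
    constructor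
    · rintro ⟨_, ⟨k, rfl⟩, rfl⟩
      exact ⟨_, ⟨k, rfl⟩, rfl⟩
    · rintro ⟨_, ⟨k, rfl⟩, rfl⟩
      exact ⟨_, ⟨k, rfl⟩, rfl⟩
  calc I.spanFinrank = (Ideal.span t).spanFinrank := by rw [hI]
    _ ≤ t.ncard := Submodule.spanFinrank_span_le_ncard_of_finite htfin
    _ ≤ Nat.card κ := by
        have := Set.ncard_image_le (f := fun k => (a k : A)) (Set.finite_univ (α := κ))
        simpa [t, Set.image_univ, Set.ncard_univ] using this
    _ = J.spanFinrank := hcard

theorem spanFinrank_map_eq [IsNoetherianRing A] [IsNoetherianRing B] [Module.Flat A B]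
    (h : (maximalIdeal A).map (algebraMap A B) = maximalIdeal B) (I : Ideal A) :
    (I.map (algebraMap A B)).spanFinrank = I.spanFinrank :=
  le_antisymm (Ideal.spanFinrank_map_le_of_fg _ I.fg_of_isNoetherianRing)
    (spanFinrank_le_map h I)

end Groth.Agent.Lib.Helper65.SpanMap
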