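import Mathlib

/-!
# The first Koszul homology of a linear functional, and its length (helper65)

For `φ : M →ₗ[A] A` put `kT φ = span {φ v • w - φ w • v}` (the trivial relations), contained in `ker φ`;
`kH φ = ker φ / kT φ` and `kh φ` its length.  If `φ`, `ψ` are functionals on finite free modules whose
range is the same maximal ideal, then `kh φ + rank N = kh ψ + rank M`.
-/

set_option autoImplicit false
universe u v w

namespace Groth.Agent.Lib.Helper65.KH1

variable {A : Type u} [CommRing A]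

section Intrinsic

variable {M : Type v} [AddCommGroup M] [Module A M] (φ : M →ₗ[A] A)

/-- the trivial relations of a functional -/
def kT : Submodule A M :=
  Submodule.span A (Set.range fun p : M × M => φ p.1 • p.2 - φ p.2 • p.1)

theorem gen_mem_kT (v w : M) : φ v • w - φ w • v ∈ kT φ :=
  Submodule.subset_span ⟨(v, w), rfl⟩

theorem kT_le_ker : kT φ ≤ LinearMap.ker φ := by
  rw [kT, Submodule.span_le]
  rintro _ ⟨⟨v, w⟩, rfl⟩
  simp [mul_comm]

/-- first Koszul homology of a functional -/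
abbrev kH : Type v := LinearMap.ker φ ⧸ (kT φ).comap (LinearMap.ker φ).subtype

/-- its length -/
noncomputable def kh : ℕ∞ := Module.length A (kH φ)

theorem kh_eq_length {Q : Type w} [AddCommGroup Q] [Module A Q] (g : LinearMap.ker φ →ₗ[A] Q)
    (hg : Function.Surjective g)
    (hker : LinearMap.ker g = (kT φ).comap (LinearMap.ker φ).subtype) :
    kh φ = Module.length A Q := by
  unfold kh kH
  rw [← hker]
  exact (g.quotKerEquivOfSurjective hg).length_eq

variable {M' : Type w} [AddCommGroup M'] [Module A M']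

theorem kT_map_equiv (e : M ≃ₗ[A] M') (φ' : M' →ₗ[A] A) (h : φ' ∘ₗ e.toLinearMap = φ) :
    (kT φ).map e.toLinearMap = kT φ' := by
  have h' : ∀ v, φ v = φ' (e v) := fun v => by rw [← h]; rfl
  unfold kT
  rw [Submodule.map_span]
  congr 1
  ext y
  constructor
  · rintro ⟨_, ⟨⟨v, w⟩, rfl⟩, rfl⟩
    refine ⟨(e v, e w), ?_⟩
    simp [h']
  · rintro ⟨⟨v', w'⟩, rfl⟩
    refine ⟨_, ⟨(e.symm v', e.symm w'), rfl⟩, ?_⟩
    simp [h']

theorem kh_congr (e : M ≃ₗ[A] M') (φ' : M' →ₗ[A] A) (h : φ' ∘ₗ e.toLinearMap = φ) :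
    kh φ = kh φ' := by
  have h' : ∀ v, φ v = φ' (e v) := fun v => by rw [← h]; rfl
  have hmaps : ∀ v ∈ LinearMap.ker φ, e.toLinearMap v ∈ LinearMap.ker φ' := by
    intro v hv
    rw [LinearMap.mem_ker] at hv ⊢
    rw [← hv, h']
    rfl
  apply kh_eq_length φ ((Submodule.mkQ _).comp (e.toLinearMap.restrict hmaps))
  · intro y
    obtain ⟨⟨w, hw⟩, rfl⟩ := Submodule.Quotient.mk_surjective _ y
    refine ⟨⟨e.symm w, ?_⟩, ?_⟩
    · rw [LinearMap.mem_ker, h', e.apply_symm_apply]
      exact hw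
    · simp only [LinearMap.coe_comp, Function.comp_apply, Submodule.mkQ_apply]
      congr 1
      apply Subtype.ext
      simp
  · ext ⟨v, hv⟩
    simp only [LinearMap.mem_ker, LinearMap.coe_comp, Function.comp_apply, Submodule.mkQ_apply,
      Submodule.Quotient.mk_eq_zero, Submodule.mem_comap, Submodule.coe_subtype]
    rw [← kT_map_equiv φ e φ' h]
    constructor
    · rintro ⟨v', hv', hvv'⟩
      have : v' = v := e.injective hvv'
      rwa [← this]
    · intro hv'
      exact ⟨v, hv', rfl⟩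

end Intrinsic

section Extend

variable {M : Type v} [AddCommGroup M] [Module A M] (φ : M →ₗ[A] A) (ι : Type) [Fintype ι]

theorem coprod_zero_apply (p : M × (ι → A)) :
    (φ.coprod (0 : (ι → A) →ₗ[A] A)) p = φ p.1 := by
  simp [LinearMap.coprod_apply]

theorem kT_coprod_zero [DecidableEq ι] :
    kT (φ.coprod (0 : (ι → A) →ₗ[A] A)) =
      (kT φ).prod (Submodule.pi Set.univ fun _ : ι => LinearMap.range φ) := by
  apply le_antisymm
  · rw [kT, Submodule.span_le]
    rintro _ ⟨⟨⟨v, s⟩, ⟨w, t⟩⟩, rfl⟩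
    simp only [coprod_zero_apply, Prod.smul_mk, Prod.mk_sub_mk, SetLike.mem_coe,
      Submodule.mem_prod, Submodule.mem_pi, Set.mem_univ, forall_true_left]
    refine ⟨gen_mem_kT φ v w, fun i => ?_⟩
    simp only [Pi.sub_apply, Pi.smul_apply, smul_eq_mul]
    refine Submodule.sub_mem _ ⟨t i • v, ?_⟩ ⟨s i • w, ?_⟩
    · rw [map_smul, smul_eq_mul, mul_comm]
    · rw [map_smul, smul_eq_mul, mul_comm]
  · rintro ⟨b, s⟩ ⟨hb, hs⟩
    have h1 : (b, (0 : ι → A)) ∈ kT (φ.coprod (0 : (ι → A) →ₗ[A] A)) := by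
      have hle : (kT φ).map (LinearMap.inl A M (ι → A)) ≤
          kT (φ.coprod (0 : (ι → A) →ₗ[A] A)) := by
        rw [kT, Submodule.map_span, Submodule.span_le]
        rintro _ ⟨_, ⟨⟨v, w⟩, rfl⟩, rfl⟩
        have := gen_mem_kT (φ.coprod (0 : (ι → A) →ₗ[A] A)) (v, 0) (w, 0)
        simp only [coprod_zero_apply, Prod.smul_mk, smul_zero, Prod.mk_sub_mk, sub_zero] at this
        simpa using this
      exact hle ⟨b, hb, rfl⟩
    have h2 : ((0 : M), s) ∈ kT (φ.coprod (0 : (ι → A) →ₗ[A] A)) := by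
      have hs' : s = ∑ i, s i • (Pi.single i (1 : A) : ι → A) := by
        ext j
        simp [Finset.sum_apply, Pi.single_apply]
      have h3 : ((0 : M), s) = ∑ i, ((0 : M), s i • (Pi.single i (1 : A) : ι → A)) := by
        rw [Prod.ext_iff]
        constructor
        · simp [Prod.fst_sum]
        · rw [Prod.snd_sum]; exact hs'
      rw [h3]
      refine Submodule.sum_mem _ fun i _ => ?_
      obtain ⟨v, hv⟩ := hs i (Set.mem_univ i)
      have := gen_mem_kT (φ.coprod (0 : (ι → A) →ₗ[A] A)) (v, 0)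
        ((0 : M), (Pi.single i (1 : A) : ι → A))
      simp only [coprod_zero_apply, Prod.smul_mk, smul_zero, Prod.mk_sub_mk, sub_zero, map_zero,
        zero_smul] at this
      have hv' : φ v = s i := hv
      rw [← hv']
      exact this
    have : (b, s) = (b, (0 : ι → A)) + ((0 : M), s) := by simp
    rw [this]
    exact Submodule.add_mem _ h1 h2

theorem kh_coprod_zero (m : Ideal A) [hmax : m.IsMaximal] (hm : LinearMap.range φ = m) :
    kh (φ.coprod (0 : (ι → A) →ₗ[A] A)) = kh φ + Fintype.card ι := by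
  classical
  have hmaps : ∀ p ∈ LinearMap.ker (φ.coprod (0 : (ι → A) →ₗ[A] A)),
      LinearMap.fst A M (ι → A) p ∈ LinearMap.ker φ := by
    intro p hp
    rw [LinearMap.mem_ker, coprod_zero_apply] at hp
    exact hp
  let g₁ : LinearMap.ker (φ.coprod (0 : (ι → A) →ₗ[A] A)) →ₗ[A] kH φ :=
    (Submodule.mkQ _).comp ((LinearMap.fst A M (ι → A)).restrict hmaps)
  let g₂ : LinearMap.ker (φ.coprod (0 : (ι → A) →ₗ[A] A)) →ₗ[A] (ι → A ⧸ m) :=
    ((LinearMap.pi fun i => (Submodule.mkQ m).comp (LinearMap.proj i)).comp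
      (LinearMap.snd A M (ι → A))).comp (Submodule.subtype _)
  have hlen : Module.length A (kH φ × (ι → A ⧸ m)) = kh φ + Fintype.card ι := by
    haveI : IsSimpleModule A (A ⧸ m) := isSimpleModule_iff_isCoatom.2 (Ideal.isMaximal_def.1 hmax)
    rw [Module.length_prod, Module.length_pi_of_fintype]
    simp only [Module.length_eq_one, Finset.sum_const, Finset.card_univ, nsmul_eq_mul, mul_one]
    rfl
  rw [← hlen]
  apply kh_eq_length _ (g₁.prod g₂)
  · rintro ⟨q₁, q₂⟩
    obtain ⟨⟨v, hv⟩, rfl⟩ := Submodule.Quotient.mk_surjective _ q₁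
    choose s hs using fun i => Submodule.Quotient.mk_surjective m (q₂ i)
    refine ⟨⟨(v, s), ?_⟩, ?_⟩
    · rw [LinearMap.mem_ker, coprod_zero_apply]
      exact hv
    · refine Prod.ext rfl ?_
      funext i
      exact hs i
  · ext ⟨⟨v, s⟩, h⟩
    rw [LinearMap.mem_ker, Submodule.mem_comap, kT_coprod_zero, LinearMap.prod_apply,
      Prod.mk_eq_zero]
    have e1 : g₁ ⟨(v, s), h⟩ = 0 ↔ v ∈ kT φ := by
      show (Submodule.Quotient.mk (⟨v, hmaps _ h⟩ : LinearMap.ker φ) : kH φ) = 0 ↔ _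
      rw [Submodule.Quotient.mk_eq_zero]
      rfl
    have e2 : g₂ ⟨(v, s), h⟩ = 0 ↔ ∀ i, s i ∈ m := by
      rw [funext_iff]
      refine forall_congr' fun i => ?_
      show (Submodule.Quotient.mk (s i) : A ⧸ m) = 0 ↔ _
      rw [Submodule.Quotient.mk_eq_zero]
    show g₁ ⟨(v, s), h⟩ = 0 ∧ g₂ ⟨(v, s), h⟩ = 0 ↔
      v ∈ kT φ ∧ s ∈ (Submodule.pi Set.univ fun _ : ι => LinearMap.range φ)
    rw [e1, e2]
    constructor
    · rintro ⟨h1, h2⟩
      exact ⟨h1, fun i _ => by rw [hm]; exact h2 i⟩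
    · rintro ⟨h1, h2⟩
      exact ⟨h1, fun i => by rw [← hm]; exact h2 i (Set.mem_univ i)⟩

end Extend

section Compare

variable {M : Type v} [AddCommGroup M] [Module A M] (φ : M →ₗ[A] A) (ι : Type) [Fintype ι]

theorem kh_coprod (m : Ideal A) [m.IsMaximal] (hm : LinearMap.range φ = m)
    (ψ : (ι → A) →ₗ[A] A) (hψ : LinearMap.range ψ ≤ LinearMap.range φ) :
    kh (φ.coprod ψ) = kh φ + Fintype.card ι := by
  classical
  rw [← kh_coprod_zero φ ι m hm]
  have hex : ∀ i : ι, ∃ v, φ v = ψ (Pi.single i 1) := fun i => hψ ⟨_, rfl⟩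
  choose vv hvv using hex
  let α : (ι → A) →ₗ[A] M := (Pi.basisFun A ι).constr A vv
  have hα : ∀ w, φ (α w) = ψ w := by
    have : φ ∘ₗ α = ψ := by
      apply (Pi.basisFun A ι).ext
      intro i
      simp [α, hvv]
    intro w
    rw [← this]
    rfl
  let f : M × (ι → A) →ₗ[A] M × (ι → A) :=
    ((LinearMap.fst A M (ι → A)) + α ∘ₗ (LinearMap.snd A M (ι → A))).prod
      (LinearMap.snd A M (ι → A))
  let g : M × (ι → A) →ₗ[A] M × (ι → A) :=
    ((LinearMap.fst A M (ι → A)) - α ∘ₗ (LinearMap.snd A M (ι → A))).prod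
      (LinearMap.snd A M (ι → A))
  have hfg : f ∘ₗ g = LinearMap.id := by
    apply LinearMap.ext
    rintro ⟨v, w⟩
    simp [f, g]
  have hgf : g ∘ₗ f = LinearMap.id := by
    apply LinearMap.ext
    rintro ⟨v, w⟩
    simp [f, g]
  let e : (M × (ι → A)) ≃ₗ[A] (M × (ι → A)) := LinearEquiv.ofLinear f g hfg hgf
  apply kh_congr _ e
  apply LinearMap.ext
  rintro ⟨v, w⟩
  show (φ.coprod (0 : (ι → A) →ₗ[A] A)) (f (v, w)) = (φ.coprod ψ) (v, w)
  rw [coprod_zero_apply]
  simp [f, hα]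

/-- **independence of the presentation**: two functionals on finite free modules with range the same maximal
ideal have the same `rank - kh`. -/
theorem kh_add_card_eq {ι κ : Type} [Fintype ι] [Fintype κ] (φ : (ι → A) →ₗ[A] A)
    (ψ : (κ → A) →ₗ[A] A) (m : Ideal A) [m.IsMaximal] (hφ : LinearMap.range φ = m)
    (hψ : LinearMap.range ψ = m) :
    kh φ + Fintype.card κ = kh ψ + Fintype.card ι := by
  rw [← kh_coprod φ κ m hφ ψ (by rw [hφ, hψ]), ← kh_coprod ψ ι m hψ φ (by rw [hφ, hψ])]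
  apply kh_congr _ (LinearEquiv.prodComm A (ι → A) (κ → A))
  apply LinearMap.ext
  rintro ⟨v, w⟩
  simp [add_comm]

end Compare

end Groth.Agent.Lib.Helper65.KH1
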