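import Mathlib
import Groth.Agent.Lib.Helper65.KH1
import Groth.Agent.Lib.Helper15.Koszul

/-!
# Koszul `H₁` of a quotient of a local ring whose maximal ideal is generated by a Koszul-acyclic family (helper65)
-/

set_option autoImplicit false
universe u

namespace Groth.Agent.Lib.Helper65.KH1

open Groth.Agent.Lib.Helper15.Koszul IsLocalRing

section Bridge

variable {A : Type u} [CommRing A] {n : ℕ} (x : Fin n → A)

theorem range_relMap : LinearMap.range (relMap x A) = Ideal.span (Set.range x) := by
  rw [← smul_top_eq_range, smul_eq_mul, Ideal.mul_top]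

theorem gen_single_single (i j : Fin n) (a c : A) :
    relMap x A (Pi.single i a) • (Pi.single j c : Fin n → A) -
      relMap x A (Pi.single j c) • (Pi.single i a : Fin n → A) ∈
      Submodule.span A (trivSet x A) := by
  have h : relMap x A (Pi.single i a) • (Pi.single j c : Fin n → A) -
      relMap x A (Pi.single j c) • (Pi.single i a : Fin n → A) =
      (a * c) • (x i • (Pi.single j (1 : A) : Fin n → A) - x j • (Pi.single i (1 : A) : Fin n → A)) := by
    rw [relMap_single, relMap_single]
    ext k
    simp only [Pi.sub_apply, Pi.smul_apply, Pi.single_apply, smul_eq_mul]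
    split_ifs <;> ring
  rw [h]
  exact Submodule.smul_mem _ _ (Submodule.subset_span ⟨j, i, 1, rfl⟩)

theorem kT_relMap : kT (relMap x A) = Submodule.span A (trivSet x A) := by
  classical
  apply le_antisymm
  · rw [kT, Submodule.span_le]
    rintro _ ⟨⟨v, w⟩, rfl⟩
    show relMap x A v • w - relMap x A w • v ∈ Submodule.span A (trivSet x A)
    -- linear in `w`
    have step1 : ∀ (i : Fin n) (a : A) (w : Fin n → A),
        relMap x A (Pi.single i a) • w - relMap x A w • (Pi.single i a : Fin n → A) ∈
          Submodule.span A (trivSet x A) := by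
      intro i a w
      let G : (Fin n → A) →ₗ[A] (Fin n → A) :=
        relMap x A (Pi.single i a) • LinearMap.id - (relMap x A).smulRight (Pi.single i a)
      have hG : ∀ w, G w = relMap x A (Pi.single i a) • w -
          relMap x A w • (Pi.single i a : Fin n → A) := fun w => by simp [G]
      rw [← hG, ← Finset.univ_sum_single w, map_sum]
      refine Submodule.sum_mem _ fun j _ => ?_
      rw [hG]
      exact gen_single_single x i j a (w j)
    let G : (Fin n → A) →ₗ[A] (Fin n → A) :=
      (relMap x A).smulRight w - relMap x A w • LinearMap.id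
    have hG : ∀ v, G v = relMap x A v • w - relMap x A w • v := fun v => by simp [G]
    rw [← hG, ← Finset.univ_sum_single v, map_sum]
    refine Submodule.sum_mem _ fun i _ => ?_
    rw [hG]
    exact step1 i (v i) w
  · rw [Submodule.span_le]
    rintro _ ⟨i, j, a, rfl⟩
    have := gen_mem_kT (relMap x A) (Pi.single j (1 : A)) (Pi.single i a)
    rw [relMap_single, relMap_single] at this
    have h : x j • (Pi.single i a : Fin n → A) - x i • (Pi.single j a : Fin n → A) =
        (x j • (1 : A)) • (Pi.single i a : Fin n → A) -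
          (x i • a) • (Pi.single j (1 : A) : Fin n → A) := by
      ext k
      simp only [Pi.sub_apply, Pi.smul_apply, Pi.single_apply, smul_eq_mul]
      split_ifs <;> ring
    rw [SetLike.mem_coe, h]
    exact this

end Bridge

section K2

variable {B A : Type u} [CommRing B] [IsLocalRing B] [IsNoetherianRing B] [CommRing A]

/-- the length of `I/𝔪I` is the minimal number of generators -/
theorem length_quotient_smul_top (I : Ideal B) :
    Module.length B (I ⧸ (maximalIdeal B) • (⊤ : Submodule B I)) = (I.spanFinrank : ℕ∞) := by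
  have fg : I.FG := I.fg_of_isNoetherianRing
  rw [IsLocalRing.spanFinrank_eq_finrank_quotient I fg]
  haveI : Module.Finite B I := Module.Finite.iff_fg.mpr fg
  haveI : Module.Finite (B ⧸ maximalIdeal B) (I ⧸ (maximalIdeal B) • (⊤ : Submodule B I)) :=
    Module.Finite.of_restrictScalars_finite B _ _
  have h1 : Module.length B (I ⧸ (maximalIdeal B) • (⊤ : Submodule B I)) =
      Module.length (B ⧸ maximalIdeal B) (I ⧸ (maximalIdeal B) • (⊤ : Submodule B I)) :=
    Module.length_eq_of_surjective Ideal.Quotient.mk_surjective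
  rw [h1]
  letI : Field (B ⧸ maximalIdeal B) := Ideal.Quotient.field (maximalIdeal B)
  exact Module.length_eq_finrank (B ⧸ maximalIdeal B) (I ⧸ (maximalIdeal B) • (⊤ : Submodule B I))

theorem kh_eq_spanFinrank (f : B →+* A) (hf : Function.Surjective f) {d : ℕ} (x : Fin d → B)
    (hx : Ideal.span (Set.range x) = maximalIdeal B)
    (hH1 : LinearMap.ker (relMap x B) ≤ Submodule.span B (trivSet x B))
    (hI : RingHom.ker f ≠ ⊤) :
    kh (relMap (fun i => f (x i)) A) = ((RingHom.ker f).spanFinrank : ℕ∞) := by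
  classical
  letI : Algebra B A := f.toAlgebra
  have halg : ∀ b : B, algebraMap B A b = f b := fun _ => rfl
  obtain ⟨I, hIdef⟩ : ∃ I : Ideal B, I = RingHom.ker f := ⟨_, rfl⟩
  have hIm : I ≤ maximalIdeal B := by rw [hIdef]; exact IsLocalRing.le_maximalIdeal hI
  rw [← hIdef, ← length_quotient_smul_top I]
  obtain ⟨φ, hφ⟩ : ∃ φ : (Fin d → A) →ₗ[A] A, φ = relMap (fun i => f (x i)) A := ⟨_, rfl⟩
  rw [← hφ]
  obtain ⟨Φ, hΦ⟩ : ∃ Φ : (Fin d → B) →ₗ[B] B, Φ = relMap x B := ⟨_, rfl⟩
  let q : (Fin d → B) →ₗ[B] (Fin d → A) := (Algebra.linearMap B A).compLeft (Fin d)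
  have hq : ∀ b i, q b i = f (b i) := fun b i => rfl
  have hqφ : ∀ b, φ (q b) = f (Φ b) := by
    intro b
    rw [hφ, hΦ, relMap_apply, relMap_apply, map_sum]
    refine Finset.sum_congr rfl fun i _ => ?_
    rw [hq, smul_eq_mul, smul_eq_mul, map_mul]
  have hqsurj : Function.Surjective q := by
    intro z
    choose b hb using fun i => hf (z i)
    exact ⟨b, funext fun i => by rw [hq, hb]⟩
  have hrangeΦ : LinearMap.range Φ = maximalIdeal B := by rw [hΦ, range_relMap, hx]
  -- the module `P`
  let P : Submodule B (Fin d → B) := Submodule.comap Φ I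
  have hP : ∀ b : Fin d → B, b ∈ P ↔ Φ b ∈ I := fun b => Iff.rfl
  -- the two maps
  let α : P →ₗ[B] (I ⧸ (maximalIdeal B) • (⊤ : Submodule B I)) :=
    (Submodule.mkQ _).comp (Φ.restrict (p := P) (q := I) (fun b hb => hb))
  have hmemker : ∀ b : P, q b.1 ∈ LinearMap.ker φ := by
    intro b
    rw [LinearMap.mem_ker, hqφ]
    have : Φ b.1 ∈ I := b.2
    rw [hIdef, RingHom.mem_ker] at this
    exact this
  let β₀ : P →ₗ[B] LinearMap.ker φ :=
    { toFun := fun b => ⟨q b.1, hmemker b⟩
      map_add' := fun b c => by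
        apply Subtype.ext
        show q (b.1 + c.1) = q b.1 + q c.1
        rw [map_add]
      map_smul' := fun r b => by
        apply Subtype.ext
        show q (r • b.1) = r • q b.1
        rw [map_smul] }
  let β : P →ₗ[B] kH φ :=
    ((Submodule.mkQ ((kT φ).comap (LinearMap.ker φ).subtype)).restrictScalars B).comp β₀
  have hαsurj : Function.Surjective α := by
    intro y
    obtain ⟨⟨g, hg⟩, rfl⟩ := Submodule.Quotient.mk_surjective _ y
    have : g ∈ LinearMap.range Φ := by rw [hrangeΦ]; exact hIm hg
    obtain ⟨b, rfl⟩ := this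
    exact ⟨⟨b, hg⟩, rfl⟩
  have hβsurj : Function.Surjective β := by
    intro y
    obtain ⟨⟨z, hz⟩, rfl⟩ := Submodule.Quotient.mk_surjective _ y
    obtain ⟨b, rfl⟩ := hqsurj z
    have hb : b ∈ P := by
      rw [hP, hIdef, RingHom.mem_ker, ← hqφ]
      exact hz
    exact ⟨⟨b, hb⟩, rfl⟩
  -- kernels
  have hkerα : ∀ b : P, α b = 0 ↔ Φ b.1 ∈ maximalIdeal B • I := by
    intro b
    show (Submodule.Quotient.mk (⟨Φ b.1, b.2⟩ : I) :
      I ⧸ (maximalIdeal B) • (⊤ : Submodule B I)) = 0 ↔ _
    rw [Submodule.Quotient.mk_eq_zero, Submodule.mem_smul_top_iff]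
  have hkerβ : ∀ b : P, β b = 0 ↔ q b.1 ∈ kT φ := by
    intro b
    show (Submodule.Quotient.mk (⟨q b.1, hmemker b⟩ : LinearMap.ker φ) : kH φ) = 0 ↔ _
    rw [Submodule.Quotient.mk_eq_zero]
    rfl
  -- `q b ∈ kT φ ↔ b ∈ T_B ⊔ ker q`
  have hTA : ∀ b : Fin d → B, q b ∈ kT φ ↔
      ∃ κ ∈ Submodule.span B (trivSet x B), ∀ i, b i - κ i ∈ I := by
    intro b
    have h1 : (kT φ : Set (Fin d → A)) =
        ((Submodule.span B (trivSet x B)).map q : Set (Fin d → A)) := by
      rw [hφ, kT_relMap]
      have h2 : trivSet (fun i => f (x i)) A = trivSet x A := by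
        ext v
        constructor
        · rintro ⟨i, j, a, rfl⟩
          exact ⟨i, j, a, by rw [Algebra.smul_def, Algebra.smul_def]; rfl⟩
        · rintro ⟨i, j, a, rfl⟩
          exact ⟨i, j, a, by rw [Algebra.smul_def, Algebra.smul_def]; rfl⟩
      rw [h2]
      have h3 : (Submodule.span B (trivSet x B)).map q = Submodule.span B (trivSet x A) :=
        le_antisymm (map_triv_le x (Algebra.linearMap B A))
          (triv_le_map x (Algebra.linearMap B A) hf)
      rw [h3, ← Submodule.restrictScalars_span B A hf]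
      rfl
    have h4 : q b ∈ kT φ ↔ q b ∈ ((Submodule.span B (trivSet x B)).map q) := by
      rw [← SetLike.mem_coe, h1]
      rfl
    rw [h4]
    constructor
    · rintro ⟨κ, hκ, hκb⟩
      refine ⟨κ, hκ, fun i => ?_⟩
      rw [hIdef, RingHom.mem_ker, map_sub, sub_eq_zero, ← hq, ← hq κ, hκb]
    · rintro ⟨κ, hκ, h⟩
      refine ⟨κ, hκ, funext fun i => ?_⟩
      have := h i
      rw [hIdef, RingHom.mem_ker, map_sub, sub_eq_zero] at this
      rw [hq, hq, this]
  have hTker : Submodule.span B (trivSet x B) ≤ LinearMap.ker Φ := by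
    rw [hΦ]; exact triv_le_ker x B
  have hker : LinearMap.ker α = LinearMap.ker β := by
    ext b
    rw [LinearMap.mem_ker, LinearMap.mem_ker, hkerα, hkerβ, hTA]
    constructor
    · intro h
      rw [smul_eq_mul, mul_comm, ← smul_eq_mul, ← hx,
        Submodule.mem_ideal_smul_span_iff_exists_sum] at h
      obtain ⟨a, ha, hsum⟩ := h
      have hsum' : Φ (fun i => a i) = Φ b.1 := by
        rw [← hsum, hΦ, relMap_apply, Finsupp.sum_fintype _ _ (fun i => by simp)]
        refine Finset.sum_congr rfl fun i _ => ?_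
        rw [smul_eq_mul, smul_eq_mul, mul_comm]
      refine ⟨b.1 - (fun i => a i), ?_, fun i => ?_⟩
      · apply hH1
        rw [← hΦ, LinearMap.mem_ker, map_sub, hsum', sub_self]
      · simp only [Pi.sub_apply, sub_sub_cancel]
        exact ha i
    · rintro ⟨κ, hκ, h⟩
      have h0 : Φ κ = 0 := hTker hκ
      have h1 : Φ b.1 = Φ (b.1 - κ) := by rw [map_sub, h0, sub_zero]
      rw [h1, hΦ, relMap_apply]
      refine Submodule.sum_mem _ fun i _ => ?_
      refine Submodule.smul_mem_smul ?_ (h i)
      rw [← hx]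
      exact Ideal.subset_span ⟨i, rfl⟩
  -- lengths
  have e1 := (α.quotKerEquivOfSurjective hαsurj).length_eq
  have e2 := (β.quotKerEquivOfSurjective hβsurj).length_eq
  rw [← e1, hker, e2]
  unfold kh
  exact (Module.length_eq_of_surjective (S := B) (R := A) (M := kH φ) hf).symm

end K2

end Groth.Agent.Lib.Helper65.KH1
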