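import Groth.Prelude
import Mathlib
import Groth.Agent.S2842
import Groth.Agent.Lib.Helper65.CIFlat
import Groth.Agent.Lib.Helper62.JacMinor

/-!
# Complete intersection local rings and extension of the base field (helper65)
-/

set_option autoImplicit false
universe u

namespace Groth.Agent.Lib.Helper65.CIField

open IsLocalRing TensorProduct Groth.Agent.Lib.Helper65.CIPres Groth.Agent.Lib.Helper65.CILocus
  Groth.Agent.Lib.Helper65.CIFlat

theorem flat_includeRight (k K A : Type u) [CommRing k] [CommRing K] [CommRing A] [Algebra k K]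
    [Algebra k A] [Module.Flat k K] :
    (Algebra.TensorProduct.includeRight (R := k) (A := K) (B := A)).toRingHom.Flat := by
  have h1 : (algebraMap A (A ⊗[k] K)).Flat := RingHom.flat_algebraMap_iff.2 inferInstance
  have h2 : ((Algebra.TensorProduct.comm k A K : A ⊗[k] K ≃ₐ[k] K ⊗[k] A).toRingEquiv.toRingHom).Flat :=
    RingHom.Flat.of_bijective (Algebra.TensorProduct.comm k A K).bijective
  have h3 := RingHom.Flat.comp h1 h2
  have h4 : (Algebra.TensorProduct.includeRight (R := k) (A := K) (B := A)).toRingHom =
      ((Algebra.TensorProduct.comm k A K : A ⊗[k] K ≃ₐ[k] K ⊗[k] A).toRingEquiv.toRingHom).comp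
        (algebraMap A (A ⊗[k] K)) := by
    refine RingHom.ext fun a => ?_
    rfl
  rw [h4]
  exact h3

/-- the abstract comparison: a commutative square of surjections from regular local rings with flat local
vertical map and extended kernel -/
theorem isCompleteIntersection_iff_of_square {R R' O O' : Type u} [CommRing R] [CommRing R']
    [CommRing O] [CommRing O'] [IsRegularLocalRing R] [IsRegularLocalRing R'] [IsLocalRing O]
    [IsLocalRing O'] (π : R →+* O) (hπ : Function.Surjective π) (π' : R' →+* O')
    (hπ' : Function.Surjective π') (ι : R →+* R') (hι : ι.Flat) [IsLocalHom ι]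
    (hker : RingHom.ker π' = (RingHom.ker π).map ι) :
    Pi1.IsCompleteIntersection O ↔ Pi1.IsCompleteIntersection O' := by
  rw [Groth.Agent.S2842.isCompleteIntersection_iff_isCI π hπ,
    Groth.Agent.S2842.isCompleteIntersection_iff_isCI π' hπ', hker]
  letI : Algebra R R' := ι.toAlgebra
  haveI : Module.Flat R R' := hι
  haveI : IsLocalHom (algebraMap R R') := ‹IsLocalHom ι›
  haveI := isCM_of_isRegularLocalRing R
  haveI := isCM_of_isRegularLocalRing R'
  have hne : RingHom.ker π ≠ ⊤ := by
    intro h
    have : (1 : R) ∈ RingHom.ker π := h ▸ Submodule.mem_top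
    rw [RingHom.mem_ker, map_one] at this
    exact one_ne_zero this
  exact (isCI_map_iff R R' (RingHom.ker π) hne).symm

/-- invariance of the complete intersection property of local rings of algebras of finite type under
extension of the base field -/
theorem isCompleteIntersection_tensor_iff (k K : Type u) [Field k] [Field K] [Algebra k K]
    (A : Type u) [CommRing A] [Algebra k A] [Algebra.FiniteType k A]
    (P' : Ideal (K ⊗[k] A)) [P'.IsPrime] (q : Ideal A) [q.IsPrime]
    (hq : P'.comap (Algebra.TensorProduct.includeRight (R := k) (A := K) (B := A)).toRingHom = q) :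
    Pi1.IsCompleteIntersection (Localization.AtPrime q) ↔
      Pi1.IsCompleteIntersection (Localization.AtPrime P') := by
  obtain ⟨n, ψ, hψ⟩ := Algebra.FiniteType.iff_quotient_mvPolynomial''.1
    (inferInstance : Algebra.FiniteType k A)
  haveI : IsRegularRing (MvPolynomial (Fin n) k) := inferInstance
  haveI : IsRegularRing (MvPolynomial (Fin n) K) := inferInstance
  haveI : IsRegularRing (K ⊗[k] MvPolynomial (Fin n) k) :=
    IsRegularRing.of_ringEquiv (MvPolynomial.algebraTensorAlgEquiv k K).symm.toRingEquiv
  obtain ⟨ψK, hψKdef⟩ : ∃ ψK : K ⊗[k] MvPolynomial (Fin n) k →ₐ[k] K ⊗[k] A,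
      ψK = Algebra.TensorProduct.map (AlgHom.id k K) ψ := ⟨_, rfl⟩
  have hψK : Function.Surjective ψK := by
    rw [hψKdef]
    exact Algebra.TensorProduct.map_surjective (AlgHom.id k K) ψ Function.surjective_id hψ
  have hkerK : RingHom.ker ψK.toRingHom = (RingHom.ker ψ.toRingHom).map
      (Algebra.TensorProduct.includeRight (R := k) (A := K)
        (B := MvPolynomial (Fin n) k)).toRingHom := by
    rw [hψKdef]
    exact Algebra.TensorProduct.lTensor_ker (A := K) ψ hψ
  have hcomm : ∀ p : MvPolynomial (Fin n) k, ψK (Algebra.TensorProduct.includeRight p) =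
      Algebra.TensorProduct.includeRight (ψ p) := by
    intro p
    rw [hψKdef]
    simp
  have hQ : q.comap ψ.toRingHom = (P'.comap ψK.toRingHom).comap
      (Algebra.TensorProduct.includeRight (R := k) (A := K)
        (B := MvPolynomial (Fin n) k)).toRingHom := by
    rw [← hq]
    ext p
    simp only [Ideal.mem_comap]
    show _ ↔ ψK (Algebra.TensorProduct.includeRight p) ∈ P'
    rw [hcomm]
    rfl
  have hιflat := RingHom.Flat.localRingHom
    (flat_includeRight k K (MvPolynomial (Fin n) k)) (P'.comap ψK.toRingHom)
    (q.comap ψ.toRingHom) hQ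
  haveI := Localization.isLocalHom_localRingHom (q.comap ψ.toRingHom) (P'.comap ψK.toRingHom)
    (Algebra.TensorProduct.includeRight (R := k) (A := K)
        (B := MvPolynomial (Fin n) k)).toRingHom hQ
  refine isCompleteIntersection_iff_of_square
    (R := Localization.AtPrime (q.comap ψ.toRingHom))
    (R' := Localization.AtPrime (P'.comap ψK.toRingHom))
    (Localization.localRingHom (q.comap ψ.toRingHom) q ψ.toRingHom rfl)
    (RingHom.surjective_localRingHom_of_surjective ψ.toRingHom hψ q)
    (Localization.localRingHom (P'.comap ψK.toRingHom) P' ψK.toRingHom rfl)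
    (RingHom.surjective_localRingHom_of_surjective ψK.toRingHom hψK P')
    (Localization.localRingHom (q.comap ψ.toRingHom) (P'.comap ψK.toRingHom)
      (Algebra.TensorProduct.includeRight (R := k) (A := K)
        (B := MvPolynomial (Fin n) k)).toRingHom hQ) hιflat ?_
  rw [Groth.Agent.Lib.Helper62.JacMinor.ker_localRingHom_eq_map ψ.toRingHom hψ q,
    Groth.Agent.Lib.Helper62.JacMinor.ker_localRingHom_eq_map ψK.toRingHom hψK P', hkerK,
    Ideal.map_map, Ideal.map_map]
  congr 1
  refine RingHom.ext fun p => ?_
  simp only [RingHom.comp_apply]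
  rw [Localization.localRingHom_to_map]

end Groth.Agent.Lib.Helper65.CIField
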