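import Groth.Prelude
import Mathlib
import Groth.Agent.S2843

set_option autoImplicit false
universe u
open CategoryTheory CategoryTheory.Limits AlgebraicGeometry TopologicalSpace

namespace Groth.Agent.Lib.Helper65.CIFibre

theorem stalk_equiv_of_fiberι_eq {X S : Scheme.{u}} (f : X ⟶ S) (s : S) (z : ↥(f.fiber s)) (x : X)
    (h : f.fiberι s z = x) :
    Nonempty ((f.fiber s).presheaf.stalk z ≃+* CInt.fiberStalk f x) := by
  have hs : f x = s := by
    rw [← h]
    have hz : f.fiberι s z ∈ f ⁻¹' {s} := f.range_fiberι s ▸ Set.mem_range_self z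
    exact hz
  subst hs
  have hz : z = f.asFiber x :=
    (f.fiberι (f x)).isEmbedding.injective (by rw [h, f.fiberι_asFiber])
  subst hz
  exact ⟨RingEquiv.refl _⟩

theorem stalk_equiv_of_iso {Y Z : Scheme.{u}} (Φ : Y ≅ Z) (y : Y) :
    Nonempty (Z.presheaf.stalk (Φ.hom y) ≃+* Y.presheaf.stalk y) :=
  ⟨(asIso (Φ.hom.stalkMap y)).commRingCatIsoToRingEquiv⟩

/-- the complete intersection property of the local rings of the fibres is invariant under base change -/
theorem isCompleteIntersection_fiberStalk_baseChange_iff {X S S' : Scheme.{u}} (f : X ⟶ S)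
    [LocallyOfFiniteType f] (g : S' ⟶ S) (x' : ↥(pullback f g)) :
    Pi1.IsCompleteIntersection (CInt.fiberStalk f ((pullback.fst f g) x')) ↔
      Pi1.IsCompleteIntersection (CInt.fiberStalk (pullback.snd f g) x') := by
  have hpb : IsPullback (pullback.fst f g) (pullback.snd f g) f g := IsPullback.of_hasPullback f g
  obtain ⟨s', hs'⟩ : ∃ s' : S', s' = (pullback.snd f g) x' := ⟨_, rfl⟩
  have H := isPullback_fiberToSpecResidueField_of_isPullback hpb s'
  haveI : LocallyOfFiniteType (f.fiberToSpecResidueField (g s')) :=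
    inferInstanceAs (LocallyOfFiniteType (pullback.snd f (S.fromSpecResidueField (g s'))))
  letI : Algebra (S.residueField (g s')) (S'.residueField s') := (g.residueFieldMap s').hom.toAlgebra
  -- the point of the fibre of the base change, and its image
  obtain ⟨x'', hx''⟩ : ∃ x'' : ↥((pullback.snd f g).fiber s'),
      (pullback.snd f g).fiberι s' x'' = x' := by
    subst hs'
    exact ⟨(pullback.snd f g).asFiber x', (pullback.snd f g).fiberι_asFiber x'⟩
  have key := Groth.Agent.S2843.result (k := S.residueField (g s')) (k' := S'.residueField s')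
    (f.fiber (g s')) (f.fiberToSpecResidueField (g s')) (H.isoPullback.hom x'')
  obtain ⟨e1⟩ := stalk_equiv_of_iso H.isoPullback x''
  obtain ⟨e2⟩ := stalk_equiv_of_fiberι_eq (pullback.snd f g) s' x'' x' hx''
  have hz : f.fiberι (g s') ((pullback.fst (f.fiberToSpecResidueField (g s'))
      (Spec.map (g.residueFieldMap s'))) (H.isoPullback.hom x'')) = (pullback.fst f g) x' := by
    obtain ⟨m, hm1, hm2⟩ : ∃ m : (pullback.snd f g).fiber s' ⟶ f.fiber (g s'),
        H.isoPullback.hom ≫ pullback.fst (f.fiberToSpecResidueField (g s'))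
          (Spec.map (g.residueFieldMap s')) = m ∧
        m ≫ f.fiberι (g s') = (pullback.snd f g).fiberι s' ≫ pullback.fst f g :=
      ⟨_, H.isoPullback_hom_fst, pullback.lift_fst _ _ _⟩
    have e1 : (pullback.fst (f.fiberToSpecResidueField (g s'))
        (Spec.map (g.residueFieldMap s'))) (H.isoPullback.hom x'') = m x'' :=
      congrArg (fun φ : (pullback.snd f g).fiber s' ⟶ f.fiber (g s') => φ x'') hm1
    have e2 : (f.fiberι (g s')) (m x'') =
        (pullback.fst f g) ((pullback.snd f g).fiberι s' x'') :=
      congrArg (fun φ : (pullback.snd f g).fiber s' ⟶ X => φ x'') hm2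
    exact ((congrArg (f.fiberι (g s')) e1).trans e2).trans (congrArg (pullback.fst f g) hx'')
  obtain ⟨e3⟩ := stalk_equiv_of_fiberι_eq f (g s') _ _ hz
  constructor
  · intro h
    have h1 := Groth.Agent.S2842.isCompleteIntersection_of_ringEquiv e3.symm h
    have h2 := key.1 h1
    exact Groth.Agent.S2842.isCompleteIntersection_of_ringEquiv (e1.trans e2) h2
  · intro h
    have h2 := Groth.Agent.S2842.isCompleteIntersection_of_ringEquiv (e1.trans e2).symm h
    have h1 := key.2 h2
    exact Groth.Agent.S2842.isCompleteIntersection_of_ringEquiv e3 h1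

end Groth.Agent.Lib.Helper65.CIFibre
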