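import Groth.Prelude
import Mathlib
import Groth.Agent.S2843
import Groth.Agent.Lib.Helper65.CIFibre

set_option autoImplicit false
universe u
open CategoryTheory CategoryTheory.Limits AlgebraicGeometry TopologicalSpace

namespace Groth.Agent.Lib.Helper65.CIFibre

open Groth.Agent.Lib.Helper65.CIPres

/-- general pullback square version -/
theorem isCompleteIntersection_fiberStalk_iff_of_isPullback {X S X' S' : Scheme.{u}} (f : X ⟶ S)
    [LocallyOfFiniteType f] (g : S' ⟶ S) (g' : X' ⟶ X) (f' : X' ⟶ S')
    (hpb : IsPullback g' f' f g) (x' : X') :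
    Pi1.IsCompleteIntersection (CInt.fiberStalk f (g' x')) ↔
      Pi1.IsCompleteIntersection (CInt.fiberStalk f' x') := by
  obtain ⟨s', hs'⟩ : ∃ s' : S', s' = f' x' := ⟨_, rfl⟩
  have H := isPullback_fiberToSpecResidueField_of_isPullback hpb s'
  haveI : LocallyOfFiniteType (f.fiberToSpecResidueField (g s')) :=
    inferInstanceAs (LocallyOfFiniteType (pullback.snd f (S.fromSpecResidueField (g s'))))
  letI : Algebra (S.residueField (g s')) (S'.residueField s') := (g.residueFieldMap s').hom.toAlgebra
  obtain ⟨x'', hx''⟩ : ∃ x'' : ↥(f'.fiber s'), f'.fiberι s' x'' = x' := by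
    subst hs'
    exact ⟨f'.asFiber x', f'.fiberι_asFiber x'⟩
  have key := Groth.Agent.S2843.result (k := S.residueField (g s')) (k' := S'.residueField s')
    (f.fiber (g s')) (f.fiberToSpecResidueField (g s')) (H.isoPullback.hom x'')
  obtain ⟨e1⟩ := stalk_equiv_of_iso H.isoPullback x''
  obtain ⟨e2⟩ := stalk_equiv_of_fiberι_eq f' s' x'' x' hx''
  have hz : f.fiberι (g s') ((pullback.fst (f.fiberToSpecResidueField (g s'))
      (Spec.map (g.residueFieldMap s'))) (H.isoPullback.hom x'')) = g' x' := by
    obtain ⟨m, hm1, hm2⟩ : ∃ m : f'.fiber s' ⟶ f.fiber (g s'),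
        H.isoPullback.hom ≫ pullback.fst (f.fiberToSpecResidueField (g s'))
          (Spec.map (g.residueFieldMap s')) = m ∧
        m ≫ f.fiberι (g s') = f'.fiberι s' ≫ g' :=
      ⟨_, H.isoPullback_hom_fst, pullback.lift_fst _ _ _⟩
    have e1 : (pullback.fst (f.fiberToSpecResidueField (g s'))
        (Spec.map (g.residueFieldMap s'))) (H.isoPullback.hom x'') = m x'' :=
      congrArg (fun φ : f'.fiber s' ⟶ f.fiber (g s') => φ x'') hm1
    have e2 : (f.fiberι (g s')) (m x'') = g' (f'.fiberι s' x'') :=
      congrArg (fun φ : f'.fiber s' ⟶ X => φ x'') hm2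
    exact ((congrArg (f.fiberι (g s')) e1).trans e2).trans (congrArg g' hx'')
  obtain ⟨e3⟩ := stalk_equiv_of_fiberι_eq f (g s') _ _ hz
  constructor
  · intro h
    have h1 := Groth.Agent.S2842.isCompleteIntersection_of_ringEquiv e3.symm h
    have h2 := key.1 h1
    exact Groth.Agent.S2842.isCompleteIntersection_of_ringEquiv (e1.trans e2) h2
  · intro h
    have h2 := Groth.Agent.S2842.isCompleteIntersection_of_ringEquiv (e1.trans e2).symm h
    have h1 := key.2 h2
    exact Groth.Agent.S2842.isCompleteIntersection_of_ringEquiv e3 h1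

/-- for local rings essentially of finite type over a field, the two notions of complete intersection agree -/
theorem isCIOver_iff_isCompleteIntersection (k : Type u) [Field k] (O : Type u) [CommRing O]
    [IsLocalRing O] [Algebra k O] [Algebra.EssFiniteType k O] :
    Synt.IsCIOver k O ↔ Pi1.IsCompleteIntersection O := by
  obtain ⟨A, iA, iAk, a, ha, hft, ⟨E⟩⟩ := exists_atPrime_equiv k O
  obtain ⟨n, ψ, hψ⟩ := Algebra.FiniteType.iff_quotient_mvPolynomial''.1 hft
  haveI : IsRegularRing (MvPolynomial (Fin n) k) := inferInstance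
  have h1 : Synt.IsCIOver k (Localization.AtPrime a) ↔
      Pi1.IsCompleteIntersection (Localization.AtPrime a) := by
    rw [isCIOver_iff_isCI_ker k (localAlgHom k ψ a) (localAlgHom_surjective k ψ hψ a),
      Groth.Agent.S2842.isCompleteIntersection_iff_isCI (localAlgHom k ψ a).toRingHom
        (localAlgHom_surjective k ψ hψ a)]
  constructor
  · intro h
    exact Groth.Agent.S2842.isCompleteIntersection_of_ringEquiv E.symm.toRingEquiv
      (h1.1 (IsCIOver.of_algEquiv k E h))
  · intro h
    exact IsCIOver.of_algEquiv k E.symm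
      (h1.2 (Groth.Agent.S2842.isCompleteIntersection_of_ringEquiv E.toRingEquiv h))

end Groth.Agent.Lib.Helper65.CIFibre
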