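import Mathlib.RingTheory.LocalRing.Module
import Mathlib.RingTheory.Support
import Mathlib.RingTheory.Finiteness.Nakayama
import Mathlib.RingTheory.TensorProduct.Quotient
import Mathlib.LinearAlgebra.Dual.Lemmas
import Mathlib.LinearAlgebra.TensorProduct.RightExactness

/-!
# Fibrewise criteria over all residue fields (helper65)

* `subsingleton_of_forall_residueField`: a finite module with all fibres `κ(p) ⊗ C` zero is zero.
* `surjective_of_forall_lTensor`, `injective_of_forall_lTensor`, `bijective_of_forall_lTensor`:
  a map of finite (projective) modules which is surjective / bijective on all fibres is so.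
* `faithfulSMul_of_forall_residueField`: a finite projective module with all fibres faithful is
  faithful.
-/

set_option autoImplicit false

namespace Groth.Agent.Lib.Helper65.FibreBij

open TensorProduct

variable (R : Type*) [CommRing R]

/-- a finite module all of whose fibres vanish is zero -/
theorem subsingleton_of_forall_residueField
    (C : Type*) [AddCommGroup C] [Module R C] [Module.Finite R C]
    (h : ∀ (p : Ideal R) [p.IsPrime], Subsingleton (p.ResidueField ⊗[R] C)) : Subsingleton C := by
  rw [← Module.support_eq_empty_iff (R := R), Set.eq_empty_iff_forall_notMem]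
  intro p hp
  rw [Module.mem_support_iff_nontrivial_residueField_tensorProduct] at hp
  have := h p.asIdeal
  exact not_subsingleton _ this

section maps

variable {R}
variable {P Q : Type*} [AddCommGroup P] [Module R P] [AddCommGroup Q] [Module R Q]

theorem surjective_of_forall_lTensor [Module.Finite R Q] (φ : P →ₗ[R] Q)
    (h : ∀ (p : Ideal R) [p.IsPrime], Function.Surjective (φ.lTensor p.ResidueField)) :
    Function.Surjective φ := by
  haveI : Subsingleton (Q ⧸ LinearMap.range φ) := by
    apply subsingleton_of_forall_residueField R
    intro p _
    have hz : ∀ w : p.ResidueField ⊗[R] (Q ⧸ LinearMap.range φ), w = 0 := by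
      intro w
      obtain ⟨y, rfl⟩ := LinearMap.lTensor_surjective p.ResidueField
        (Submodule.mkQ_surjective (LinearMap.range φ)) w
      obtain ⟨z, rfl⟩ := h p y
      rw [← LinearMap.comp_apply, ← LinearMap.lTensor_comp]
      have : (LinearMap.range φ).mkQ ∘ₗ φ = 0 := LinearMap.range_mkQ_comp φ
      rw [this, LinearMap.lTensor_zero]
      rfl
    exact ⟨fun a b => by rw [hz a, hz b]⟩
  rw [← LinearMap.range_eq_top]
  exact Submodule.Quotient.subsingleton_iff.mp inferInstance

theorem injective_of_forall_lTensor [Module.Finite R P] [Module.Projective R Q] (φ : P →ₗ[R] Q)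
    (hφ : Function.Surjective φ)
    (h : ∀ (p : Ideal R) [p.IsPrime], Function.Injective (φ.lTensor p.ResidueField)) :
    Function.Injective φ := by
  obtain ⟨σ, hσ⟩ := Module.projective_lifting_property φ LinearMap.id hφ
  let π : P →ₗ[R] P := LinearMap.id - σ ∘ₗ φ
  have hφσ : ∀ y, φ (σ y) = y := fun y => LinearMap.congr_fun hσ y
  have hπidem : ∀ x, π (π x) = π x := by
    intro x
    simp only [π, LinearMap.sub_apply, LinearMap.id_apply, LinearMap.comp_apply, map_sub, hφσ]
    simp
  haveI : Module.Finite R (LinearMap.range π) := Module.Finite.range π
  haveI : Subsingleton (LinearMap.range π) := by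
    apply subsingleton_of_forall_residueField R
    intro p _
    have hlπ : π.lTensor p.ResidueField = 0 := by
      have h1 : (φ.lTensor p.ResidueField) ∘ₗ (σ.lTensor p.ResidueField) = LinearMap.id := by
        rw [← LinearMap.lTensor_comp, hσ, LinearMap.lTensor_id]
      have h2 : (σ.lTensor p.ResidueField) ∘ₗ (φ.lTensor p.ResidueField) = LinearMap.id := by
        apply LinearMap.ext
        intro z
        apply h p
        have := LinearMap.congr_fun h1 (φ.lTensor p.ResidueField z)
        simpa using this
      rw [LinearMap.lTensor_sub, LinearMap.lTensor_id, LinearMap.lTensor_comp, h2]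
      exact sub_self (LinearMap.id : p.ResidueField ⊗[R] P →ₗ[R] p.ResidueField ⊗[R] P)
    have hρι : π.rangeRestrict ∘ₗ (LinearMap.range π).subtype = LinearMap.id := by
      apply LinearMap.ext
      rintro ⟨x, y, rfl⟩
      apply Subtype.ext
      simp only [LinearMap.comp_apply, Submodule.subtype_apply, LinearMap.codRestrict_apply,
        LinearMap.id_apply]
      exact hπidem y
    have hz : ∀ w : p.ResidueField ⊗[R] (LinearMap.range π), w = 0 := by
      intro w
      obtain ⟨z, rfl⟩ := LinearMap.lTensor_surjective p.ResidueField
        (LinearMap.surjective_rangeRestrict π) w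
      have h3 : (π.rangeRestrict.lTensor p.ResidueField) z =
          (π.rangeRestrict.lTensor p.ResidueField)
            (((LinearMap.range π).subtype.lTensor p.ResidueField)
              ((π.rangeRestrict.lTensor p.ResidueField) z)) := by
        rw [← LinearMap.comp_apply (π.rangeRestrict.lTensor p.ResidueField),
          ← LinearMap.lTensor_comp, hρι, LinearMap.lTensor_id, LinearMap.id_apply]
      rw [h3, ← LinearMap.comp_apply ((LinearMap.range π).subtype.lTensor p.ResidueField),
        ← LinearMap.lTensor_comp, LinearMap.rangeRestrict, LinearMap.subtype_comp_codRestrict, hlπ]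
      simp
    exact ⟨fun a b => by rw [hz a, hz b]⟩
  rw [injective_iff_map_eq_zero]
  intro x hx
  have hπx : π x = 0 := by
    have : (⟨π x, x, rfl⟩ : LinearMap.range π) = 0 := Subsingleton.elim _ _
    exact congrArg Subtype.val this
  have : π x = x := by
    simp only [π, LinearMap.sub_apply, LinearMap.id_apply, LinearMap.comp_apply, hx, map_zero,
      sub_zero]
  rw [← this, hπx]

theorem bijective_of_forall_lTensor [Module.Finite R P] [Module.Finite R Q]
    [Module.Projective R Q] (φ : P →ₗ[R] Q)
    (h : ∀ (p : Ideal R) [p.IsPrime], Function.Bijective (φ.lTensor p.ResidueField)) :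
    Function.Bijective φ := by
  have hsurj := surjective_of_forall_lTensor φ (fun p _ => (h p).2)
  exact ⟨injective_of_forall_lTensor φ hsurj (fun p _ => (h p).1), hsurj⟩

end maps

section faithful

variable (B : Type*) [AddCommGroup B] [Module R B] [Module.Finite R B] [Module.Projective R B]

/-- a finite projective module all of whose fibres are nonzero is faithful -/
theorem faithfulSMul_of_forall_residueField
    (h : ∀ (p : Ideal R) [p.IsPrime], Nontrivial (p.ResidueField ⊗[R] B)) :
    FaithfulSMul R B := by
  classical
  let T : Ideal R := Ideal.span {r | ∃ (f : Module.Dual R B) (b : B), f b = r}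
  have hTB : ∀ b : B, b ∈ T • (⊤ : Submodule R B) := by
    intro b
    obtain ⟨s, hs⟩ := Module.projective_def'.1 (inferInstance : Module.Projective R B)
    have hb : b = Finsupp.linearCombination R id (s b) := (LinearMap.congr_fun hs b).symm
    rw [hb, Finsupp.linearCombination_apply]
    refine Submodule.sum_mem _ (fun p _ => ?_)
    apply Submodule.smul_mem_smul _ Submodule.mem_top
    exact Ideal.subset_span ⟨(Finsupp.lapply p) ∘ₗ s, b, rfl⟩
  haveI : Subsingleton (R ⧸ T) := by
    apply subsingleton_of_forall_residueField R
    intro p _
    -- if `T ≤ p` then `κ(p) ⊗ B = 0`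
    by_contra hns
    rw [not_subsingleton_iff_nontrivial] at hns
    have hTp : T ≤ p := by
      by_contra hTp
      obtain ⟨t, htT, htp⟩ := SetLike.not_le_iff_exists.mp hTp
      apply not_subsingleton (p.ResidueField ⊗[R] (R ⧸ T))
      have hz : ∀ w : p.ResidueField ⊗[R] (R ⧸ T), w = 0 := by
        intro w
        have hu : IsUnit (algebraMap R p.ResidueField t) := by
          rw [isUnit_iff_ne_zero, Ne, Ideal.algebraMap_residueField_eq_zero]
          exact htp
        have : algebraMap R p.ResidueField t • w = 0 := by
          rw [algebraMap_smul]
          induction w using TensorProduct.induction_on with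
          | zero => simp
          | add x y hx hy => rw [smul_add, hx, hy, add_zero]
          | tmul a b =>
            obtain ⟨b, rfl⟩ := Ideal.Quotient.mk_surjective b
            rw [TensorProduct.smul_tmul', TensorProduct.smul_tmul, ← Ideal.Quotient.mk_eq_mk,
              ]
            have : t • (Ideal.Quotient.mk T b) = 0 := by
              rw [Algebra.smul_def, Ideal.Quotient.algebraMap_eq, ← map_mul,
                Ideal.Quotient.eq_zero_iff_mem]
              exact T.mul_mem_right _ htT
            rw [Ideal.Quotient.mk_eq_mk, this, TensorProduct.tmul_zero]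
        exact (hu.smul_eq_zero).mp this
      exact ⟨fun a b => by rw [hz a, hz b]⟩
    have := h p
    apply not_subsingleton (p.ResidueField ⊗[R] B)
    have hz : ∀ w : p.ResidueField ⊗[R] B, w = 0 := by
      intro w
      induction w using TensorProduct.induction_on with
      | zero => rfl
      | add x y hx hy => rw [hx, hy, add_zero]
      | tmul a b =>
        refine Submodule.smul_induction_on (hTB b) ?_ ?_
        · intro t ht b' _
          have h0 : algebraMap R p.ResidueField t = 0 := by
            rw [Ideal.algebraMap_residueField_eq_zero]; exact hTp ht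
          rw [TensorProduct.tmul_smul, ← algebraMap_smul p.ResidueField t, h0, zero_smul]
        · intro x y hx hy
          rw [TensorProduct.tmul_add, hx, hy, add_zero]
    exact ⟨fun a b => by rw [hz a, hz b]⟩
  have hT : T = ⊤ := Ideal.Quotient.subsingleton_iff.mp inferInstance
  refine ⟨fun {r₁ r₂} h => ?_⟩
  have hkill : ∀ t ∈ T, (r₁ - r₂) * t = 0 := by
    intro t ht
    induction ht using Submodule.span_induction with
    | mem x hx =>
      obtain ⟨f, b, rfl⟩ := hx
      rw [← smul_eq_mul, ← map_smul, sub_smul, h b, sub_self, map_zero]
    | zero => simp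
    | add x y _ _ hx hy => rw [mul_add, hx, hy, add_zero]
    | smul a x _ hx => rw [smul_eq_mul, mul_left_comm, hx, mul_zero]
  have := hkill 1 (hT ▸ Submodule.mem_top)
  rwa [mul_one, sub_eq_zero] at this

end faithful

end Groth.Agent.Lib.Helper65.FibreBij
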