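import Groth.Prelude.Def_ArtFun2

/-!
# Helper lemmas for functors of Artin rings (helper65)

* `ArtFun.Art.IsFibreProd.exists_lift`: the universal property of a fibre-product square in `Art Λ k`.
-/

set_option autoImplicit false
universe u v
open CategoryTheory

namespace Groth.Agent.Lib.Helper65

open ArtFun ArtFun.Art

variable {Λ : Type u} {k : Type u} [CommRing Λ] [Field k] [Algebra Λ k]

/-- Universal property of a fibre-product square of `Art Λ k`: existence of the induced morphism. -/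
theorem isFibreProd_exists_lift {B A A' A'' C : Art Λ k} {p' : B ⟶ A'} {p'' : B ⟶ A''}
    {f' : A' ⟶ A} {f'' : A'' ⟶ A} (h : IsFibreProd p' p'' f' f'')
    (g' : C ⟶ A') (g'' : C ⟶ A'') (hg : g' ≫ f' = g'' ≫ f'') :
    ∃ σ : C ⟶ B, σ ≫ p' = g' ∧ σ ≫ p'' = g'' := by
  have hc : ∀ c : C, f' (g' c) = f'' (g'' c) := fun c => by
    change (g' ≫ f') c = (g'' ≫ f'') c
    rw [hg]
  choose b hb' hb'' using fun c : C => h.surj (g' c) (g'' c) (hc c)
  have hb1 : ∀ c, p'.toAlgHom (b c) = g'.toAlgHom c := hb'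
  have hb2 : ∀ c, p''.toAlgHom (b c) = g''.toAlgHom c := hb''
  have hinj : ∀ b₁ b₂ : B, p'.toAlgHom b₁ = p'.toAlgHom b₂ → p''.toAlgHom b₁ = p''.toAlgHom b₂ →
      b₁ = b₂ := h.inj
  let σ : C →ₐ[Λ] B :=
    { toFun := b
      map_one' := hinj _ _ (by rw [hb1, map_one, map_one]) (by rw [hb2, map_one, map_one])
      map_mul' := fun x y => hinj _ _ (by rw [hb1, map_mul, map_mul, hb1, hb1])
        (by rw [hb2, map_mul, map_mul, hb2, hb2])
      map_zero' := hinj _ _ (by rw [hb1, map_zero, map_zero]) (by rw [hb2, map_zero, map_zero])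
      map_add' := fun x y => hinj _ _ (by rw [hb1, map_add, map_add, hb1, hb1])
        (by rw [hb2, map_add, map_add, hb2, hb2])
      commutes' := fun r => hinj _ _ (by rw [hb1, AlgHom.commutes, AlgHom.commutes])
        (by rw [hb2, AlgHom.commutes, AlgHom.commutes]) }
  have hσ : B.res.comp σ = C.res := by
    apply AlgHom.ext
    intro c
    change B.res (b c) = C.res c
    rw [← res_app p' (b c), hb', res_app g' c]
  refine ⟨⟨σ, hσ⟩, ?_, ?_⟩
  · apply hom_ext
    apply AlgHom.ext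
    intro c
    exact hb1 c
  · apply hom_ext
    apply AlgHom.ext
    intro c
    exact hb2 c

/-- Uniqueness part of the universal property. -/
theorem isFibreProd_hom_ext {B A A' A'' C : Art Λ k} {p' : B ⟶ A'} {p'' : B ⟶ A''}
    {f' : A' ⟶ A} {f'' : A'' ⟶ A} (h : IsFibreProd p' p'' f' f'')
    (σ₁ σ₂ : C ⟶ B) (h1 : σ₁ ≫ p' = σ₂ ≫ p') (h2 : σ₁ ≫ p'' = σ₂ ≫ p'') : σ₁ = σ₂ := by
  apply hom_ext
  apply AlgHom.ext
  intro c
  apply h.inj
  · change (σ₁ ≫ p') c = (σ₂ ≫ p') c
    rw [h1]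
  · change (σ₁ ≫ p'') c = (σ₂ ≫ p'') c
    rw [h2]

end Groth.Agent.Lib.Helper65
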