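import Mathlib
import Groth.Prelude.Def_Pi1
import Groth.Agent.Lib.Helper65.CIAscent7
import Groth.Agent.Lib.Helper65.CIField

set_option autoImplicit false
universe u

namespace Groth.Agent.Lib.Helper65.CIAscent

open IsLocalRing TensorProduct Groth.Agent.Lib.Helper65.CIField

section FieldLoc

/-- the local ring of a domain at the zero ideal is a complete intersection -/
theorem isCompleteIntersection_atPrime_bot (D : Type u) [CommRing D] [IsDomain D]
    [IsNoetherianRing D] [hb : (⊥ : Ideal D).IsPrime] :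
    Pi1.IsCompleteIntersection (Localization.AtPrime (⊥ : Ideal D)) := by
  letI : Field (Localization.AtPrime (⊥ : Ideal D)) := IsField.toField <| by
    simp [isField_iff_maximalIdeal_eq, ← Localization.AtPrime.map_eq_maximalIdeal]
  haveI : IsRegularLocalRing (Localization.AtPrime (⊥ : Ideal D)) := inferInstance
  exact Groth.Agent.S2842.isCompleteIntersection_of_isRegularLocalRing _

end FieldLoc

section L1

variable (k : Type u) [Field k] (R D : Type u) [CommRing R] [Algebra k R] [IsNoetherianRing R]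
  [CommRing D] [Algebra k D] [Algebra.FiniteType k D] [IsDomain D]
  (p : Ideal R) [p.IsPrime]

/-- the fibre local ring -/
theorem isCompleteIntersection_atPrime_fiber (q : Ideal (p.Fiber (R ⊗[k] D))) [q.IsPrime]
    (h0 : (q.comap (Algebra.TensorProduct.includeRight :
        (R ⊗[k] D) →ₐ[R] p.Fiber (R ⊗[k] D))).comap
        (Algebra.TensorProduct.includeRight : D →ₐ[k] R ⊗[k] D) = ⊥) :
    Pi1.IsCompleteIntersection (Localization.AtPrime q) := by
  haveI : IsNoetherianRing D := Algebra.FiniteType.isNoetherianRing k D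
  obtain ⟨e, he⟩ : ∃ e : p.ResidueField ⊗[R] (R ⊗[k] D) ≃ₐ[R] p.ResidueField ⊗[k] D,
    e = Algebra.TensorProduct.cancelBaseChange k R R p.ResidueField D := ⟨_, rfl⟩
  have hes : ∀ (a : p.ResidueField) (d : D), e.symm (a ⊗ₜ d) = a ⊗ₜ (1 ⊗ₜ d) := by
    intro a d
    rw [he]
    exact Algebra.TensorProduct.cancelBaseChange_symm_tmul k R R p.ResidueField D a d
  obtain ⟨q', hq'⟩ : ∃ q' : Ideal (p.ResidueField ⊗[k] D), q' = q.comap e.symm.toRingEquiv :=
    ⟨_, rfl⟩
  haveI : q'.IsPrime := by rw [hq']; exact Ideal.comap_isPrime _ _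
  have hbot : q'.comap (Algebra.TensorProduct.includeRight (R := k) (A := p.ResidueField)
      (B := D)).toRingHom = ⊥ := by
    rw [← h0]
    ext d
    rw [hq']
    simp only [Ideal.mem_comap]
    show e.symm ((1 : p.ResidueField) ⊗ₜ d) ∈ q ↔ _
    rw [hes]
    rfl
  haveI : (⊥ : Ideal D).IsPrime := Ideal.isPrime_bot
  have h1 := (isCompleteIntersection_tensor_iff k p.ResidueField D q' ⊥ hbot).1
    (isCompleteIntersection_atPrime_bot D)
  have e2 : Localization.AtPrime q' ≃+* Localization.AtPrime q := by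
    have key : ∀ (q'' : Ideal (p.ResidueField ⊗[k] D)) [q''.IsPrime],
        q'' = q.comap e.symm.toRingEquiv →
        Nonempty (Localization.AtPrime q'' ≃+* Localization.AtPrime q) := by
      intro q'' _ h
      subst h
      exact ⟨IsLocalization.ringEquivOfRingEquiv (Localization.AtPrime (q.comap e.symm.toRingEquiv))
        (Localization.AtPrime q) e.symm.toRingEquiv (e.symm.toRingEquiv.map_primeCompl_comap_eq q)⟩
    exact (key q' hq').some
  exact Groth.Agent.S2842.isCompleteIntersection_of_ringEquiv e2 h1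

/-- the local ring of `R ⊗ D` at the prime corresponding to a prime of the fibre -/
theorem isCompleteIntersection_atPrime_comap
    (hp : Pi1.IsCompleteIntersection (Localization.AtPrime p))
    (q : Ideal (p.Fiber (R ⊗[k] D))) [q.IsPrime]
    (h0 : (q.comap (Algebra.TensorProduct.includeRight :
        (R ⊗[k] D) →ₐ[R] p.Fiber (R ⊗[k] D))).comap
        (Algebra.TensorProduct.includeRight : D →ₐ[k] R ⊗[k] D) = ⊥) :
    Pi1.IsCompleteIntersection (Localization.AtPrime (q.comap
      (Algebra.TensorProduct.includeRight : (R ⊗[k] D) →ₐ[R] p.Fiber (R ⊗[k] D)))) := by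
  have hover : p = (q.comap (Algebra.TensorProduct.includeRight :
      (R ⊗[k] D) →ₐ[R] p.Fiber (R ⊗[k] D))).comap (algebraMap R (R ⊗[k] D)) := by
    have h1 : p = q.under R := Ideal.LiesOver.over
    refine h1.trans ?_
    rw [Ideal.under_def]
    ext x
    simp only [Ideal.mem_comap]
    rw [AlgHom.commutes]
  obtain ⟨Φ, hΦ⟩ : ∃ Φ : Localization.AtPrime p →+* Localization.AtPrime (q.comap
      (Algebra.TensorProduct.includeRight : (R ⊗[k] D) →ₐ[R] p.Fiber (R ⊗[k] D))),
      Φ = Localization.localRingHom p _ (algebraMap R (R ⊗[k] D)) hover := ⟨_, rfl⟩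
  have hΦflat : Φ.Flat := by
    rw [hΦ]
    exact RingHom.Flat.localRingHom (f := algebraMap R (R ⊗[k] D))
      (RingHom.flat_algebraMap_iff.2 inferInstance) _ _ _
  have hΦess : Φ.EssFiniteType := by
    rw [hΦ]
    exact RingHom.EssFiniteType.holdsForLocalization.localRingHom
      RingHom.EssFiniteType.stableUnderComposition
      RingHom.EssFiniteType.isStableUnderBaseChange.localizationPreserves hover
      (RingHom.FiniteType.essFiniteType (RingHom.finiteType_algebraMap.2 inferInstance))
  haveI : IsLocalHom Φ := by rw [hΦ]; infer_instance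
  letI : Algebra (Localization.AtPrime p) (Localization.AtPrime (q.comap
      (Algebra.TensorProduct.includeRight : (R ⊗[k] D) →ₐ[R] p.Fiber (R ⊗[k] D)))) := Φ.toAlgebra
  haveI : Module.Flat (Localization.AtPrime p) (Localization.AtPrime (q.comap
      (Algebra.TensorProduct.includeRight : (R ⊗[k] D) →ₐ[R] p.Fiber (R ⊗[k] D)))) := hΦflat
  haveI : Algebra.EssFiniteType (Localization.AtPrime p) (Localization.AtPrime (q.comap
      (Algebra.TensorProduct.includeRight : (R ⊗[k] D) →ₐ[R] p.Fiber (R ⊗[k] D)))) := hΦess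
  haveI : IsLocalHom (algebraMap (Localization.AtPrime p) (Localization.AtPrime (q.comap
      (Algebra.TensorProduct.includeRight : (R ⊗[k] D) →ₐ[R] p.Fiber (R ⊗[k] D))))) :=
    ‹IsLocalHom Φ›
  refine isCompleteIntersection_of_flat_of_fibre (Localization.AtPrime p) _ hp ?_
  have hq := isCompleteIntersection_atPrime_fiber k R D p q h0
  have e3 := (Ideal.Fiber.algEquivAux₂ p q).toRingEquiv
  have hideal : EGA4.mB (Localization.AtPrime p) (Localization.AtPrime (q.comap
      (Algebra.TensorProduct.includeRight : (R ⊗[k] D) →ₐ[R] p.Fiber (R ⊗[k] D)))) =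
      (p.map (algebraMap R (R ⊗[k] D))).map (algebraMap (R ⊗[k] D) (Localization.AtPrime (q.comap
      (Algebra.TensorProduct.includeRight : (R ⊗[k] D) →ₐ[R] p.Fiber (R ⊗[k] D))))) := by
    show (maximalIdeal (Localization.AtPrime p)).map Φ = _
    rw [← Localization.AtPrime.map_eq_maximalIdeal, Ideal.map_map, Ideal.map_map]
    congr 1
    ext r
    rw [hΦ]
    exact Localization.localRingHom_to_map _ _ _ hover r
  have e4 := Ideal.quotEquivOfEq hideal
  haveI : IsLocalRing (Localization.AtPrime (q.comap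
      (Algebra.TensorProduct.includeRight : (R ⊗[k] D) →ₐ[R] p.Fiber (R ⊗[k] D))) ⧸
      (p.map (algebraMap R (R ⊗[k] D))).map (algebraMap (R ⊗[k] D) (Localization.AtPrime (q.comap
      (Algebra.TensorProduct.includeRight : (R ⊗[k] D) →ₐ[R] p.Fiber (R ⊗[k] D)))))) :=
    e3.isLocalRing
  exact Groth.Agent.S2842.isCompleteIntersection_of_ringEquiv (e3.trans e4.symm) hq

omit [IsNoetherianRing R] [Algebra.FiniteType k D] [IsDomain D] in
theorem isCompleteIntersection_atPrime_congr (P P' : Ideal (R ⊗[k] D)) [P.IsPrime] [P'.IsPrime]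
    (h : P = P') (hP : Pi1.IsCompleteIntersection (Localization.AtPrime P)) :
    Pi1.IsCompleteIntersection (Localization.AtPrime P') := by
  subst h
  exact hP

/-- local rings of `R ⊗ D` at primes lying over the generic point of `D` -/
theorem isCompleteIntersection_atPrime_tensor
    (hR : ∀ (p : Ideal R) [p.IsPrime], Pi1.IsCompleteIntersection (Localization.AtPrime p))
    (P₁ : Ideal (R ⊗[k] D)) [P₁.IsPrime]
    (h0 : P₁.comap (Algebra.TensorProduct.includeRight : D →ₐ[k] R ⊗[k] D) = ⊥) :
    Pi1.IsCompleteIntersection (Localization.AtPrime P₁) := by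
  obtain ⟨p, hp⟩ : ∃ p : Ideal R, p = P₁.under R := ⟨_, rfl⟩
  haveI : p.IsPrime := by rw [hp]; infer_instance
  haveI : P₁.LiesOver p := ⟨hp⟩
  obtain ⟨x, hx⟩ : ∃ x : p.primesOver (R ⊗[k] D), (x : Ideal (R ⊗[k] D)) = P₁ :=
    ⟨⟨P₁, ⟨inferInstance, inferInstance⟩⟩, rfl⟩
  obtain ⟨qq, hqq⟩ : ∃ qq : PrimeSpectrum (p.Fiber (R ⊗[k] D)),
    qq = PrimeSpectrum.primesOverOrderIsoFiber R (R ⊗[k] D) p x := ⟨_, rfl⟩
  haveI : qq.asIdeal.IsPrime := qq.isPrime
  have hcomap : qq.asIdeal.comap (Algebra.TensorProduct.includeRight :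
      (R ⊗[k] D) →ₐ[R] p.Fiber (R ⊗[k] D)) = P₁ := by
    have h1 := (PrimeSpectrum.primesOverOrderIsoFiber R (R ⊗[k] D) p).symm_apply_apply x
    rw [← hqq] at h1
    have h2 := congrArg Subtype.val h1
    rw [PrimeSpectrum.coe_primesOverOrderIsoFiber_symm_apply] at h2
    rw [← hx]
    exact h2
  refine isCompleteIntersection_atPrime_congr k R D _ P₁ hcomap ?_
  refine isCompleteIntersection_atPrime_comap k R D p (hR p) qq.asIdeal ?_
  rw [hcomap]
  exact h0

end L1

end Groth.Agent.Lib.Helper65.CIAscent
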