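import Mathlib
import Groth.Prelude.Def_Pi1
import Groth.Agent.Lib.Helper65.CIAscent8

set_option autoImplicit false
universe u

namespace Groth.Agent.Lib.Helper65.CIAscent

open IsLocalRing TensorProduct

section L2

variable (k : Type u) [Field k] (R D K : Type u) [CommRing R] [Algebra k R] [CommRing D]
  [Algebra k D] [Field K] [Algebra k K] [Algebra D K] [IsScalarTower k D K]

/-- the comparison map `R ⊗ D → K ⊗ R` -/
noncomputable def jmap : R ⊗[k] D →ₐ[k] K ⊗[k] R :=
  (Algebra.TensorProduct.comm k R K).toAlgHom.comp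
    (Algebra.TensorProduct.map (AlgHom.id k R) (IsScalarTower.toAlgHom k D K))

@[simp] theorem jmap_tmul (r : R) (d : D) : jmap k R D K (r ⊗ₜ d) = algebraMap D K d ⊗ₜ r := by
  simp [jmap]

theorem jmap_injective (hinj : Function.Injective (algebraMap D K)) :
    Function.Injective (jmap k R D K) := by
  have h1 : Function.Injective (Algebra.TensorProduct.map (AlgHom.id k R)
      (IsScalarTower.toAlgHom k D K)) := by
    have h2 := Module.Flat.lTensor_preserves_injective_linearMap (M := R)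
      (IsScalarTower.toAlgHom k D K).toLinearMap hinj
    intro x y hxy
    apply h2
    exact hxy
  intro x y hxy
  apply h1
  exact (Algebra.TensorProduct.comm k R K).injective hxy

variable (M : Submonoid D) [IsLocalization M K]

theorem isLocalization_jmap (hinj : Function.Injective (algebraMap D K)) :
    letI := (jmap k R D K).toRingHom.toAlgebra
    IsLocalization (M.map (Algebra.TensorProduct.includeRight : D →ₐ[k] R ⊗[k] D)) (K ⊗[k] R) := by
  letI := (jmap k R D K).toRingHom.toAlgebra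
  have halg : ∀ x : R ⊗[k] D, algebraMap (R ⊗[k] D) (K ⊗[k] R) x = jmap k R D K x := fun _ => rfl
  refine ⟨?_, ?_, ?_⟩
  · rintro ⟨_, m, hm, rfl⟩
    rw [halg]
    show IsUnit (jmap k R D K ((1 : R) ⊗ₜ m))
    rw [jmap_tmul]
    have hu : IsUnit (algebraMap D K m) := IsLocalization.map_units K (⟨m, hm⟩ : M)
    exact hu.map (Algebra.TensorProduct.includeLeft : K →ₐ[k] K ⊗[k] R)
  · intro z
    induction z using TensorProduct.induction_on with
    | zero => exact ⟨(0, 1), by simp⟩
    | tmul x r =>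
      obtain ⟨⟨d, m⟩, h⟩ := IsLocalization.surj M x
      refine ⟨(r ⊗ₜ d, ⟨(1 : R) ⊗ₜ (m : D), ⟨m, m.2, rfl⟩⟩), ?_⟩
      rw [halg, halg]
      show x ⊗ₜ r * jmap k R D K ((1 : R) ⊗ₜ (m : D)) = jmap k R D K (r ⊗ₜ d)
      rw [jmap_tmul, jmap_tmul, Algebra.TensorProduct.tmul_mul_tmul, mul_one]
      congr 1
    | add z₁ z₂ h₁ h₂ =>
      obtain ⟨⟨b₁, n₁⟩, e₁⟩ := h₁
      obtain ⟨⟨b₂, n₂⟩, e₂⟩ := h₂
      refine ⟨(b₁ * n₂ + b₂ * n₁, n₁ * n₂), ?_⟩
      simp only [Submonoid.coe_mul, map_mul, map_add] at e₁ e₂ ⊢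
      rw [← e₁, ← e₂]
      ring
  · intro x y hxy
    refine ⟨1, ?_⟩
    rw [halg, halg] at hxy
    rw [jmap_injective k R D K hinj hxy]

theorem comap_jmap_comap_includeRight (hinj : Function.Injective (algebraMap D K))
    (P : Ideal (K ⊗[k] R)) [P.IsPrime] :
    (P.comap (jmap k R D K)).comap (Algebra.TensorProduct.includeRight : D →ₐ[k] R ⊗[k] D) = ⊥ := by
  ext d
  rw [Ideal.mem_bot]
  constructor
  · intro hd
    by_contra hne
    have h1 : jmap k R D K ((1 : R) ⊗ₜ d) ∈ P := hd
    rw [jmap_tmul] at h1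
    have hu : IsUnit (algebraMap D K d) := by
      rw [isUnit_iff_ne_zero]
      intro h0
      exact hne (hinj (by rw [h0, map_zero]))
    have hu' : IsUnit (algebraMap D K d ⊗ₜ[k] (1 : R)) :=
      hu.map (Algebra.TensorProduct.includeLeft : K →ₐ[k] K ⊗[k] R)
    exact (Ideal.IsPrime.ne_top ‹_›) (Ideal.eq_top_of_isUnit_mem _ h1 hu')
  · rintro rfl
    exact Ideal.zero_mem _

include M in
theorem nonempty_atPrime_equiv (hinj : Function.Injective (algebraMap D K))
    (P : Ideal (K ⊗[k] R)) [P.IsPrime] :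
    Nonempty (Localization.AtPrime (P.comap (jmap k R D K)) ≃+* Localization.AtPrime P) := by
  letI : Algebra (R ⊗[k] D) (K ⊗[k] R) := (jmap k R D K).toRingHom.toAlgebra
  haveI := isLocalization_jmap k R D K M hinj
  haveI : IsLocalization.AtPrime (Localization.AtPrime P)
      (P.comap (algebraMap (R ⊗[k] D) (K ⊗[k] R))) :=
    IsLocalization.isLocalization_isLocalization_atPrime_isLocalization
      (M.map (Algebra.TensorProduct.includeRight : D →ₐ[k] R ⊗[k] D)) (Localization.AtPrime P) P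
  exact ⟨(IsLocalization.algEquiv (P.comap (algebraMap (R ⊗[k] D) (K ⊗[k] R))).primeCompl
    (Localization.AtPrime (P.comap (algebraMap (R ⊗[k] D) (K ⊗[k] R))))
    (Localization.AtPrime P)).toRingEquiv⟩

end L2

end Groth.Agent.Lib.Helper65.CIAscent
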