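import Mathlib
import Groth.Agent.Lib.Helper65.KH1
import Groth.Agent.Lib.Helper65.KH2

/-!
# Flat base change of the first Koszul homology of a functional (helper65)
-/

set_option autoImplicit false
universe u

namespace Groth.Agent.Lib.Helper65.KH1

open TensorProduct

section BaseChange

variable {R : Type u} [CommRing R] (S : Type u) [CommRing S] [Algebra R S]
variable {M : Type u} [AddCommGroup M] [Module R M] (φ : M →ₗ[R] R)

/-- base change of a functional -/
noncomputable def bc : S ⊗[R] M →ₗ[S] S :=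
  (Algebra.TensorProduct.rid R S S).toLinearMap ∘ₗ (AlgebraTensorModule.lTensor S S φ)

theorem bc_tmul (s : S) (m : M) : bc S φ (s ⊗ₜ m) = φ m • s := by
  simp [bc]

theorem ker_bc : LinearMap.ker (bc S φ) = LinearMap.ker (AlgebraTensorModule.lTensor S S φ) := by
  unfold bc
  exact LinearMap.ker_comp_of_ker_eq_bot _ (LinearMap.ker_eq_bot.2 (AlgEquiv.injective _))

/-- the extension of the trivial relations -/
def kTS : Submodule S (S ⊗[R] M) :=
  Submodule.span S (Set.range fun t : kT φ => (1 : S) ⊗ₜ[R] (t : M))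

theorem one_tmul_mem_kTS (t : M) (ht : t ∈ kT φ) : (1 : S) ⊗ₜ[R] t ∈ kTS S φ :=
  Submodule.subset_span ⟨⟨t, ht⟩, rfl⟩

theorem tmul_mem_kTS (s : S) (t : M) (ht : t ∈ kT φ) : s ⊗ₜ[R] t ∈ kTS S φ := by
  have : s ⊗ₜ[R] t = s • ((1 : S) ⊗ₜ[R] t) := by rw [smul_tmul', smul_eq_mul, mul_one]
  rw [this]
  exact Submodule.smul_mem _ _ (one_tmul_mem_kTS S φ t ht)

theorem kT_bc : kT (bc S φ) = kTS S φ := by
  apply le_antisymm
  · rw [kT, Submodule.span_le]
    rintro _ ⟨⟨a, b⟩, rfl⟩
    show bc S φ a • b - bc S φ b • a ∈ kTS S φ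
    induction a using TensorProduct.induction_on with
    | zero => simp
    | add a₁ a₂ h₁ h₂ =>
      have : bc S φ (a₁ + a₂) • b - bc S φ b • (a₁ + a₂) =
          (bc S φ a₁ • b - bc S φ b • a₁) + (bc S φ a₂ • b - bc S φ b • a₂) := by
        rw [map_add, add_smul, smul_add]; abel
      rw [this]; exact Submodule.add_mem _ h₁ h₂
    | tmul s v =>
      induction b using TensorProduct.induction_on with
      | zero => simp
      | add b₁ b₂ h₁ h₂ =>
        have : bc S φ (s ⊗ₜ[R] v) • (b₁ + b₂) - bc S φ (b₁ + b₂) • (s ⊗ₜ[R] v) =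
            (bc S φ (s ⊗ₜ[R] v) • b₁ - bc S φ b₁ • (s ⊗ₜ[R] v)) +
            (bc S φ (s ⊗ₜ[R] v) • b₂ - bc S φ b₂ • (s ⊗ₜ[R] v)) := by
          rw [map_add, add_smul, smul_add]; abel
        rw [this]; exact Submodule.add_mem _ h₁ h₂
      | tmul t w =>
        have : bc S φ (s ⊗ₜ[R] v) • (t ⊗ₜ[R] w) - bc S φ (t ⊗ₜ[R] w) • (s ⊗ₜ[R] v) =
            (s * t) ⊗ₜ[R] (φ v • w - φ w • v) := by
          rw [bc_tmul, bc_tmul, smul_tmul', smul_tmul', tmul_sub, tmul_smul, tmul_smul,
            smul_tmul', smul_tmul', smul_eq_mul, smul_eq_mul, smul_mul_assoc, smul_mul_assoc,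
            mul_comm t s]
        rw [this]
        exact tmul_mem_kTS S φ _ _ (gen_mem_kT φ v w)
  · rw [kTS, Submodule.span_le]
    rintro _ ⟨⟨t, ht⟩, rfl⟩
    show (1 : S) ⊗ₜ[R] t ∈ kT (bc S φ)
    have hle : kT φ ≤ ((kT (bc S φ)).restrictScalars R).comap (TensorProduct.mk R S M 1) := by
      rw [kT, Submodule.span_le]
      rintro _ ⟨⟨v, w⟩, rfl⟩
      show (1 : S) ⊗ₜ[R] (φ v • w - φ w • v) ∈ kT (bc S φ)
      have : (1 : S) ⊗ₜ[R] (φ v • w - φ w • v) =
          bc S φ ((1 : S) ⊗ₜ[R] v) • ((1 : S) ⊗ₜ[R] w) -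
            bc S φ ((1 : S) ⊗ₜ[R] w) • ((1 : S) ⊗ₜ[R] v) := by
        rw [bc_tmul, bc_tmul, smul_tmul', smul_tmul', tmul_sub, tmul_smul, tmul_smul,
            smul_tmul', smul_tmul', smul_eq_mul, smul_eq_mul, mul_one, mul_one]
      rw [this]
      exact gen_mem_kT _ _ _
    exact hle ht

theorem kTS_eq_range :
    kTS S φ = LinearMap.range (AlgebraTensorModule.lTensor S S
      ((LinearMap.ker φ).subtype ∘ₗ ((kT φ).comap (LinearMap.ker φ).subtype).subtype)) := by
  apply le_antisymm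
  · rw [kTS, Submodule.span_le]
    rintro _ ⟨⟨t, ht⟩, rfl⟩
    exact ⟨(1 : S) ⊗ₜ[R] ⟨⟨t, kT_le_ker φ ht⟩, ht⟩, rfl⟩
  · rintro _ ⟨z, rfl⟩
    induction z using TensorProduct.induction_on with
    | zero => simp
    | add a b ha hb => rw [map_add]; exact Submodule.add_mem _ ha hb
    | tmul s t => exact tmul_mem_kTS S φ s _ t.2

theorem kh_bc [Module.Flat R S] : kh (bc S φ) = Module.length S (S ⊗[R] kH φ) := by
  obtain ⟨T', hT'⟩ : ∃ T' : Submodule R (LinearMap.ker φ),
    T' = (kT φ).comap (LinearMap.ker φ).subtype := ⟨_, rfl⟩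
  let e0 : LinearMap.ker (bc S φ) ≃ₗ[S] LinearMap.ker (AlgebraTensorModule.lTensor S S φ) :=
    LinearEquiv.ofEq _ _ (ker_bc S φ)
  let e1 := (LinearMap.tensorKerEquiv S S φ).symm
  let q : S ⊗[R] LinearMap.ker φ →ₗ[S] S ⊗[R] (LinearMap.ker φ ⧸ T') :=
    AlgebraTensorModule.lTensor S S T'.mkQ
  have hq : ∀ y, q y = T'.mkQ.lTensor S y := fun y => rfl
  have hx1 : ∀ x : LinearMap.ker (bc S φ),
      (LinearMap.ker φ).subtype.lTensor S (e1 (e0 x)) = x.1 := by
    intro x
    exact LinearMap.lTensor_ker_subtype_tensorKerEquiv_symm S S φ (e0 x)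
  have hinj : Function.Injective ((LinearMap.ker φ).subtype.lTensor S) :=
    Module.Flat.lTensor_preserves_injective_linearMap _ (LinearMap.ker φ).injective_subtype
  have hex : Function.Exact (T'.subtype.lTensor S) (T'.mkQ.lTensor S) :=
    lTensor_exact S (LinearMap.exact_subtype_mkQ T') (Submodule.mkQ_surjective T')
  subst hT'
  apply kh_eq_length (bc S φ) (q ∘ₗ e1.toLinearMap ∘ₗ e0.toLinearMap)
  · intro y
    obtain ⟨z, hz⟩ := LinearMap.lTensor_surjective S (Submodule.mkQ_surjective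
      ((kT φ).comap (LinearMap.ker φ).subtype)) y
    obtain ⟨z', rfl⟩ := e1.surjective z
    obtain ⟨z'', rfl⟩ := e0.surjective z'
    exact ⟨z'', hz⟩
  · ext x
    rw [Submodule.mem_comap, kT_bc, kTS_eq_range, LinearMap.mem_ker]
    show q (e1 (e0 x)) = 0 ↔ _
    rw [hq, hex (e1 (e0 x))]
    constructor
    · rintro ⟨z, hz⟩
      refine ⟨z, ?_⟩
      show ((LinearMap.ker φ).subtype ∘ₗ
        ((kT φ).comap (LinearMap.ker φ).subtype).subtype).lTensor S z = x.1
      rw [LinearMap.lTensor_comp, LinearMap.comp_apply, hz, hx1]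
    · rintro ⟨z, hz⟩
      refine ⟨z, hinj ?_⟩
      rw [hx1, ← LinearMap.comp_apply, ← LinearMap.lTensor_comp]
      exact hz


open IsLocalRing in
theorem kh_bc_eq [IsLocalRing R] [IsLocalRing S] [IsLocalHom (algebraMap R S)] [Module.Flat R S]
    (hm : (maximalIdeal R).map (algebraMap R S) = maximalIdeal S) : kh (bc S φ) = kh φ := by
  rw [kh_bc, IsLocalRing.length_baseChange R S (kH φ), hm]
  haveI : IsSimpleModule S (S ⧸ maximalIdeal S) :=
    isSimpleModule_iff_quot_maximal.2 ⟨maximalIdeal S, inferInstance, ⟨LinearEquiv.refl _ _⟩⟩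
  have h1 : Module.length S (S ⧸ maximalIdeal S) = 1 := Module.length_eq_one _ _
  rw [h1, mul_one]
  rfl

open Groth.Agent.Lib.Helper15.Koszul in
theorem kh_relMap_bc {n : ℕ} (x : Fin n → R) :
    kh (relMap (fun i => algebraMap R S (x i)) S) = kh (bc S (relMap x R)) := by
  symm
  apply kh_congr _ (TensorProduct.piScalarRight R S S (Fin n))
  apply TensorProduct.AlgebraTensorModule.curry_injective
  ext s v
  simp only [TensorProduct.AlgebraTensorModule.curry_apply, LinearMap.restrictScalars_comp,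
    TensorProduct.curry_apply, LinearMap.coe_comp, LinearMap.coe_restrictScalars,
    Function.comp_apply, LinearEquiv.coe_coe, bc_tmul]
  rw [TensorProduct.piScalarRight_apply, TensorProduct.piScalarRightHom_tmul, relMap_apply,
    relMap_apply, Finset.sum_smul]
  refine Finset.sum_congr rfl fun i _ => ?_
  simp only [smul_eq_mul, Algebra.smul_def, map_mul]
  ring

open Groth.Agent.Lib.Helper15.Koszul IsLocalRing in
/-- **flat base change with trivial closed fibre preserves `kh`** -/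
theorem kh_relMap_algebraMap [IsLocalRing R] [IsLocalRing S] [IsLocalHom (algebraMap R S)]
    [Module.Flat R S] (hm : (maximalIdeal R).map (algebraMap R S) = maximalIdeal S)
    {n : ℕ} (x : Fin n → R) :
    kh (relMap (fun i => algebraMap R S (x i)) S) = kh (relMap x R) := by
  rw [kh_relMap_bc, kh_bc_eq S _ hm]

end BaseChange

end Groth.Agent.Lib.Helper65.KH1
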