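import Mathlib
import Groth.Agent.Lib.Helper65.KH1
import Groth.Agent.Lib.Helper65.KH2

/-!
# Koszul `H₁` and quotient by a regular element (helper65)
-/

set_option autoImplicit false
universe u

namespace Groth.Agent.Lib.Helper65.KH1

open Groth.Agent.Lib.Helper15.Koszul

section RegQuot

variable {A : Type u} [CommRing A] {n : ℕ} (f : Fin (n + 1) → A)

/-- the tail of the family in the quotient by the first element -/
noncomputable def tailQ : Fin n → A ⧸ Ideal.span {f 0} :=
  fun j => Ideal.Quotient.mk (Ideal.span {f 0}) (f (Fin.succ j))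

/-- reduce the tail coordinates -/
noncomputable def piQ : (Fin (n + 1) → A) →ₗ[A] (Fin n → A ⧸ Ideal.span {f 0}) :=
  LinearMap.pi fun j => (Algebra.linearMap A (A ⧸ Ideal.span {f 0})) ∘ₗ LinearMap.proj (Fin.succ j)

theorem piQ_apply (v : Fin (n + 1) → A) (j : Fin n) :
    piQ f v j = Ideal.Quotient.mk (Ideal.span {f 0}) (v (Fin.succ j)) := rfl

theorem piQ_surjective : Function.Surjective (piQ f) := by
  intro w
  choose b hb using fun j => Ideal.Quotient.mk_surjective (w j)
  refine ⟨Fin.cons 0 b, funext fun j => ?_⟩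
  rw [piQ_apply, Fin.cons_succ, hb]

theorem relMap_piQ (v : Fin (n + 1) → A) :
    relMap (tailQ f) (A ⧸ Ideal.span {f 0}) (piQ f v) =
      Ideal.Quotient.mk (Ideal.span {f 0}) (relMap f A v) := by
  rw [relMap_cons, relMap_apply, relMap_apply, map_add, map_sum]
  have h0 : Ideal.Quotient.mk (Ideal.span {f 0}) (f 0 • v 0) = 0 := by
    rw [Ideal.Quotient.eq_zero_iff_mem, smul_eq_mul]
    exact Ideal.mul_mem_right _ _ (Ideal.subset_span rfl)
  rw [h0, zero_add]
  refine Finset.sum_congr rfl fun j _ => ?_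
  rw [piQ_apply, tailQ, smul_eq_mul, smul_eq_mul, map_mul]

theorem piQ_smul (a : A) (w : Fin (n + 1) → A) :
    piQ f (a • w) = Ideal.Quotient.mk (Ideal.span {f 0}) a • piQ f w := by
  ext j
  rw [Pi.smul_apply, piQ_apply, piQ_apply, Pi.smul_apply, smul_eq_mul, smul_eq_mul, map_mul]

theorem piQ_mem_kT (v : Fin (n + 1) → A) (hv : v ∈ kT (relMap f A)) :
    piQ f v ∈ kT (relMap (tailQ f) (A ⧸ Ideal.span {f 0})) := by
  have hle : kT (relMap f A) ≤
      ((kT (relMap (tailQ f) (A ⧸ Ideal.span {f 0}))).restrictScalars A).comap (piQ f) := by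
    rw [kT, Submodule.span_le]
    rintro _ ⟨⟨a, b⟩, rfl⟩
    show piQ f (relMap f A a • b - relMap f A b • a) ∈
      kT (relMap (tailQ f) (A ⧸ Ideal.span {f 0}))
    rw [map_sub, piQ_smul, piQ_smul, ← relMap_piQ, ← relMap_piQ]
    exact gen_mem_kT _ _ _
  exact hle hv

theorem kT_le_map_piQ :
    (kT (relMap (tailQ f) (A ⧸ Ideal.span {f 0}))).restrictScalars A ≤
      (kT (relMap f A)).map (piQ f) := by
  rw [kT, Submodule.restrictScalars_span _ _ Ideal.Quotient.mk_surjective, Submodule.span_le]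
  rintro _ ⟨⟨a, b⟩, rfl⟩
  obtain ⟨a', rfl⟩ := piQ_surjective f a
  obtain ⟨b', rfl⟩ := piQ_surjective f b
  refine ⟨relMap f A a' • b' - relMap f A b' • a', gen_mem_kT _ _ _, ?_⟩
  show piQ f (relMap f A a' • b' - relMap f A b' • a') = _
  rw [map_sub, piQ_smul, piQ_smul, ← relMap_piQ, ← relMap_piQ]

/-- relations vanishing in the quotient are trivial, if the first element is regular -/
theorem mem_kT_of_piQ_eq_zero (hreg : IsSMulRegular A (f 0)) (u : Fin (n + 1) → A)
    (hu : relMap f A u = 0) (hπ : piQ f u = 0) : u ∈ kT (relMap f A) := by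
  have hb : ∀ j : Fin n, ∃ b : A, u (Fin.succ j) = f 0 * b := by
    intro j
    have := congrFun hπ j
    rw [piQ_apply, Pi.zero_apply, Ideal.Quotient.eq_zero_iff_mem, Ideal.mem_span_singleton'] at this
    obtain ⟨b, hb⟩ := this
    exact ⟨b, by rw [← hb, mul_comm]⟩
  choose b hb using hb
  have h0 : u 0 = - relMap (fun j => f (Fin.succ j)) A b := by
    apply hreg
    rw [relMap_cons] at hu
    have h2 : relMap (fun j => f (Fin.succ j)) A (fun j => u (Fin.succ j)) =
        f 0 • relMap (fun j => f (Fin.succ j)) A b := by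
      rw [← map_smul]
      congr 1
      ext j
      rw [hb, Pi.smul_apply, smul_eq_mul]
    rw [h2] at hu
    show f 0 • u 0 = f 0 • (- relMap (fun j => f (Fin.succ j)) A b)
    rw [smul_neg]
    exact eq_neg_of_add_eq_zero_left hu
  have hueq : u = Fin.cons (- relMap (fun j => f (Fin.succ j)) A b) (f 0 • b) := by
    ext k
    refine Fin.cases ?_ (fun k => ?_) k
    · rw [Fin.cons_zero, h0]
    · rw [Fin.cons_succ, hb, Pi.smul_apply, smul_eq_mul]
  rw [kT_relMap, hueq]
  exact cons_neg_relMap_mem_triv f A b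

theorem kh_quot_regular (hreg : IsSMulRegular A (f 0)) :
    kh (relMap (tailQ f) (A ⧸ Ideal.span {f 0})) = kh (relMap f A) := by
  symm
  obtain ⟨ψ, hψ⟩ : ∃ ψ : (Fin n → A ⧸ Ideal.span {f 0}) →ₗ[A ⧸ Ideal.span {f 0}]
      (A ⧸ Ideal.span {f 0}), ψ = relMap (tailQ f) (A ⧸ Ideal.span {f 0}) := ⟨_, rfl⟩
  rw [← hψ]
  have hmaps : ∀ v ∈ LinearMap.ker (relMap f A), piQ f v ∈ LinearMap.ker ψ := by
    intro v hv
    rw [LinearMap.mem_ker] at hv ⊢
    rw [hψ, relMap_piQ, hv, map_zero]
  let g : LinearMap.ker (relMap f A) →ₗ[A] kH ψ :=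
    { toFun := fun v => Submodule.Quotient.mk ⟨piQ f v.1, hmaps v.1 v.2⟩
      map_add' := fun v w => by
        rw [← Submodule.Quotient.mk_add]
        congr 1
      map_smul' := fun a v => by
        rw [RingHom.id_apply, ← Submodule.Quotient.mk_smul]
        congr 1 }
  have hg : ∀ v, g v = Submodule.Quotient.mk ⟨piQ f v.1, hmaps v.1 v.2⟩ := fun v => rfl
  have hlen : kh ψ = Module.length A (kH ψ) := by
    unfold kh
    exact (Module.length_eq_of_surjective Ideal.Quotient.mk_surjective).symm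
  rw [hlen]
  apply kh_eq_length (relMap f A) g
  · intro y
    obtain ⟨⟨w, hw⟩, rfl⟩ := Submodule.Quotient.mk_surjective _ y
    obtain ⟨w', rfl⟩ := piQ_surjective f w
    rw [LinearMap.mem_ker, hψ, relMap_piQ, Ideal.Quotient.eq_zero_iff_mem,
      Ideal.mem_span_singleton'] at hw
    obtain ⟨a, ha⟩ := hw
    have hz : piQ f (Pi.single (0 : Fin (n + 1)) a) = 0 := by
      ext j
      rw [piQ_apply, single_zero_succ, map_zero, Pi.zero_apply]
    have hv : w' - Pi.single (0 : Fin (n + 1)) a ∈ LinearMap.ker (relMap f A) := by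
      rw [LinearMap.mem_ker, map_sub, relMap_single, ← ha, smul_eq_mul, mul_comm, sub_self]
    refine ⟨⟨w' - Pi.single (0 : Fin (n + 1)) a, hv⟩, ?_⟩
    rw [hg]
    congr 1
    apply Subtype.ext
    show piQ f (w' - Pi.single (0 : Fin (n + 1)) a) = piQ f w'
    rw [map_sub, hz, sub_zero]
  · ext v
    rw [LinearMap.mem_ker, Submodule.mem_comap, hg, Submodule.Quotient.mk_eq_zero,
      Submodule.mem_comap]
    show piQ f v.1 ∈ kT ψ ↔ v.1 ∈ kT (relMap f A)
    constructor
    · intro h
      have h1 : piQ f v.1 ∈ (kT (relMap f A)).map (piQ f) := by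
        apply kT_le_map_piQ f
        rw [← hψ]
        exact h
      obtain ⟨t, ht, hte⟩ := h1
      have h2 : v.1 - t ∈ kT (relMap f A) := by
        apply mem_kT_of_piQ_eq_zero f hreg
        · rw [map_sub, LinearMap.mem_ker.1 v.2, (kT_le_ker _ ht : _), sub_zero]
        · rw [map_sub, hte, sub_self]
      have := Submodule.add_mem _ h2 ht
      rwa [sub_add_cancel] at this
    · intro h
      rw [hψ]
      exact piQ_mem_kT f _ h

end RegQuot

end Groth.Agent.Lib.Helper65.KH1
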