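import Mathlib
import Groth.Agent.Lib.Helper65.KH3
import Groth.Agent.Lib.Helper65.KH4
import Groth.Agent.Lib.Helper65.CIAscent1
import Groth.Agent.Lib.Helper15.CompleteUCat
import Groth.Agent.Lib.Helper83.FlatLocalDim
import Groth.Agent.S2842
import Groth.Agent.S2941
import Groth.Agent.S2169

/-!
# A numerical criterion for complete intersections via Koszul `H₁` of the maximal ideal (helper65)

For a Noetherian local ring `A` of dimension `dA` whose maximal ideal is generated by `y₁,…,yₙ`:
`A` is a complete intersection iff `ℓ(H₁(y; A)) + dA ≤ n`.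
-/

set_option autoImplicit false
universe u

namespace Groth.Agent.Lib.Helper65.CINum

open IsLocalRing Groth.Agent.Lib.Helper15.Koszul Groth.Agent.Lib.Helper65.KH1
  Groth.Agent.Lib.Helper65.CIPres Groth.Agent.Lib.Helper65.CIAscent

variable (A : Type u) [CommRing A] [IsLocalRing A] [IsNoetherianRing A]

theorem hres_adicCompletion (b : AdicCompletion (maximalIdeal A) A) :
    ∃ a : A, b - algebraMap A (AdicCompletion (maximalIdeal A) A) a ∈
      maximalIdeal (AdicCompletion (maximalIdeal A) A) := by
  obtain ⟨z, hz⟩ := (AdicCompletion.residueField_map_bijective (R := A)).2 (residue _ b)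
  obtain ⟨a, rfl⟩ := residue_surjective z
  refine ⟨a, ?_⟩
  rw [← residue_eq_zero_iff, map_sub, sub_eq_zero, ← hz]
  rfl

theorem isCompleteIntersection_adicCompletion_iff :
    Pi1.IsCompleteIntersection (AdicCompletion (maximalIdeal A) A) ↔
      Pi1.IsCompleteIntersection A := by
  obtain ⟨e⟩ := nonempty_adicCompletion_equiv (R := A) (R' := AdicCompletion (maximalIdeal A) A)
    (AdicCompletion.maximalIdeal_eq_map (R := A)).symm (hres_adicCompletion A)
  constructor
  · rintro ⟨B, iB, iReg, rs, hmem, hreg, ⟨E⟩⟩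
    exact ⟨B, iB, iReg, rs, hmem, hreg, ⟨e.trans E⟩⟩
  · rintro ⟨B, iB, iReg, rs, hmem, hreg, ⟨E⟩⟩
    exact ⟨B, iB, iReg, rs, hmem, hreg, ⟨e.symm.trans E⟩⟩

variable {A}

theorem range_relMap_eq {n : ℕ} (y : Fin n → A) (hy : Ideal.span (Set.range y) = maximalIdeal A)
    (B : Type u) [CommRing B] [IsLocalRing B] [Algebra A B]
    (hm : (maximalIdeal A).map (algebraMap A B) = maximalIdeal B) :
    LinearMap.range (relMap (fun i => algebraMap A B (y i)) B) = maximalIdeal B := by
  rw [range_relMap, ← hm, ← hy, Ideal.map_span]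
  congr 1
  ext z
  constructor
  · rintro ⟨i, rfl⟩
    exact ⟨y i, ⟨i, rfl⟩, rfl⟩
  · rintro ⟨_, ⟨i, rfl⟩, rfl⟩
    exact ⟨i, rfl⟩

/-- the numerical identity for a presentation of the completion -/
theorem kh_add_dim {n : ℕ} (y : Fin n → A) (hy : Ideal.span (Set.range y) = maximalIdeal A)
    (T : Type u) [CommRing T] [IsRegularLocalRing T]
    (f : T →+* AdicCompletion (maximalIdeal A) A) (hf : Function.Surjective f) (d : ℕ)
    (hd : ringKrullDim T = d) :
    kh (relMap y A) + d = ((RingHom.ker f).spanFinrank : ℕ∞) + n := by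
  obtain ⟨ψ, hψ, h1⟩ := Groth.Agent.S2941.key (AdicCompletion (maximalIdeal A) A) T f hf d hd
  have hm := (AdicCompletion.maximalIdeal_eq_map (R := A)).symm
  have h2 := kh_relMap_algebraMap (AdicCompletion (maximalIdeal A) A) hm y
  have h3 := range_relMap_eq y hy (AdicCompletion (maximalIdeal A) A) hm
  have h := kh_add_card_eq (relMap (fun i => algebraMap A (AdicCompletion (maximalIdeal A) A) (y i))
    (AdicCompletion (maximalIdeal A) A)) ψ (maximalIdeal _) h3 hψ
  rw [h2, h1, Fintype.card_fin, Fintype.card_fin] at h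
  exact h

/-- **numerical criterion** -/
theorem isCompleteIntersection_iff_kh_le {n : ℕ} (y : Fin n → A)
    (hy : Ideal.span (Set.range y) = maximalIdeal A) (dA : ℕ) (hdA : ringKrullDim A = dA) :
    Pi1.IsCompleteIntersection A ↔ kh (relMap y A) + dA ≤ n := by
  haveI : IsNoetherianRing (AdicCompletion (maximalIdeal A) A) :=
    Groth.Agent.Lib.Helper83.isNoetherianRing_adicCompletion (maximalIdeal A)
  obtain ⟨T, _, _, f, hf⟩ := Groth.Agent.Lib.Helper15.CompleteUCat.exists_regular_surjective
    (AdicCompletion (maximalIdeal A) A)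
  obtain ⟨d, hd⟩ := Groth.Agent.S2169.exists_nat_dim T
  have hnum := kh_add_dim y hy T f hf d hd
  rw [← isCompleteIntersection_adicCompletion_iff,
    Groth.Agent.S2842.isCompleteIntersection_iff_isCI f hf]
  unfold IsCI
  have hq : ringKrullDim (T ⧸ RingHom.ker f) = dA := by
    rw [ringKrullDim_eq_of_ringEquiv (RingHom.quotientKerEquivOfSurjective hf),
      Groth.Agent.Lib.Helper83.ringKrullDim_adicCompletion_eq _ Ideal.IsPrime.ne_top', hdA]
  rw [hq, hd]
  have hfin : kh (relMap y A) ≠ ⊤ := by
    intro h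
    rw [h, top_add] at hnum
    exact absurd hnum.symm (by exact_mod_cast ENat.coe_ne_top _)
  obtain ⟨k, hk⟩ := ENat.ne_top_iff_exists.1 hfin
  rw [← hk] at hnum ⊢
  have hnum' : k + d = (RingHom.ker f).spanFinrank + n := by exact_mod_cast hnum
  constructor
  · intro h
    have h' : (RingHom.ker f).spanFinrank + dA ≤ d := by exact_mod_cast h
    have : k + dA ≤ n := by omega
    exact_mod_cast this
  · intro h
    have h' : k + dA ≤ n := by exact_mod_cast h
    have : (RingHom.ker f).spanFinrank + dA ≤ d := by omega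
    exact_mod_cast this

end Groth.Agent.Lib.Helper65.CINum
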