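import Mathlib
import Groth.Agent.Lib.Helper65.CINum
import Groth.Agent.Lib.Helper29.FlatRegular
import Groth.Agent.S0559
import Groth.Agent.S0561

/-!
# Ascent of complete intersections along flat local maps with regular closed fibre (helper65)
-/

set_option autoImplicit false
universe u

namespace Groth.Agent.Lib.Helper65.CINum

open IsLocalRing Groth.Agent.Lib.Helper15.Koszul Groth.Agent.Lib.Helper65.KH1
  Groth.Agent.Lib.Helper65.CIPres Groth.Agent.Lib.Helper65.CIAscent RingTheory.Sequence

theorem exists_gens (A : Type u) [CommRing A] [IsNoetherianRing A] (I : Ideal A) :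
    ∃ (n : ℕ) (y : Fin n → A), Ideal.span (Set.range y) = I :=
  Submodule.fg_iff_exists_fin_generating_family.1 I.fg_of_isNoetherianRing

/-- **R2**: ascent along a flat local map with trivial closed fibre. -/
theorem isCompleteIntersection_of_flat_of_map_maximalIdeal (R S : Type u) [CommRing R] [CommRing S]
    [IsLocalRing R] [IsLocalRing S] [IsNoetherianRing R] [IsNoetherianRing S] [Algebra R S]
    [Module.Flat R S] (hm : (maximalIdeal R).map (algebraMap R S) = maximalIdeal S)
    (h : Pi1.IsCompleteIntersection R) : Pi1.IsCompleteIntersection S := by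
  haveI := Groth.Agent.Lib.Helper83.isLocalHom_of_map_maximalIdeal hm
  obtain ⟨n, y, hy⟩ := exists_gens R (maximalIdeal R)
  obtain ⟨dR, hdR⟩ := Groth.Agent.S2169.exists_nat_dim R
  have hdS : ringKrullDim S = dR := by
    rw [Groth.Agent.Lib.Helper83.ringKrullDim_eq_of_flat_of_map_maximalIdeal hm, hdR]
  have h1 := (isCompleteIntersection_iff_kh_le y hy dR hdR).1 h
  have hyS : Ideal.span (Set.range fun i => algebraMap R S (y i)) = maximalIdeal S := by
    rw [← range_relMap, range_relMap_eq y hy S hm]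
  rw [isCompleteIntersection_iff_kh_le (fun i => algebraMap R S (y i)) hyS dR hdS,
    kh_relMap_algebraMap S hm y]
  exact h1

section R1

variable (A : Type u) [CommRing A] [IsLocalRing A] [IsNoetherianRing A]

theorem isLocalRing_quotient (I : Ideal A) (hI : I ≤ maximalIdeal A) : IsLocalRing (A ⧸ I) := by
  haveI : Nontrivial (A ⧸ I) := Ideal.Quotient.nontrivial_iff.2
    (fun h => (maximalIdeal.isMaximal A).ne_top (top_le_iff.1 (h ▸ hI)))
  exact IsLocalRing.of_surjective' (Ideal.Quotient.mk I) Ideal.Quotient.mk_surjective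

variable {A}

theorem span_range_tailQ {n : ℕ} (f : Fin (n + 1) → A)
    (hf : Ideal.span (Set.range f) = maximalIdeal A) [IsLocalRing (A ⧸ Ideal.span {f 0})] :
    Ideal.span (Set.range (tailQ f)) = maximalIdeal (A ⧸ Ideal.span {f 0}) := by
  rw [← Groth.Agent.S2941.map_maximalIdeal (Ideal.Quotient.mk (Ideal.span {f 0}))
    Ideal.Quotient.mk_surjective, ← hf, Ideal.map_span]
  apply le_antisymm
  · apply Ideal.span_mono
    rintro _ ⟨j, rfl⟩
    exact ⟨f (Fin.succ j), ⟨_, rfl⟩, rfl⟩
  · rw [Ideal.span_le]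
    rintro _ ⟨_, ⟨k, rfl⟩, rfl⟩
    refine Fin.cases ?_ (fun j => ?_) k
    · have : Ideal.Quotient.mk (Ideal.span {f 0}) (f 0) = 0 :=
        Ideal.Quotient.eq_zero_iff_mem.2 (Ideal.subset_span rfl)
      rw [this]
      exact Ideal.zero_mem _
    · exact Ideal.subset_span ⟨j, rfl⟩

/-- single step, family version -/
theorem isCompleteIntersection_of_quotient_zero {n : ℕ} (f : Fin (n + 1) → A)
    (hf : Ideal.span (Set.range f) = maximalIdeal A) (hreg : IsSMulRegular A (f 0))
    [IsLocalRing (A ⧸ Ideal.span {f 0})]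
    (h : Pi1.IsCompleteIntersection (A ⧸ Ideal.span {f 0})) : Pi1.IsCompleteIntersection A := by
  have h0 : f 0 ∈ maximalIdeal A := by rw [← hf]; exact Ideal.subset_span ⟨0, rfl⟩
  obtain ⟨dQ, hdQ⟩ := Groth.Agent.S2169.exists_nat_dim (A ⧸ Ideal.span {f 0})
  have hdA : ringKrullDim A = ((dQ + 1 : ℕ) : WithBot ℕ∞) := by
    rw [← ringKrullDim_quotient_span_singleton_succ_eq_ringKrullDim_of_mem_jacobson hreg
      (by rw [IsLocalRing.ringJacobson_eq_maximalIdeal]; exact h0), hdQ]
    rfl
  have h1 := (isCompleteIntersection_iff_kh_le (tailQ f) (span_range_tailQ f hf) dQ hdQ).1 h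
  rw [kh_quot_regular f hreg] at h1
  rw [isCompleteIntersection_iff_kh_le f hf (dQ + 1) hdA]
  calc kh (relMap f A) + ((dQ + 1 : ℕ) : ℕ∞) = kh (relMap f A) + dQ + 1 := by
        push_cast; rw [add_assoc]
    _ ≤ (n : ℕ∞) + 1 := by gcongr
    _ = ((n + 1 : ℕ) : ℕ∞) := by push_cast; rfl

theorem ci_quot_span_congr (x x' : A) (hx : x' = x) [IsLocalRing (A ⧸ Ideal.span {x})]
    [IsLocalRing (A ⧸ Ideal.span {x'})]
    (h : Pi1.IsCompleteIntersection (A ⧸ Ideal.span {x})) :
    Pi1.IsCompleteIntersection (A ⧸ Ideal.span {x'}) := by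
  subst hx
  exact h

/-- **R1**, single step -/
theorem isCompleteIntersection_of_quotient_singleton (x : A) (hx : x ∈ maximalIdeal A)
    (hreg : IsSMulRegular A x) [IsLocalRing (A ⧸ Ideal.span {x})]
    (h : Pi1.IsCompleteIntersection (A ⧸ Ideal.span {x})) : Pi1.IsCompleteIntersection A := by
  obtain ⟨n, y, hy⟩ := exists_gens A (maximalIdeal A)
  obtain ⟨f, hfdef⟩ : ∃ f : Fin (n + 1) → A, f = Fin.cons x y := ⟨_, rfl⟩
  have hf0 : f 0 = x := by rw [hfdef, Fin.cons_zero]
  have hf : Ideal.span (Set.range f) = maximalIdeal A := by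
    apply le_antisymm
    · rw [Ideal.span_le]
      rintro _ ⟨k, rfl⟩
      rw [hfdef]
      refine Fin.cases ?_ (fun j => ?_) k
      · rw [Fin.cons_zero]; exact hx
      · rw [Fin.cons_succ, ← hy]; exact Ideal.subset_span ⟨j, rfl⟩
    · rw [← hy]
      apply Ideal.span_mono
      rintro _ ⟨j, rfl⟩
      exact ⟨Fin.succ j, by rw [hfdef, Fin.cons_succ]⟩
  haveI : IsLocalRing (A ⧸ Ideal.span {f 0}) :=
    isLocalRing_quotient A _ (by rw [Ideal.span_le, Set.singleton_subset_iff, hf0]; exact hx)
  exact isCompleteIntersection_of_quotient_zero f hf (by rw [hf0]; exact hreg)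
    (ci_quot_span_congr x (f 0) hf0 h)

theorem ci_quot_congr {I J : Ideal A} (hIJ : I = J) [IsLocalRing (A ⧸ I)] [IsLocalRing (A ⧸ J)]
    (h : Pi1.IsCompleteIntersection (A ⧸ I)) : Pi1.IsCompleteIntersection (A ⧸ J) := by
  subst hIJ
  exact h

variable (A)

/-- **R1**: a Noetherian local ring is a complete intersection if it is so modulo a regular
sequence. -/
theorem isCompleteIntersection_of_quotient_ofList (rs : List A) :
    (∀ r ∈ rs, r ∈ maximalIdeal A) → IsWeaklyRegular A rs →
    ∀ [IsLocalRing (A ⧸ Ideal.ofList rs)], Pi1.IsCompleteIntersection (A ⧸ Ideal.ofList rs) →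
      Pi1.IsCompleteIntersection A := by
  induction rs using List.reverseRecOn with
  | nil =>
    intro _ _ _ h
    have e : (A ⧸ Ideal.ofList ([] : List A)) ≃+* A :=
      (Ideal.quotEquivOfEq Ideal.ofList_nil).trans (RingEquiv.quotientBot A)
    exact Groth.Agent.S2842.isCompleteIntersection_of_ringEquiv e h
  | append_singleton rs x ih =>
    intro hmem hreg _ h
    have hmem' : ∀ r ∈ rs, r ∈ maximalIdeal A := fun r hr =>
      hmem r (List.mem_append_left _ hr)
    have hx : x ∈ maximalIdeal A := hmem x (by simp)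
    have hle : Ideal.ofList rs ≤ maximalIdeal A := by
      unfold Ideal.ofList
      rw [Ideal.span_le]
      exact fun r hr => hmem' r hr
    rw [isWeaklyRegular_append_iff] at hreg
    obtain ⟨hreg1, hreg2⟩ := hreg
    haveI : IsLocalRing (A ⧸ Ideal.ofList rs) := isLocalRing_quotient A _ hle
    refine ih hmem' hreg1 ?_
    -- regularity of `x̄` on the quotient ring
    have hxreg : IsSMulRegular (A ⧸ Ideal.ofList rs) (Ideal.Quotient.mk (Ideal.ofList rs) x) := by
      rw [isWeaklyRegular_cons_iff] at hreg2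
      have h1 := hreg2.1
      have e : (A ⧸ (Ideal.ofList rs • ⊤ : Submodule A A)) ≃ₗ[A] (A ⧸ Ideal.ofList rs) :=
        Submodule.quotEquivOfEq _ _ (by rw [smul_eq_mul, Ideal.mul_top])
      have h2 : IsSMulRegular (A ⧸ Ideal.ofList rs) x := (e.isSMulRegular_congr x).1 h1
      intro a b hab
      apply h2
      show x • a = x • b
      rw [Algebra.smul_def, Algebra.smul_def]
      exact hab
    have hxm : Ideal.Quotient.mk (Ideal.ofList rs) x ∈ maximalIdeal (A ⧸ Ideal.ofList rs) := by
      rw [← Groth.Agent.S2941.map_maximalIdeal (Ideal.Quotient.mk (Ideal.ofList rs))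
        Ideal.Quotient.mk_surjective]
      exact Ideal.mem_map_of_mem _ hx
    haveI : IsLocalRing ((A ⧸ Ideal.ofList rs) ⧸
        Ideal.span {Ideal.Quotient.mk (Ideal.ofList rs) x}) :=
      isLocalRing_quotient _ _ (by rw [Ideal.span_le, Set.singleton_subset_iff]; exact hxm)
    refine isCompleteIntersection_of_quotient_singleton _ hxm hxreg ?_
    have hmap : (Ideal.span {x}).map (Ideal.Quotient.mk (Ideal.ofList rs)) =
        Ideal.span {Ideal.Quotient.mk (Ideal.ofList rs) x} := by
      rw [Ideal.map_span, Set.image_singleton]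
    have hsup : Ideal.ofList rs ⊔ Ideal.span {x} = Ideal.ofList (rs ++ [x]) := by
      rw [Ideal.ofList_append, Ideal.ofList_singleton]
    haveI : IsLocalRing ((A ⧸ Ideal.ofList rs) ⧸
        (Ideal.span {x}).map (Ideal.Quotient.mk (Ideal.ofList rs))) := by
      rw [hmap]; infer_instance
    haveI : IsLocalRing (A ⧸ Ideal.ofList rs ⊔ Ideal.span {x}) := by
      rw [hsup]; infer_instance
    have e : (A ⧸ Ideal.ofList (rs ++ [x])) ≃+* ((A ⧸ Ideal.ofList rs) ⧸
        Ideal.span {Ideal.Quotient.mk (Ideal.ofList rs) x}) :=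
      ((Ideal.quotEquivOfEq hsup.symm).trans
        (DoubleQuot.quotQuotEquivQuotSup (Ideal.ofList rs) (Ideal.span {x})).symm).trans
        (Ideal.quotEquivOfEq hmap)
    exact Groth.Agent.S2842.isCompleteIntersection_of_ringEquiv e h

end R1

section R3

variable (R S : Type u) [CommRing R] [CommRing S] [IsLocalRing R] [IsLocalRing S]
  [IsNoetherianRing R] [IsNoetherianRing S] [Algebra R S] [IsLocalHom (algebraMap R S)]
  [Module.Flat R S]

/-- **R3**: ascent of complete intersections along a flat local homomorphism with regular closed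
fibre. -/
theorem isCompleteIntersection_of_flat_of_regular_fibre
    [IsLocalRing (S ⧸ (maximalIdeal R).map (algebraMap R S))]
    (hR : Pi1.IsCompleteIntersection R)
    (hF : IsRegularLocalRing (S ⧸ (maximalIdeal R).map (algebraMap R S))) :
    Pi1.IsCompleteIntersection S := by
  obtain ⟨I, hI⟩ : ∃ I : Ideal S, I = (maximalIdeal R).map (algebraMap R S) := ⟨_, rfl⟩
  have hIm : I ≤ maximalIdeal S := by
    rw [hI]; exact Groth.Agent.Lib.Helper29.FlatRegular.map_maximalIdeal_le R S
  haveI : IsLocalRing (S ⧸ I) := isLocalRing_quotient S I hIm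
  have hF' : IsRegularLocalRing (S ⧸ I) := by
    have key : ∀ (J : Ideal S) (_ : J = (maximalIdeal R).map (algebraMap R S)),
        IsRegularLocalRing (S ⧸ J) := by
      intro J hJ; subst hJ; exact hF
    exact key I hI
  obtain ⟨e, he⟩ := Groth.Agent.S2169.exists_nat_dim (S ⧸ I)
  obtain ⟨xb, hxb⟩ := Groth.Agent.S0561.exists_generators (S ⧸ I) e
    (Groth.Agent.S0561.spanFinrank_eq_nat (S ⧸ I) e he)
  have hregF := Groth.Agent.S0559.result (S ⧸ I) e he xb hxb
  choose x hx using fun i => Ideal.Quotient.mk_surjective (xb i)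
  obtain ⟨fs, hfs⟩ : ∃ fs : List S, fs = List.ofFn x := ⟨_, rfl⟩
  have hmapfs : fs.map (algebraMap S (S ⧸ I)) = List.ofFn xb := by
    rw [hfs, List.map_ofFn]
    congr 1
    ext i
    exact hx i
  have hfsmem : ∀ r ∈ fs, r ∈ maximalIdeal S := by
    intro r hr
    rw [hfs, List.mem_ofFn] at hr
    obtain ⟨i, rfl⟩ := hr
    have h1 : xb i ∈ maximalIdeal (S ⧸ I) := by rw [← hxb]; exact Ideal.subset_span ⟨i, rfl⟩
    rw [← hx i] at h1
    by_contra hu
    rw [mem_maximalIdeal, mem_nonunits_iff, not_not] at hu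
    exact h1 (hu.map (Ideal.Quotient.mk I))
  -- weak regularity on the closed fibre, as an `S`-module
  have hw1 : IsWeaklyRegular (S ⧸ I) fs := by
    rw [← isWeaklyRegular_map_algebraMap_iff (S ⧸ I), hmapfs]
    exact hregF.toIsWeaklyRegular
  have hw2 : IsWeaklyRegular (S ⧸ ((maximalIdeal R).map (algebraMap R S) •
      (⊤ : Submodule S S))) fs := by
    have e' : (S ⧸ ((maximalIdeal R).map (algebraMap R S) • (⊤ : Submodule S S))) ≃ₗ[S]
        (S ⧸ I) :=
      Submodule.quotEquivOfEq _ _ (by rw [smul_eq_mul, Ideal.mul_top, hI])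
    exact (e'.isWeaklyRegular_congr fs).2 hw1
  obtain ⟨hw3, hflat⟩ :=
    Groth.Agent.Lib.Helper29.FlatRegular.isWeaklyRegular_and_flat_of_fibre R S fs S hw2
  have hflat' : Module.Flat R (S ⧸ Ideal.ofList fs) := by
    have h1 := hflat fs.length le_rfl
    rw [List.take_length] at h1
    have e' : (S ⧸ (Ideal.ofList fs • (⊤ : Submodule S S))) ≃ₗ[S] (S ⧸ Ideal.ofList fs) :=
      Submodule.quotEquivOfEq _ _ (by rw [smul_eq_mul, Ideal.mul_top])
    exact Module.Flat.of_linearEquiv (e'.restrictScalars R).symm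
  have hle : Ideal.ofList fs ≤ maximalIdeal S := by
    unfold Ideal.ofList
    rw [Ideal.span_le]
    exact fun r hr => hfsmem r hr
  haveI : IsLocalRing (S ⧸ Ideal.ofList fs) := isLocalRing_quotient S _ hle
  -- the maximal ideal of `S`
  have hmS : maximalIdeal S = I ⊔ Ideal.ofList fs := by
    have h1 : (maximalIdeal S).map (Ideal.Quotient.mk I) =
        (Ideal.ofList fs).map (Ideal.Quotient.mk I) := by
      rw [Groth.Agent.S2941.map_maximalIdeal (Ideal.Quotient.mk I) Ideal.Quotient.mk_surjective,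
        Ideal.map_ofList]
      show _ = Ideal.ofList (fs.map (algebraMap S (S ⧸ I)))
      rw [hmapfs, ofList_ofFn, hxb]
    have h2 := congrArg (Ideal.comap (Ideal.Quotient.mk I)) h1
    rw [Ideal.comap_map_of_surjective _ Ideal.Quotient.mk_surjective,
      Ideal.comap_map_of_surjective _ Ideal.Quotient.mk_surjective, ← RingHom.ker_eq_comap_bot,
      Ideal.mk_ker, sup_eq_left.2 hIm] at h2
    rw [h2, sup_comm]
  have hm' : (maximalIdeal R).map (algebraMap R (S ⧸ Ideal.ofList fs)) =
      maximalIdeal (S ⧸ Ideal.ofList fs) := by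
    rw [← Groth.Agent.S2941.map_maximalIdeal (Ideal.Quotient.mk (Ideal.ofList fs))
      Ideal.Quotient.mk_surjective, hmS, Ideal.map_sup, hI, Ideal.map_map]
    have h0 : (Ideal.ofList fs).map (Ideal.Quotient.mk (Ideal.ofList fs)) = ⊥ := by
      rw [Ideal.map_eq_bot_iff_le_ker, Ideal.mk_ker]
    rw [h0, sup_bot_eq]
    rfl
  have hS' := isCompleteIntersection_of_flat_of_map_maximalIdeal R (S ⧸ Ideal.ofList fs) hm' hR
  exact isCompleteIntersection_of_quotient_ofList S fs hfsmem hw3 hS'

end R3

end Groth.Agent.Lib.Helper65.CINum
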