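import Mathlib

/-!
# Completion of a flat module with projective reduction (Stacks 0DYG-like)

* `mem_smul_top_iff_exists` : elements of `J • ⊤` as finite sums.
* `mem_smul_top_of_flat` : `0 → K → P → M → 0` exact with `M` flat: `f k ∈ J P → k ∈ J K`.
* `map_injective_of_flat`, `map_exact_of_flat` : completion of such a sequence is left exact.
* `mem_pow_smul_top_of_flat`: graded injectivity argument.
-/

set_option autoImplicit false
universe u

namespace Groth.Agent.Lib.Helper65.ComplSplit

open Module

theorem mem_smul_top_iff_exists {R : Type*} [CommRing R] {M : Type*} [AddCommGroup M] [Module R M]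
    (J : Ideal R) (x : M) :
    x ∈ (J • ⊤ : Submodule R M) ↔
      ∃ (ι : Type) (_ : Fintype ι) (a : ι → R) (m : ι → M), (∀ i, a i ∈ J) ∧ ∑ i, a i • m i = x := by
  constructor
  · intro hx
    refine Submodule.smul_induction_on hx ?_ ?_
    · intro r hr m _
      exact ⟨Unit, inferInstance, fun _ => r, fun _ => m, fun _ => hr, by simp⟩
    · rintro x y ⟨ι, _, a, m, ha, rfl⟩ ⟨κ, _, b, n, hb, rfl⟩
      refine ⟨ι ⊕ κ, inferInstance, Sum.elim a b, Sum.elim m n, ?_, ?_⟩
      · rintro (i | i)
        · exact ha i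
        · exact hb i
      · simp [Fintype.sum_sum_type]
  · rintro ⟨ι, _, a, m, ha, rfl⟩
    exact Submodule.sum_mem _ fun i _ => Submodule.smul_mem_smul (ha i) Submodule.mem_top

variable {R : Type*} [CommRing R]
  {K P M : Type*} [AddCommGroup K] [Module R K] [AddCommGroup P] [Module R P]
  [AddCommGroup M] [Module R M]

/-- If `0 → K → P → M → 0` is exact with `M` flat then `K ∩ J P = J K`. -/
theorem mem_smul_top_of_flat (f : K →ₗ[R] P) (g : P →ₗ[R] M)
    (hf : Function.Injective f) (hg : Function.Surjective g) (hfg : Function.Exact f g)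
    [Module.Flat R M] (J : Ideal R) (k : K) (hk : f k ∈ (J • ⊤ : Submodule R P)) :
    k ∈ (J • ⊤ : Submodule R K) := by
  classical
  obtain ⟨ι, _, a, p, ha, hsum⟩ := (mem_smul_top_iff_exists J _).mp hk
  have h0 : ∑ i, a i • g (p i) = 0 := by
    have := congrArg g hsum
    rw [map_sum] at this
    simp only [map_smul] at this
    rw [this]
    exact hfg.apply_apply_eq_zero k
  obtain ⟨k', b, y, hy, hb⟩ := Module.Flat.isTrivialRelation_of_sum_smul_eq_zero h0
  choose q hq using fun t => hg (y t)
  have hker : ∀ i, ∃ ki, f ki = p i - ∑ t, b i t • q t := by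
    intro i
    apply (hfg _).mp
    have := hy i
    simp only [map_sub, map_sum, map_smul, hq, sub_eq_zero]
    exact this
  choose kk hkk using hker
  have hfin : f (∑ i, a i • kk i) = f k := by
    rw [map_sum]
    simp only [map_smul, hkk, smul_sub, Finset.smul_sum, smul_smul]
    rw [Finset.sum_sub_distrib, hsum, Finset.sum_comm]
    simp only [← Finset.sum_smul, hb, zero_smul, Finset.sum_const_zero, sub_zero]
  rw [← hf hfin]
  exact Submodule.sum_mem _ fun i _ => Submodule.smul_mem_smul (ha i) Submodule.mem_top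


/-- the value at level `n` of `map I f x` in terms of a representative. -/
theorem map_val_mk {A B : Type*} [AddCommGroup A] [Module R A] [AddCommGroup B] [Module R B]
    (I : Ideal R) (φ : A →ₗ[R] B) (x : AdicCompletion I A) (n : ℕ) (a : A)
    (ha : Submodule.Quotient.mk a = x.val n) :
    (AdicCompletion.map I φ x).val n = Submodule.Quotient.mk (φ a) := by
  rw [AdicCompletion.map_val_apply, ← ha, LinearMap.reduceModIdeal_apply]

theorem transitionMap_mk {A : Type*} [AddCommGroup A] [Module R A] (I : Ideal R) {m n : ℕ}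
    (hmn : m ≤ n) (a : A) :
    AdicCompletion.transitionMap I A hmn (Submodule.Quotient.mk a) = Submodule.Quotient.mk a :=
  rfl

/-- levelwise injectivity gives injectivity of the completed map. -/
theorem map_injective_of_levelwise {A B : Type*} [AddCommGroup A] [Module R A] [AddCommGroup B]
    [Module R B] (I : Ideal R) (φ : A →ₗ[R] B)
    (hinj : ∀ n a, φ a ∈ (I ^ n • ⊤ : Submodule R B) → a ∈ (I ^ n • ⊤ : Submodule R A)) :
    Function.Injective (AdicCompletion.map I φ) := by
  rw [injective_iff_map_eq_zero]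
  intro x hx
  apply AdicCompletion.ext
  intro n
  obtain ⟨k, hk⟩ := Submodule.Quotient.mk_surjective _ (x.val n)
  have h1 : (AdicCompletion.map I φ x).val n = 0 := by rw [hx]; rfl
  rw [map_val_mk I φ x n k hk, Submodule.Quotient.mk_eq_zero] at h1
  rw [← hk, AdicCompletion.val_zero_apply, Submodule.Quotient.mk_eq_zero]
  exact hinj n k h1

/-- levelwise injectivity + levelwise preimages give a preimage under the completed map. -/
theorem exists_map_eq_of_levelwise {A B : Type*} [AddCommGroup A] [Module R A] [AddCommGroup B]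
    [Module R B] (I : Ideal R) (φ : A →ₗ[R] B)
    (hinj : ∀ n a, φ a ∈ (I ^ n • ⊤ : Submodule R B) → a ∈ (I ^ n • ⊤ : Submodule R A))
    (y : AdicCompletion I B) (hex : ∀ n, ∃ a : A, Submodule.Quotient.mk (φ a) = y.val n) :
    ∃ x, AdicCompletion.map I φ x = y := by
  choose k hk using hex
  have hcompat : ∀ {m n : ℕ} (hmn : m ≤ n),
      AdicCompletion.transitionMap I A hmn (Submodule.Quotient.mk (k n)) =
        Submodule.Quotient.mk (k m) := by
    intro m n hmn
    rw [transitionMap_mk, Submodule.Quotient.eq]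
    apply hinj m
    have h3 : AdicCompletion.transitionMap I B hmn (y.val n) = y.val m := y.2 hmn
    rw [← hk n, ← hk m, transitionMap_mk, Submodule.Quotient.eq] at h3
    rw [map_sub]
    exact h3
  let x : AdicCompletion I A := ⟨fun n => Submodule.Quotient.mk (k n), hcompat⟩
  refine ⟨x, ?_⟩
  apply AdicCompletion.ext
  intro n
  rw [map_val_mk I φ x n (k n) rfl, hk n]

theorem map_bijective_of_levelwise {A B : Type*} [AddCommGroup A] [Module R A] [AddCommGroup B]
    [Module R B] (I : Ideal R) (φ : A →ₗ[R] B)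
    (hinj : ∀ n a, φ a ∈ (I ^ n • ⊤ : Submodule R B) → a ∈ (I ^ n • ⊤ : Submodule R A))
    (hsurj : ∀ n (b : B), ∃ a : A, b - φ a ∈ (I ^ n • ⊤ : Submodule R B)) :
    Function.Bijective (AdicCompletion.map I φ) := by
  refine ⟨map_injective_of_levelwise I φ hinj, fun y => ?_⟩
  apply exists_map_eq_of_levelwise I φ hinj y
  intro n
  obtain ⟨b, hb⟩ := Submodule.Quotient.mk_surjective _ (y.val n)
  obtain ⟨a, ha⟩ := hsurj n b
  refine ⟨a, ?_⟩
  rw [← hb, Submodule.Quotient.eq]
  simpa using Submodule.neg_mem _ ha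

theorem map_injective_of_flat (I : Ideal R) (f : K →ₗ[R] P) (g : P →ₗ[R] M)
    (hf : Function.Injective f) (hg : Function.Surjective g) (hfg : Function.Exact f g)
    [Module.Flat R M] : Function.Injective (AdicCompletion.map I f) :=
  map_injective_of_levelwise I f fun n k => mem_smul_top_of_flat f g hf hg hfg (I ^ n) k

theorem map_exact_of_flat (I : Ideal R) (f : K →ₗ[R] P) (g : P →ₗ[R] M)
    (hf : Function.Injective f) (hg : Function.Surjective g) (hfg : Function.Exact f g)
    [Module.Flat R M] :
    Function.Exact (AdicCompletion.map I f) (AdicCompletion.map I g) := by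
  intro y
  constructor
  · intro hy
    apply exists_map_eq_of_levelwise I f
      (fun n k => mem_smul_top_of_flat f g hf hg hfg (I ^ n) k) y
    intro n
    obtain ⟨p, hp⟩ := Submodule.Quotient.mk_surjective _ (y.val n)
    have h1 : (AdicCompletion.map I g y).val n = 0 := by rw [hy]; rfl
    rw [map_val_mk I g y n p hp, Submodule.Quotient.mk_eq_zero] at h1
    have h2 : g p ∈ Submodule.map g (I ^ n • ⊤ : Submodule R P) := by
      rw [Submodule.map_smul'', Submodule.map_top, LinearMap.range_eq_top.mpr hg]
      exact h1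
    obtain ⟨p', hp', hgp⟩ := h2
    obtain ⟨k, hk⟩ := (hfg (p - p')).mp (by rw [map_sub, hgp, sub_self])
    refine ⟨k, ?_⟩
    rw [hk, ← hp, Submodule.Quotient.eq]
    simpa using Submodule.neg_mem _ hp'
  · rintro ⟨x, rfl⟩
    rw [AdicCompletion.map_comp_apply]
    have : g ∘ₗ f = 0 := LinearMap.ext fun k => hfg.apply_apply_eq_zero k
    rw [this, AdicCompletion.map_zero]
    rfl

/-- graded argument: a map into a flat module which is bijective modulo `I` is injective
modulo every power of `I`. -/
theorem mem_pow_smul_top_of_flat {F N : Type*} [AddCommGroup F] [Module R F] [AddCommGroup N]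
    [Module R N] (I : Ideal R) (φ : F →ₗ[R] N) [Module.Flat R N]
    (hinj : ∀ x, φ x ∈ (I • ⊤ : Submodule R N) → x ∈ (I • ⊤ : Submodule R F))
    (hsurj : ∀ y : N, ∃ x : F, y - φ x ∈ (I • ⊤ : Submodule R N)) :
    ∀ n x, φ x ∈ (I ^ n • ⊤ : Submodule R N) → x ∈ (I ^ n • ⊤ : Submodule R F) := by
  classical
  intro n
  induction n with
  | zero => intro x _; simp
  | succ n ih =>
    intro x hx
    have hx' : φ x ∈ (I ^ n • ⊤ : Submodule R N) :=
      Submodule.smul_mono_left (Ideal.pow_le_pow_right (Nat.le_succ n)) hx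
    obtain ⟨ι, _, a, e, ha, hxe⟩ := (mem_smul_top_iff_exists (I ^ n) x).mp (ih x hx')
    obtain ⟨κ, _, c, m, hc, hxm⟩ := (mem_smul_top_iff_exists (I ^ (n + 1)) (φ x)).mp hx
    have hrel : ∑ i : ι ⊕ κ, (Sum.elim a (fun l => - c l) i) • (Sum.elim (fun j => φ (e j)) m i) = 0 := by
      rw [Fintype.sum_sum_type]
      simp only [Sum.elim_inl, Sum.elim_inr, neg_smul, Finset.sum_neg_distrib]
      rw [hxm, ← hxe, map_sum]
      simp
    obtain ⟨k, B, y, hy, hB⟩ := Module.Flat.isTrivialRelation_of_sum_smul_eq_zero hrel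
    choose z hz using fun t => hsurj (y t)
    have hd : ∀ j, e j - ∑ t, B (Sum.inl j) t • z t ∈ (I • ⊤ : Submodule R F) := by
      intro j
      apply hinj
      have := hy (Sum.inl j)
      simp only [Sum.elim_inl] at this
      rw [map_sub, this, map_sum, ← Finset.sum_sub_distrib]
      refine Submodule.sum_mem _ fun t _ => ?_
      rw [map_smul, ← smul_sub]
      exact Submodule.smul_mem _ _ (hz t)
    have hcoef : ∀ t, ∑ j, a j * B (Sum.inl j) t ∈ I ^ (n + 1) := by
      intro t
      have := hB t
      rw [Fintype.sum_sum_type] at this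
      simp only [Sum.elim_inl, Sum.elim_inr, neg_mul, Finset.sum_neg_distrib] at this
      rw [add_neg_eq_zero] at this
      rw [this]
      exact Ideal.sum_mem _ fun l _ => Ideal.mul_mem_right _ _ (hc l)
    have hxeq : x = ∑ j, a j • (e j - ∑ t, B (Sum.inl j) t • z t) +
        ∑ t, (∑ j, a j * B (Sum.inl j) t) • z t := by
      rw [← hxe]
      simp only [smul_sub, Finset.sum_sub_distrib, Finset.smul_sum, smul_smul, Finset.sum_smul]
      rw [Finset.sum_comm (γ := Fin k)]
      abel
    rw [hxeq]
    refine Submodule.add_mem _ (Submodule.sum_mem _ fun j _ => ?_)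
      (Submodule.sum_mem _ fun t _ => Submodule.smul_mem_smul (hcoef t) Submodule.mem_top)
    rw [pow_succ, Submodule.mul_smul]
    exact Submodule.smul_mem_smul (ha j) (hd j)

theorem exists_sub_mem_pow_smul_top {F N : Type*} [AddCommGroup F] [Module R F] [AddCommGroup N]
    [Module R N] (I : Ideal R) (φ : F →ₗ[R] N)
    (hsurj : ∀ y : N, ∃ x : F, y - φ x ∈ (I • ⊤ : Submodule R N)) :
    ∀ n (y : N), ∃ x : F, y - φ x ∈ (I ^ n • ⊤ : Submodule R N) := by
  classical
  intro n
  induction n with
  | zero => intro y; exact ⟨0, by simp⟩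
  | succ n ih =>
    intro y
    obtain ⟨x, hx⟩ := ih y
    obtain ⟨ι, _, a, m, ha, hsum⟩ := (mem_smul_top_iff_exists (I ^ n) _).mp hx
    choose z hz using fun j => hsurj (m j)
    refine ⟨x + ∑ j, a j • z j, ?_⟩
    have : y - φ (x + ∑ j, a j • z j) = ∑ j, a j • (m j - φ (z j)) := by
      simp only [map_add, map_sum, map_smul, smul_sub, Finset.sum_sub_distrib, hsum]
      abel
    rw [this]
    refine Submodule.sum_mem _ fun j _ => ?_
    rw [pow_succ, Submodule.mul_smul]
    exact Submodule.smul_mem_smul (ha j) (hz j)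

end Groth.Agent.Lib.Helper65.ComplSplit
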