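import Mathlib
import Groth.Agent.Lib.Helper65.ComplSplit

/-!
# Completion of short exact sequences whose cokernel has bounded `a`-power torsion
-/

set_option autoImplicit false
universe u

namespace Groth.Agent.Lib.Helper65.ComplBdd

open Groth.Agent.Lib.Helper65.ComplSplit

variable {R : Type*} [CommRing R]

theorem mem_span_pow_smul_top_iff {M : Type*} [AddCommGroup M] [Module R M] (a : R) (n : ℕ)
    (x : M) : x ∈ ((Ideal.span {a}) ^ n • ⊤ : Submodule R M) ↔ ∃ y : M, a ^ n • y = x := by
  rw [Ideal.span_singleton_pow, Submodule.ideal_span_singleton_smul,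
    Submodule.mem_smul_pointwise_iff_exists]
  simp

/-- shifted levelwise injectivity gives injectivity of the completed map. -/
theorem map_injective_of_levelwise_shift {A B : Type*} [AddCommGroup A] [Module R A]
    [AddCommGroup B] [Module R B] (I : Ideal R) (φ : A →ₗ[R] B) (N : ℕ)
    (hinj : ∀ n a, φ a ∈ (I ^ (n + N) • ⊤ : Submodule R B) → a ∈ (I ^ n • ⊤ : Submodule R A)) :
    Function.Injective (AdicCompletion.map I φ) := by
  rw [injective_iff_map_eq_zero]
  intro x hx
  apply AdicCompletion.ext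
  intro n
  obtain ⟨k, hk⟩ := Submodule.Quotient.mk_surjective _ (x.val (n + N))
  have h1 : (AdicCompletion.map I φ x).val (n + N) = 0 := by rw [hx]; rfl
  rw [map_val_mk I φ x (n + N) k hk, Submodule.Quotient.mk_eq_zero] at h1
  have h2 : AdicCompletion.transitionMap I A (Nat.le_add_right n N) (x.val (n + N)) = x.val n :=
    x.2 _
  rw [← h2, ← hk, transitionMap_mk, AdicCompletion.val_zero_apply, Submodule.Quotient.mk_eq_zero]
  exact hinj n k h1

/-- shifted levelwise injectivity + levelwise preimages give a preimage under the completed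
map. -/
theorem exists_map_eq_of_levelwise_shift {A B : Type*} [AddCommGroup A] [Module R A]
    [AddCommGroup B] [Module R B] (I : Ideal R) (φ : A →ₗ[R] B) (N : ℕ)
    (hinj : ∀ n a, φ a ∈ (I ^ (n + N) • ⊤ : Submodule R B) → a ∈ (I ^ n • ⊤ : Submodule R A))
    (y : AdicCompletion I B) (hex : ∀ n, ∃ a : A, Submodule.Quotient.mk (φ a) = y.val n) :
    ∃ x, AdicCompletion.map I φ x = y := by
  choose k hk using hex
  have hcompat : ∀ {m n : ℕ} (hmn : m ≤ n),
      AdicCompletion.transitionMap I A hmn (Submodule.Quotient.mk (k (n + N))) =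
        Submodule.Quotient.mk (k (m + N)) := by
    intro m n hmn
    rw [transitionMap_mk, Submodule.Quotient.eq]
    apply hinj m
    have hmn' : m + N ≤ n + N := Nat.add_le_add_right hmn N
    have h3 : AdicCompletion.transitionMap I B hmn' (y.val (n + N)) = y.val (m + N) := y.2 hmn'
    rw [← hk (n + N), ← hk (m + N), transitionMap_mk, Submodule.Quotient.eq] at h3
    rw [map_sub]
    exact h3
  let x : AdicCompletion I A := ⟨fun n => Submodule.Quotient.mk (k (n + N)), hcompat⟩
  refine ⟨x, ?_⟩
  apply AdicCompletion.ext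
  intro n
  rw [map_val_mk I φ x n (k (n + N)) rfl]
  have h3 : AdicCompletion.transitionMap I B (Nat.le_add_right n N) (y.val (n + N)) = y.val n :=
    y.2 _
  rw [← h3, ← hk (n + N), transitionMap_mk]

variable {K P M : Type*} [AddCommGroup K] [Module R K] [AddCommGroup P] [Module R P]
  [AddCommGroup M] [Module R M]

/-- Artin–Rees-like statement for a short exact sequence whose cokernel has bounded
`a`-power torsion. -/
theorem mem_pow_smul_top_of_bdd (a : R) (f : K →ₗ[R] P) (g : P →ₗ[R] M)
    (hf : Function.Injective f) (hfg : Function.Exact f g) (N : ℕ)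
    (hN : ∀ x : M, (∃ m : ℕ, a ^ m • x = 0) → a ^ N • x = 0) (n : ℕ) (k : K)
    (hk : f k ∈ ((Ideal.span {a}) ^ (n + N) • ⊤ : Submodule R P)) :
    k ∈ ((Ideal.span {a}) ^ n • ⊤ : Submodule R K) := by
  rw [mem_span_pow_smul_top_iff] at hk ⊢
  obtain ⟨y, hy⟩ := hk
  have h1 : a ^ N • g y = 0 := by
    apply hN
    refine ⟨n + N, ?_⟩
    rw [← map_smul, hy]
    exact hfg.apply_apply_eq_zero k
  rw [← map_smul] at h1
  obtain ⟨z, hz⟩ := (hfg _).mp h1
  refine ⟨z, hf ?_⟩
  rw [map_smul, hz, smul_smul, ← pow_add, hy]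

theorem map_injective_of_bdd (a : R) (f : K →ₗ[R] P) (g : P →ₗ[R] M)
    (hf : Function.Injective f) (hfg : Function.Exact f g) (N : ℕ)
    (hN : ∀ x : M, (∃ m : ℕ, a ^ m • x = 0) → a ^ N • x = 0) :
    Function.Injective (AdicCompletion.map (Ideal.span {a}) f) :=
  map_injective_of_levelwise_shift _ f N fun n k => mem_pow_smul_top_of_bdd a f g hf hfg N hN n k

theorem map_exact_of_bdd (a : R) (f : K →ₗ[R] P) (g : P →ₗ[R] M)
    (hf : Function.Injective f) (hg : Function.Surjective g) (hfg : Function.Exact f g) (N : ℕ)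
    (hN : ∀ x : M, (∃ m : ℕ, a ^ m • x = 0) → a ^ N • x = 0) :
    Function.Exact (AdicCompletion.map (Ideal.span {a}) f)
      (AdicCompletion.map (Ideal.span {a}) g) := by
  intro y
  constructor
  · intro hy
    apply exists_map_eq_of_levelwise_shift _ f N
      (fun n k => mem_pow_smul_top_of_bdd a f g hf hfg N hN n k) y
    intro n
    obtain ⟨p, hp⟩ := Submodule.Quotient.mk_surjective _ (y.val n)
    have h1 : (AdicCompletion.map (Ideal.span {a}) g y).val n = 0 := by rw [hy]; rfl
    rw [map_val_mk _ g y n p hp, Submodule.Quotient.mk_eq_zero] at h1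
    have h2 : g p ∈ Submodule.map g ((Ideal.span {a}) ^ n • ⊤ : Submodule R P) := by
      rw [Submodule.map_smul'', Submodule.map_top, LinearMap.range_eq_top.mpr hg]
      exact h1
    obtain ⟨p', hp', hgp⟩ := h2
    obtain ⟨k, hk⟩ := (hfg (p - p')).mp (by rw [map_sub, hgp, sub_self])
    refine ⟨k, ?_⟩
    rw [hk, ← hp, Submodule.Quotient.eq]
    simpa using Submodule.neg_mem _ hp'
  · rintro ⟨x, rfl⟩
    rw [AdicCompletion.map_comp_apply]
    have : g ∘ₗ f = 0 := LinearMap.ext fun k => hfg.apply_apply_eq_zero k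
    rw [this, AdicCompletion.map_zero]
    rfl

end Groth.Agent.Lib.Helper65.ComplBdd
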