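import Mathlib

set_option autoImplicit false
universe u

namespace Groth.Agent.Lib.Helper65.ComplFree

open Finset

variable {R : Type u} [CommRing R] (I : Ideal R) {α : Type u}

/-- membership in `I^n • ⊤` for finitely supported functions is coordinatewise. -/
theorem mem_pow_smul_top_finsupp_iff (n : ℕ) (z : α →₀ R) :
    z ∈ (I ^ n • ⊤ : Submodule R (α →₀ R)) ↔ ∀ p, z p ∈ I ^ n := by
  constructor
  · intro hz p
    have hle : (I ^ n • ⊤ : Submodule R (α →₀ R)) ≤
        Submodule.comap (Finsupp.lapply p : (α →₀ R) →ₗ[R] R) (I ^ n) := by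
      rw [Submodule.smul_le]
      intro r hr m _
      simp only [Submodule.mem_comap, map_smul, smul_eq_mul]
      exact Ideal.mul_mem_right _ _ hr
    exact hle hz
  · intro h
    classical
    have : z = ∑ p ∈ z.support, (z p) • Finsupp.single p (1 : R) := by
      conv_lhs => rw [← Finsupp.sum_single z]
      simp [Finsupp.sum]
    rw [this]
    refine Submodule.sum_mem _ fun p _ => ?_
    exact Submodule.smul_mem_smul (h p) Submodule.mem_top

/-- membership in `I^n • ⊤` for functions on a finite type is coordinatewise. -/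
theorem mem_pow_smul_top_pi_iff {k : ℕ} (n : ℕ) (w : Fin k → R) :
    w ∈ (I ^ n • ⊤ : Submodule R (Fin k → R)) ↔ ∀ j, w j ∈ I ^ n := by
  constructor
  · intro hw j
    have hle : (I ^ n • ⊤ : Submodule R (Fin k → R)) ≤
        Submodule.comap (LinearMap.proj j : (Fin k → R) →ₗ[R] R) (I ^ n) := by
      rw [Submodule.smul_le]
      intro r hr m _
      simp only [Submodule.mem_comap, map_smul, smul_eq_mul]
      exact Ideal.mul_mem_right _ _ hr
    exact hle hw
  · intro h
    have : w = ∑ j, (w j) • (Pi.single j (1 : R) : Fin k → R) := by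
      ext i
      simp [Finset.sum_apply, Pi.single_apply]
    rw [this]
    refine Submodule.sum_mem _ fun j _ => ?_
    exact Submodule.smul_mem_smul (h j) Submodule.mem_top

/-- the linear map given by a matrix `a`. -/
noncomputable def mulA {l k : ℕ} (a : Fin l → Fin k → R) (M : Type*) [AddCommGroup M] [Module R M] :
    (Fin k → M) →ₗ[R] (Fin l → M) where
  toFun v := fun i => ∑ j, a i j • v j
  map_add' v w := by
    ext i
    simp [smul_add, Finset.sum_add_distrib]
  map_smul' r v := by
    ext i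
    simp [Finset.smul_sum, smul_comm r]

@[simp] theorem mulA_apply {l k : ℕ} (a : Fin l → Fin k → R) (M : Type*) [AddCommGroup M] [Module R M]
    (v : Fin k → M) (i : Fin l) : mulA a M v i = ∑ j, a i j • v j := rfl

/-- **Artin–Rees**, matrix form. -/
theorem exists_AR [IsNoetherianRing R] {l k : ℕ} (a : Fin l → Fin k → R) :
    ∃ c : ℕ, ∀ (n : ℕ) (v : Fin l → R), (∀ i, v i ∈ I ^ (n + c)) →
      (∃ w : Fin k → R, mulA a R w = v) →
      ∃ w : Fin k → R, (∀ j, w j ∈ I ^ n) ∧ mulA a R w = v := by
  obtain ⟨c, hc⟩ := Ideal.exists_pow_inf_eq_pow_smul I (LinearMap.range (mulA a R))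
  refine ⟨c, fun n v hv hw => ?_⟩
  have h1 : v ∈ (I ^ (n + c) • ⊤ ⊓ LinearMap.range (mulA a R) : Submodule R (Fin l → R)) := by
    refine ⟨?_, ?_⟩
    · exact (mem_pow_smul_top_pi_iff I (n + c) v).2 hv
    · obtain ⟨w, hw⟩ := hw
      exact ⟨w, hw⟩
  rw [hc (n + c) (Nat.le_add_left c n), Nat.add_sub_cancel] at h1
  have h2 : (I ^ n • (I ^ c • ⊤ ⊓ LinearMap.range (mulA a R)) : Submodule R (Fin l → R)) ≤
      Submodule.map (mulA a R) (I ^ n • ⊤) := by
    rw [Submodule.map_smul'', Submodule.map_top]
    exact Submodule.smul_mono le_rfl inf_le_right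
  obtain ⟨w, hw1, hw2⟩ := h2 h1
  exact ⟨w, (mem_pow_smul_top_pi_iff I n w).1 hw1, hw2⟩

open Classical in
/-- pointwise application of a function on tuples to tuples of finitely supported functions. -/
noncomputable def ptw {l k : ℕ} (G : (Fin l → R) → (Fin k → R))
    (x : Fin l → (α →₀ R)) : Fin k → (α →₀ R) := fun j =>
  Finsupp.onFinset (Finset.univ.biUnion fun i => (x i).support)
    (fun p => if (∀ i, x i p = 0) then 0 else G (fun i => x i p) j) (by
    intro p hp
    by_contra hne
    apply hp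
    rw [if_pos]
    intro i
    by_contra hi
    apply hne
    simp only [Finset.mem_biUnion, Finset.mem_univ, true_and, Finsupp.mem_support_iff]
    exact ⟨i, hi⟩)

theorem ptw_prop {l k : ℕ} (G : (Fin l → R) → (Fin k → R)) (x : Fin l → (α →₀ R))
    (P : (Fin l → R) → (Fin k → R) → Prop) (h0 : P 0 0) (hG : ∀ v, P v (G v)) (p : α) :
    P (fun i => x i p) (fun j => ptw G x j p) := by
  classical
  by_cases h : ∀ i, x i p = 0
  · have h1 : (fun i => x i p) = 0 := funext h
    have h2 : (fun j => ptw G x j p) = 0 := by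
      ext j
      simp [ptw, Finsupp.onFinset_apply, if_pos h]
    rw [h1, h2]
    exact h0
  · have h2 : (fun j => ptw G x j p) = G (fun i => x i p) := by
      ext j
      simp [ptw, Finsupp.onFinset_apply, if_neg h]
    rw [h2]
    exact hG _

theorem mulA_finsupp_apply {l k : ℕ} (a : Fin l → Fin k → R) (u : Fin k → (α →₀ R)) (i : Fin l)
    (p : α) : (mulA a (α →₀ R) u i) p = mulA a R (fun j => u j p) i := by
  simp [mulA_apply, Finsupp.finset_sum_apply]

/-- uniform Artin–Rees on a free module. -/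
theorem exists_small [IsNoetherianRing R] {l k : ℕ} (a : Fin l → Fin k → R) :
    ∃ c : ℕ, ∀ (n : ℕ) (u : Fin k → (α →₀ R)),
      (∀ i, mulA a (α →₀ R) u i ∈ (I ^ (n + c) • ⊤ : Submodule R (α →₀ R))) →
      ∃ u' : Fin k → (α →₀ R), (∀ j, u' j ∈ (I ^ n • ⊤ : Submodule R (α →₀ R))) ∧
        mulA a (α →₀ R) u' = mulA a (α →₀ R) u := by
  classical
  obtain ⟨c, hc⟩ := exists_AR I a
  refine ⟨c, fun n u hu => ?_⟩
  let P : (Fin k → R) → (Fin k → R) → Prop := fun w w' =>
    (∀ i, mulA a R w i ∈ I ^ (n + c)) → (∀ j, w' j ∈ I ^ n) ∧ mulA a R w' = mulA a R w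
  have hex : ∀ w, ∃ w', P w w' := by
    intro w
    by_cases hw : ∀ i, mulA a R w i ∈ I ^ (n + c)
    · obtain ⟨w', h1, h2⟩ := hc n (mulA a R w) hw ⟨w, rfl⟩
      exact ⟨w', fun _ => ⟨h1, h2⟩⟩
    · exact ⟨0, fun h => absurd h hw⟩
  choose G hG using hex
  refine ⟨ptw G u, ?_, ?_⟩
  · intro j
    rw [mem_pow_smul_top_finsupp_iff]
    intro p
    have := ptw_prop G u P (fun _ => ⟨fun _ => by simp, rfl⟩) hG p
    refine (this ?_).1 j
    intro i
    rw [← mulA_finsupp_apply]
    exact (mem_pow_smul_top_finsupp_iff I (n + c) _).1 (hu i) p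
  · ext i p
    rw [mulA_finsupp_apply, mulA_finsupp_apply]
    have := ptw_prop G u P (fun _ => ⟨fun _ => by simp, rfl⟩) hG p
    refine congrFun (this ?_).2 i
    intro i
    rw [← mulA_finsupp_apply]
    exact (mem_pow_smul_top_finsupp_iff I (n + c) _).1 (hu i) p


/-- **Key lemma**: a tuple of elements of the completion of a free module which is levelwise in the
image of a matrix is in the image of the matrix. -/
theorem key [IsNoetherianRing R] {l k : ℕ} (a : Fin l → Fin k → R)
    (f : Fin l → AdicCompletion.AdicCauchySequence I (α →₀ R))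
    (h : ∀ n, ∃ y : Fin k → (α →₀ R),
      ∀ i, f i n - mulA a (α →₀ R) y i ∈ (I ^ n • ⊤ : Submodule R (α →₀ R))) :
    ∃ y : Fin k → AdicCompletion I (α →₀ R),
      ∀ i, AdicCompletion.mk I (α →₀ R) (f i) = ∑ j, a i j • y j := by
  classical
  choose u hu using h
  obtain ⟨c, hc⟩ := exists_small (α := α) I a
  -- differences
  have hD : ∀ N, ∀ i, mulA a (α →₀ R) (u (N + c + 1) - u (N + c)) i ∈
      (I ^ (N + c) • ⊤ : Submodule R (α →₀ R)) := by
    intro N i
    have h1 := hu (N + c + 1) i
    have h2 := hu (N + c) i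
    have h3 : f i (N + c) - f i (N + c + 1) ∈ (I ^ (N + c) • ⊤ : Submodule R (α →₀ R)) := by
      have := (f i).property (Nat.le_succ (N + c))
      rw [SModEq.sub_mem] at this
      exact this
    have h1' : f i (N + c + 1) - mulA a (α →₀ R) (u (N + c + 1)) i ∈
        (I ^ (N + c) • ⊤ : Submodule R (α →₀ R)) :=
      Submodule.smul_mono (Ideal.pow_le_pow_right (Nat.le_succ _)) le_rfl h1
    have : mulA a (α →₀ R) (u (N + c + 1) - u (N + c)) i =
        - (f i (N + c + 1) - mulA a (α →₀ R) (u (N + c + 1)) i)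
        - (f i (N + c) - f i (N + c + 1)) + (f i (N + c) - mulA a (α →₀ R) (u (N + c)) i) := by
      rw [map_sub, Pi.sub_apply]
      abel
    rw [this]
    exact Submodule.add_mem _ (Submodule.sub_mem _ (Submodule.neg_mem _ h1') h3) h2
  choose d hd1 hd2 using fun N => hc N (u (N + c + 1) - u (N + c)) (hD N)
  let v : ℕ → Fin k → (α →₀ R) := fun N => u c + ∑ i ∈ Finset.range N, d i
  have hv : ∀ N, mulA a (α →₀ R) (v N) = mulA a (α →₀ R) (u (N + c)) := by
    intro N
    induction N with
    | zero => simp [v]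
    | succ N ih =>
      have : v (N + 1) = v N + d N := by
        simp only [v, Finset.sum_range_succ]
        abel
      rw [this, map_add, ih, hd2 N, map_sub]
      rw [show N + 1 + c = N + c + 1 by omega]
      abel
  have hcauchy : ∀ j N, v N j ≡ v (N + 1) j [SMOD (I ^ N • ⊤ : Submodule R (α →₀ R))] := by
    intro j N
    rw [SModEq.sub_mem]
    have : v N j - v (N + 1) j = - d N j := by
      simp only [v, Finset.sum_range_succ, Pi.add_apply]
      abel
    rw [this]
    exact Submodule.neg_mem _ (hd1 N j)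
  refine ⟨fun j => AdicCompletion.mk I (α →₀ R)
    (AdicCompletion.AdicCauchySequence.mk I (α →₀ R) (fun N => v N j) (hcauchy j)), fun i => ?_⟩
  apply AdicCompletion.ext
  intro N
  rw [AdicCompletion.val_sum_apply]
  simp only [AdicCompletion.val_smul_apply, AdicCompletion.mk_apply_coe,
    AdicCompletion.AdicCauchySequence.mk_coe, Submodule.mkQ_apply]
  have e1 : (∑ x, a i x • (Submodule.Quotient.mk (v N x) :
      (α →₀ R) ⧸ (I ^ N • ⊤ : Submodule R (α →₀ R)))) =
      Submodule.Quotient.mk (mulA a (α →₀ R) (v N) i) := by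
    rw [mulA_apply]
    induction (Finset.univ : Finset (Fin k)) using Finset.induction_on with
    | empty => simp
    | insert x s hx ih =>
      rw [Finset.sum_insert hx, Finset.sum_insert hx, Submodule.Quotient.mk_add,
        Submodule.Quotient.mk_smul, ih]
  rw [e1, hv N, Submodule.Quotient.eq]
  have h1 : f i N - f i (N + c) ∈ (I ^ N • ⊤ : Submodule R (α →₀ R)) := by
    have := (f i).property (Nat.le_add_right N c)
    rw [SModEq.sub_mem] at this
    exact this
  have h2 : f i (N + c) - mulA a (α →₀ R) (u (N + c)) i ∈ (I ^ N • ⊤ : Submodule R (α →₀ R)) :=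
    Submodule.smul_mono (Ideal.pow_le_pow_right (Nat.le_add_right N c)) le_rfl (hu (N + c) i)
  have : f i N - mulA a (α →₀ R) (u (N + c)) i =
      (f i N - f i (N + c)) + (f i (N + c) - mulA a (α →₀ R) (u (N + c)) i) := by abel
  rw [this]
  exact Submodule.add_mem _ h1 h2

end Groth.Agent.Lib.Helper65.ComplFree
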