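import Groth.Agent.Lib.Helper65.ComplSplit
import Groth.Agent.Lib.Helper65.ComplFree
import Groth.Agent.Lib.Helper7.NilProj

set_option autoImplicit false
universe u v

namespace Groth.Agent.Lib.Helper65.ComplSplit

open Groth.Agent.Lib.Helper65.ComplFree Groth.Agent.Lib.Helper7.NilProj

theorem mem_smul_top_prod_iff {R : Type*} [CommRing R] {A B : Type*} [AddCommGroup A] [Module R A]
    [AddCommGroup B] [Module R B] (J : Ideal R) (x : A × B) :
    x ∈ (J • ⊤ : Submodule R (A × B)) ↔
      x.1 ∈ (J • ⊤ : Submodule R A) ∧ x.2 ∈ (J • ⊤ : Submodule R B) := by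
  constructor
  · intro hx
    constructor
    · have : (J • ⊤ : Submodule R (A × B)) ≤ Submodule.comap (LinearMap.fst R A B) (J • ⊤) := by
        rw [← Submodule.map_le_iff_le_comap, Submodule.map_smul'']
        exact Submodule.smul_mono le_rfl le_top
      exact this hx
    · have : (J • ⊤ : Submodule R (A × B)) ≤ Submodule.comap (LinearMap.snd R A B) (J • ⊤) := by
        rw [← Submodule.map_le_iff_le_comap, Submodule.map_smul'']
        exact Submodule.smul_mono le_rfl le_top
      exact this hx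
  · rintro ⟨h1, h2⟩
    have e : x = LinearMap.inl R A B x.1 + LinearMap.inr R A B x.2 := by
      ext <;> simp
    rw [e]
    refine Submodule.add_mem _ ?_ ?_
    · have : Submodule.map (LinearMap.inl R A B) (J • ⊤) ≤ (J • ⊤ : Submodule R (A × B)) := by
        rw [Submodule.map_smul'']
        exact Submodule.smul_mono le_rfl le_top
      exact this (Submodule.mem_map_of_mem h1)
    · have : Submodule.map (LinearMap.inr R A B) (J • ⊤) ≤ (J • ⊤ : Submodule R (A × B)) := by
        rw [Submodule.map_smul'']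
        exact Submodule.smul_mono le_rfl le_top
      exact this (Submodule.mem_map_of_mem h2)


/-- **Swindle lift**: if `M` is flat with `M/IM` projective over `R/I` there are a free module `F`
and a map `φ : F → M × F` which is bijective modulo every power of `I`. -/
theorem exists_swindle_lift (R : Type u) [CommRing R] (I : Ideal R) (M : Type u) [AddCommGroup M]
    [Module R M] [Module.Flat R M]
    [Module.Projective (R ⧸ I) (M ⧸ (I • ⊤ : Submodule R M))] :
    ∃ (Y : Type u) (φ : (Y →₀ R) →ₗ[R] M × (Y →₀ R)),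
      (∀ n x, φ x ∈ (I ^ n • ⊤ : Submodule R (M × (Y →₀ R))) → x ∈ (I ^ n • ⊤ : Submodule R (Y →₀ R))) ∧
      (∀ n (y : M × (Y →₀ R)), ∃ x, y - φ x ∈ (I ^ n • ⊤ : Submodule R (M × (Y →₀ R)))) := by
  classical
  obtain ⟨Y, ⟨esw⟩⟩ := exists_swindle (R := R ⧸ I) (M ⧸ (I • ⊤ : Submodule R M))
  let ρF : (Y →₀ R) →ₗ[R] (Y →₀ R ⧸ I) :=
    Finsupp.mapRange.linearMap (Ideal.Quotient.mkₐ R I).toLinearMap
  have hρFsurj : Function.Surjective ρF :=
    Finsupp.mapRange_surjective _ (map_zero _) Ideal.Quotient.mk_surjective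
  have hρFker : ∀ x, ρF x = 0 ↔ x ∈ (I • ⊤ : Submodule R (Y →₀ R)) := by
    intro x
    have := mem_pow_smul_top_finsupp_iff (I := I) 1 x
    rw [pow_one] at this
    rw [this, Finsupp.ext_iff]
    refine forall_congr' fun y => ?_
    simp [ρF, Ideal.Quotient.eq_zero_iff_mem]
  let ρN : M × (Y →₀ R) →ₗ[R] (M ⧸ (I • ⊤ : Submodule R M)) × (Y →₀ R ⧸ I) :=
    LinearMap.prodMap (Submodule.mkQ _) ρF
  have hρNker : ∀ x, ρN x = 0 ↔ x ∈ (I • ⊤ : Submodule R (M × (Y →₀ R))) := by
    intro x
    rw [mem_smul_top_prod_iff, ← hρFker]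
    simp [ρN, Prod.ext_iff]
  have hlift : ∀ y : Y, ∃ n : M × (Y →₀ R), ρN n = esw.symm (Finsupp.single y 1) := by
    intro y
    obtain ⟨m, hm⟩ := Submodule.mkQ_surjective _ (esw.symm (Finsupp.single y 1)).1
    obtain ⟨v, hv⟩ := hρFsurj (esw.symm (Finsupp.single y 1)).2
    exact ⟨(m, v), Prod.ext hm hv⟩
  choose b hb using hlift
  let φ : (Y →₀ R) →ₗ[R] M × (Y →₀ R) := Finsupp.linearCombination R b
  have hsq : ∀ x, ρN (φ x) = esw.symm (ρF x) := by
    intro x
    have : ρN ∘ₗ φ = (esw.symm.toLinearMap.restrictScalars R) ∘ₗ ρF := by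
      apply Finsupp.lhom_ext'
      intro y
      ext
      · simp [φ, hb, ρF]
      · simp [φ, hb, ρF]
    exact LinearMap.congr_fun this x
  haveI : Module.Flat R (M × (Y →₀ R)) := flat_prod
  have h1 : ∀ x, φ x ∈ (I • ⊤ : Submodule R (M × (Y →₀ R))) → x ∈ (I • ⊤ : Submodule R (Y →₀ R)) := by
    intro x hx
    rw [← hρNker, hsq] at hx
    rw [← hρFker]
    exact esw.symm.map_eq_zero_iff.mp hx
  have h2 : ∀ y : M × (Y →₀ R), ∃ x, y - φ x ∈ (I • ⊤ : Submodule R (M × (Y →₀ R))) := by
    intro y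
    obtain ⟨x, hx⟩ := hρFsurj (esw (ρN y))
    refine ⟨x, ?_⟩
    rw [← hρNker, map_sub, hsq, hx, LinearEquiv.symm_apply_apply, sub_self]
  exact ⟨Y, φ, mem_pow_smul_top_of_flat I φ h1 h2, exists_sub_mem_pow_smul_top I φ h2⟩


/-- the completion of a surjection onto a flat module with projective reduction has a section. -/
theorem exists_section (R : Type u) [CommRing R] (I : Ideal R) (P M : Type u) [AddCommGroup P]
    [Module R P] [AddCommGroup M] [Module R M] (g : P →ₗ[R] M) (hg : Function.Surjective g)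
    [Module.Flat R M] [Module.Projective (R ⧸ I) (M ⧸ (I • ⊤ : Submodule R M))] :
    ∃ s : AdicCompletion I M →ₗ[AdicCompletion I R] AdicCompletion I P,
      AdicCompletion.map I g ∘ₗ s = LinearMap.id := by
  classical
  obtain ⟨Y, φ, hinj, hsurj⟩ := exists_swindle_lift R I M
  have hbij := map_bijective_of_levelwise I φ hinj hsurj
  let Φ : AdicCompletion I (Y →₀ R) ≃ₗ[AdicCompletion I R] AdicCompletion I (M × (Y →₀ R)) :=
    LinearEquiv.ofBijective (AdicCompletion.map I φ) hbij
  choose c hc using fun y : Y => hg (φ (Finsupp.single y 1)).1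
  let ψ : (Y →₀ R) →ₗ[R] P := Finsupp.linearCombination R c
  have hψ : g ∘ₗ ψ = LinearMap.fst R M (Y →₀ R) ∘ₗ φ := by
    apply Finsupp.lhom_ext'
    intro y
    ext
    simp [ψ, hc]
  refine ⟨AdicCompletion.map I ψ ∘ₗ Φ.symm.toLinearMap ∘ₗ
    AdicCompletion.map I (LinearMap.inl R M (Y →₀ R)), ?_⟩
  rw [← LinearMap.comp_assoc, AdicCompletion.map_comp, hψ, ← AdicCompletion.map_comp]
  refine LinearMap.ext fun x => ?_
  simp only [LinearMap.comp_apply, LinearEquiv.coe_coe, LinearMap.id_apply]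
  have : AdicCompletion.map I φ (Φ.symm (AdicCompletion.map I (LinearMap.inl R M (Y →₀ R)) x)) =
      AdicCompletion.map I (LinearMap.inl R M (Y →₀ R)) x := Φ.apply_symm_apply _
  rw [this, AdicCompletion.map_comp_apply]
  have h2 : LinearMap.fst R M (Y →₀ R) ∘ₗ LinearMap.inl R M (Y →₀ R) = LinearMap.id := by
    ext; simp
  rw [h2, AdicCompletion.map_id]
  rfl

end Groth.Agent.Lib.Helper65.ComplSplit
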