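import Mathlib.RingTheory.Flat.FaithfullyFlat.Basic
import Mathlib.RingTheory.Flat.Equalizer
import Mathlib.RingTheory.Flat.EquationalCriterion
import Mathlib.RingTheory.Finiteness.Descent
import Mathlib.Algebra.Module.FinitePresentation

/-!
# Faithfully flat descent of finite presentation and projectivity of modules (helper65)
-/

set_option autoImplicit false

namespace Groth.Agent.Lib.Helper65.FFDescent

open TensorProduct

variable (R : Type*) [CommRing R] (S : Type*) [CommRing S] [Algebra R S]
  [Module.FaithfullyFlat R S] (M : Type*) [AddCommGroup M] [Module R M]

/-- finite presentation descends along faithfully flat ring maps -/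
theorem finitePresentation_of_tensorProduct [Module.FinitePresentation S (S ⊗[R] M)] :
    Module.FinitePresentation R M := by
  haveI : Module.Finite R M := Module.Finite.of_finite_tensorProduct_of_faithfullyFlat S
  obtain ⟨n, π, hπ⟩ := Module.Finite.exists_fin' R M
  let ψ : S ⊗[R] (Fin n → R) →ₗ[S] S ⊗[R] M := AlgebraTensorModule.lTensor S S π
  have hψ : Function.Surjective ψ := LinearMap.lTensor_surjective S hπ
  have hker : (LinearMap.ker ψ).FG := Module.FinitePresentation.fg_ker ψ hψ
  let ι : S ⊗[R] (LinearMap.ker π) →ₗ[S] S ⊗[R] (Fin n → R) :=
    AlgebraTensorModule.lTensor S S (LinearMap.ker π).subtype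
  have hι : Function.Injective ι :=
    Module.Flat.lTensor_preserves_injective_linearMap _ (Submodule.injective_subtype _)
  have hrange : LinearMap.range ι = LinearMap.ker ψ := (Module.Flat.ker_lTensor_eq S S π).symm
  haveI : Module.Finite S (LinearMap.range ι) := by
    rw [hrange]
    exact Module.Finite.iff_fg.mpr hker
  haveI : Module.Finite S (S ⊗[R] (LinearMap.ker π)) :=
    Module.Finite.equiv (LinearEquiv.ofInjective ι hι).symm
  haveI : Module.Finite R (LinearMap.ker π) :=
    Module.Finite.of_finite_tensorProduct_of_faithfullyFlat S
  exact Module.finitePresentation_of_surjective π hπ (Module.Finite.iff_fg.mp inferInstance)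

/-- finite projective descends along faithfully flat ring maps -/
theorem projective_of_tensorProduct [Module.Finite S (S ⊗[R] M)]
    [Module.Projective S (S ⊗[R] M)] : Module.Projective R M := by
  haveI : Module.FinitePresentation S (S ⊗[R] M) := Module.finitePresentation_of_projective _ _
  haveI := finitePresentation_of_tensorProduct R S M
  haveI : Module.Flat R M := Module.Flat.of_flat_tensorProduct R M S
  exact Module.Flat.projective_of_finitePresentation

end Groth.Agent.Lib.Helper65.FFDescent
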