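import Mathlib

set_option autoImplicit false

namespace Groth.Agent.Lib.Helper65.Flat0912

open Function

variable {A : Type*} [CommRing A]

/-- The "equational flatness modulo `𝔞`" property of an `A`-module `N`. -/
def HypF (𝔞 : Ideal A) (N : Type*) [AddCommGroup N] [Module A N] : Prop :=
  ∀ (r s : ℕ) (κ : Fin r → Fin s → A) (y : Fin s → N),
    (∀ i, ∑ j, κ i j • y j ∈ (𝔞 • ⊤ : Submodule A N)) →
    ∃ (k : ℕ) (c : Fin s → Fin k → A) (z : Fin k → N),
      (∀ j, y j - ∑ l, c j l • z l ∈ (𝔞 • ⊤ : Submodule A N)) ∧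
      ∀ i l, ∑ j, κ i j * c j l ∈ 𝔞

/-- matrix form of the equational criterion of flatness -/
theorem exists_matrix_factorization {S X : Type*} [CommRing S] [AddCommGroup X] [Module S X]
    [Module.Flat S X] {r s : ℕ} (κ : Fin r → Fin s → S) (y : Fin s → X)
    (h : ∀ i, ∑ j, κ i j • y j = 0) :
    ∃ (k : ℕ) (c : Fin s → Fin k → S) (z : Fin k → X),
      (∀ j, y j = ∑ l, c j l • z l) ∧ ∀ i l, ∑ j, κ i j * c j l = 0 := by
  classical
  let x : (Fin s → S) →ₗ[S] X := Fintype.linearCombination S y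
  let f : (Fin r → S) →ₗ[S] (Fin s → S) := Fintype.linearCombination S κ
  have hxf : x ∘ₗ f = 0 := by
    apply LinearMap.pi_ext'
    intro i
    ext
    simp only [LinearMap.coe_comp, LinearMap.coe_single, comp_apply, LinearMap.zero_comp,
      LinearMap.zero_apply, x, f]
    rw [Fintype.linearCombination_apply_single, one_smul, Fintype.linearCombination_apply]
    exact h i
  obtain ⟨k, a, y', hx, ha⟩ := Module.Flat.exists_factorization_of_comp_eq_zero_of_free hxf
  refine ⟨k, fun j l => a (Pi.single j 1) l, fun l => y' (Finsupp.single l 1), ?_, ?_⟩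
  · intro j
    have h1 : y j = x (Pi.single j 1) := by
      simp only [x]
      rw [Fintype.linearCombination_apply_single, one_smul]
    rw [h1, hx, LinearMap.comp_apply]
    conv_lhs => rw [← Finsupp.univ_sum_single (a (Pi.single j 1))]
    rw [map_sum]
    refine Finset.sum_congr rfl fun l _ => ?_
    rw [← Finsupp.smul_single_one, map_smul]
  · intro i l
    have h1 : a (f (Pi.single i 1)) = 0 := by
      rw [← LinearMap.comp_apply, ha, LinearMap.zero_apply]
    have h2 : f (Pi.single i 1) = ∑ j, κ i j • (Pi.single j 1 : Fin s → S) := by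
      simp only [f]
      rw [Fintype.linearCombination_apply_single, one_smul]
      ext j'
      simp [Finset.sum_apply, Pi.single_apply]
    rw [h2, map_sum] at h1
    have h3 := DFunLike.congr_fun h1 l
    simpa [Finsupp.finsetSum_apply, map_smul] using h3


/-- `HypF` from flatness of a quotient (semilinear formulation). -/
theorem hypF_of_flat {S X : Type*} [CommRing S] [AddCommGroup X] [Module S X]
    [Module.Flat S X] (𝔞 : Ideal A) (N : Type*) [AddCommGroup N] [Module A N]
    (g : A →+* S) (hg : Surjective g) (hgk : ∀ a, g a = 0 → a ∈ 𝔞)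
    (π : N →+ X) (hπ : Surjective π) (hπs : ∀ (a : A) (n : N), π (a • n) = g a • π n)
    (hπk : ∀ n, π n = 0 → n ∈ (𝔞 • ⊤ : Submodule A N))
    (hπ0 : ∀ n ∈ (𝔞 • ⊤ : Submodule A N), π n = 0) : HypF 𝔞 N := by
  intro r s κ y h
  have h0 : ∀ i, ∑ j, (g (κ i j)) • π (y j) = 0 := by
    intro i
    have := hπ0 _ (h i)
    rw [map_sum] at this
    rw [← this]
    exact Finset.sum_congr rfl fun j _ => (hπs _ _).symm
  obtain ⟨k, c', z', hy, hc⟩ := exists_matrix_factorization (fun i j => g (κ i j))
    (fun j => π (y j)) h0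
  choose c hcc using fun j l => hg (c' j l)
  choose z hzz using fun l => hπ (z' l)
  refine ⟨k, c, z, fun j => hπk _ ?_, fun i l => hgk _ ?_⟩
  · rw [map_sub, map_sum, hy j, sub_eq_zero]
    refine Finset.sum_congr rfl fun l _ => ?_
    rw [hπs, hcc, hzz]
  · rw [map_sum, ← hc i l]
    refine Finset.sum_congr rfl fun j _ => ?_
    rw [map_mul, hcc]


theorem mem_smul_top_pi_iff {R : Type*} [CommRing R] {N : Type*} [AddCommGroup N] [Module R N]
    (J : Ideal R) {k : ℕ} (w : Fin k → N) :
    w ∈ (J • ⊤ : Submodule R (Fin k → N)) ↔ ∀ j, w j ∈ (J • ⊤ : Submodule R N) := by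
  classical
  constructor
  · intro hw j
    have hle : (J • ⊤ : Submodule R (Fin k → N)) ≤
        Submodule.comap (LinearMap.proj j : (Fin k → N) →ₗ[R] N) (J • ⊤) := by
      rw [← Submodule.map_le_iff_le_comap, Submodule.map_smul'']
      exact Submodule.smul_mono le_rfl le_top
    exact hle hw
  · intro h
    have e : w = ∑ j, LinearMap.single R (fun _ : Fin k => N) j (w j) := by
      ext i
      simp [Finset.sum_apply, Pi.single_apply]
    rw [e]
    refine Submodule.sum_mem _ fun j _ => ?_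
    have : Submodule.map (LinearMap.single R (fun _ : Fin k => N) j) (J • ⊤) ≤
        (J • ⊤ : Submodule R (Fin k → N)) := by
      rw [Submodule.map_smul'']
      exact Submodule.smul_mono le_rfl le_top
    exact this (Submodule.mem_map_of_mem (h j))

theorem mem_smul_top_pi_iff' {R : Type*} [CommRing R]
    (J : Ideal R) {k : ℕ} (w : Fin k → R) :
    w ∈ (J • ⊤ : Submodule R (Fin k → R)) ↔ ∀ j, w j ∈ J := by
  rw [mem_smul_top_pi_iff]
  simp only [smul_eq_mul, Ideal.mul_top]

/-- Lemma G: Artin–Rees improvement of `HypF`. -/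
theorem lemmaG [IsNoetherianRing A] (J : Ideal A) (N : Type*) [AddCommGroup N] [Module A N]
    (hF : ∀ m, HypF (J ^ m) N) {r s : ℕ} (κ : Fin r → Fin s → A) :
    ∃ c₀ : ℕ, ∀ (m : ℕ) (y : Fin s → N),
      (∀ i, ∑ j, κ i j • y j ∈ (J ^ (m + c₀) • ⊤ : Submodule A N)) →
      ∃ (k : ℕ) (d : Fin s → Fin k → A) (z : Fin k → N),
        (∀ j, y j - ∑ l, d j l • z l ∈ (J ^ m • ⊤ : Submodule A N)) ∧
        ∀ i l, ∑ j, κ i j * d j l = 0 := by
  classical
  let φ : (Fin s → A) →ₗ[A] (Fin r → A) :=
    LinearMap.pi fun i => ∑ j, κ i j • (LinearMap.proj j : (Fin s → A) →ₗ[A] A)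
  have hφ : ∀ (q : Fin s → A) (i : Fin r), φ q i = ∑ j, κ i j * q j := by
    intro q i
    simp [φ, LinearMap.pi_apply, LinearMap.sum_apply]
  obtain ⟨c₀, hc₀⟩ := Ideal.exists_pow_inf_eq_pow_smul J (LinearMap.range φ)
  refine ⟨c₀, fun m y hy => ?_⟩
  obtain ⟨k, c, z, hz, hκc⟩ := hF (m + c₀) r s κ y hy
  have hex : ∀ l : Fin k, ∃ e : Fin s → A, (∀ j, e j ∈ J ^ m) ∧
      φ e = φ (fun j => c j l) := by
    intro l
    have h1 : φ (fun j => c j l) ∈ (J ^ (m + c₀) • ⊤ ⊓ LinearMap.range φ :
        Submodule A (Fin r → A)) := by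
      refine ⟨?_, LinearMap.mem_range_self _ _⟩
      refine (mem_smul_top_pi_iff' _ _).mpr fun i => ?_
      rw [hφ]
      exact hκc i l
    rw [hc₀ (m + c₀) (by omega), Nat.add_sub_cancel] at h1
    have h2 : φ (fun j => c j l) ∈ Submodule.map φ (J ^ m • ⊤ : Submodule A (Fin s → A)) := by
      rw [Submodule.map_smul'', Submodule.map_top]
      exact Submodule.smul_mono le_rfl inf_le_right h1
    obtain ⟨e, he, hee⟩ := h2
    exact ⟨e, (mem_smul_top_pi_iff' _ e).mp he, hee⟩
  choose e he hee using hex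
  refine ⟨k, fun j l => c j l - e l j, z, ?_, ?_⟩
  · intro j
    have h3 : y j - ∑ l, (c j l - e l j) • z l =
        (y j - ∑ l, c j l • z l) + ∑ l, e l j • z l := by
      simp only [sub_smul, Finset.sum_sub_distrib]
      abel
    rw [h3]
    refine Submodule.add_mem _ ?_ (Submodule.sum_mem _ fun l _ => ?_)
    · exact Submodule.smul_mono_left (Ideal.pow_le_pow_right (by omega)) (hz j)
    · exact Submodule.smul_mem_smul (he l j) Submodule.mem_top
  · intro i l
    have h4 := congrFun (hee l) i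
    rw [hφ, hφ] at h4
    simp only [mul_sub, Finset.sum_sub_distrib, h4, sub_self]

/-- `w`-form of Lemma G. -/
theorem lemmaG' [IsNoetherianRing A] (J : Ideal A) (N : Type*) [AddCommGroup N] [Module A N]
    (hF : ∀ m, HypF (J ^ m) N) {r s : ℕ} (κ : Fin r → Fin s → A) :
    ∃ c₀ : ℕ, ∀ (m : ℕ) (y : Fin s → N),
      (∀ i, ∑ j, κ i j • y j ∈ (J ^ (m + c₀) • ⊤ : Submodule A N)) →
      ∃ w : Fin s → N, (∀ j, w j ∈ (J ^ m • ⊤ : Submodule A N)) ∧
        ∀ i, ∑ j, κ i j • w j = ∑ j, κ i j • y j := by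
  obtain ⟨c₀, h⟩ := lemmaG J N hF κ
  refine ⟨c₀, fun m y hy => ?_⟩
  obtain ⟨k, d, z, hz, hd⟩ := h m y hy
  refine ⟨fun j => y j - ∑ l, d j l • z l, hz, fun i => ?_⟩
  simp only [smul_sub, Finset.sum_sub_distrib, Finset.smul_sum, smul_smul]
  rw [Finset.sum_comm]
  simp only [← Finset.sum_smul, hd, zero_smul, Finset.sum_const_zero, sub_zero]


/-- **Stacks 0912, elementary form**: over a Noetherian ring, a `J`-adically complete module
satisfying the equational flatness property modulo every power of `J` is flat. -/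
theorem flat_of_hypF [IsNoetherianRing A] (J : Ideal A) (N : Type*) [AddCommGroup N] [Module A N]
    [IsAdicComplete J N] (hF : ∀ m, HypF (J ^ m) N) : Module.Flat A N := by
  classical
  apply Module.Flat.of_forall_isTrivialRelation
  intro l f x hfx
  let φ : (Fin l → A) →ₗ[A] A := ∑ i, f i • (LinearMap.proj i : (Fin l → A) →ₗ[A] A)
  have hφ : ∀ q, φ q = ∑ i, f i * q i := by
    intro q
    simp [φ, LinearMap.sum_apply]
  obtain ⟨t, lam, hlam⟩ := Submodule.fg_iff_exists_fin_generating_family.mp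
    (IsNoetherian.noetherian (LinearMap.ker φ))
  have hlam0 : ∀ j, ∑ i, f i * lam j i = 0 := by
    intro j
    have : lam j ∈ LinearMap.ker φ := by
      rw [← hlam]; exact Submodule.subset_span (Set.mem_range_self j)
    rw [LinearMap.mem_ker, hφ] at this
    exact this
  have hlamgen : ∀ q : Fin l → A, (∑ i, f i * q i = 0) →
      ∃ b : Fin t → A, ∀ i, q i = ∑ j, b j * lam j i := by
    intro q hq
    have : q ∈ Submodule.span A (Set.range lam) := by
      rw [hlam, LinearMap.mem_ker, hφ]; exact hq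
    obtain ⟨b, hb⟩ := (Submodule.mem_span_range_iff_exists_fun A).mp this
    refine ⟨b, fun i => ?_⟩
    rw [← hb]
    simp [Finset.sum_apply]
  -- Step 1: density
  obtain ⟨c₁, hc₁⟩ := lemmaG J N hF (fun (_ : Fin 1) i => f i)
  have dens : ∀ m, ∃ v : Fin t → N, ∀ i, x i - ∑ j, lam j i • v j ∈
      (J ^ m • ⊤ : Submodule A N) := by
    intro m
    obtain ⟨k, d, z, hz, hd⟩ := hc₁ m x (fun _ => by rw [hfx]; exact zero_mem _)
    have hb : ∀ p : Fin k, ∃ b : Fin t → A, ∀ i, d i p = ∑ j, b j * lam j i :=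
      fun p => hlamgen (fun i => d i p) (hd 0 p)
    choose b hb using hb
    refine ⟨fun j => ∑ p, b p j • z p, fun i => ?_⟩
    have e : ∑ j, lam j i • ∑ p, b p j • z p = ∑ p, d i p • z p := by
      simp only [Finset.smul_sum, smul_smul]
      rw [Finset.sum_comm]
      refine Finset.sum_congr rfl fun p _ => ?_
      rw [← Finset.sum_smul, hb]
      congr 1
      exact Finset.sum_congr rfl fun j _ => mul_comm _ _
    rw [e]
    exact hz i
  -- Step 2: closedness
  obtain ⟨c₂, hc₂⟩ := lemmaG' J N hF (fun (i : Fin l) (j : Fin t) => lam j i)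
  choose v hv using fun m => dens (m + c₂)
  have hw : ∀ m, ∃ w : Fin t → N, (∀ j, w j ∈ (J ^ m • ⊤ : Submodule A N)) ∧
      ∀ i, ∑ j, lam j i • w j = ∑ j, lam j i • (v (m + 1) j - v m j) := by
    intro m
    apply hc₂ m (fun j => v (m + 1) j - v m j)
    intro i
    have e : ∑ j, lam j i • (v (m + 1) j - v m j) =
        (x i - ∑ j, lam j i • v m j) - (x i - ∑ j, lam j i • v (m + 1) j) := by
      simp only [smul_sub, Finset.sum_sub_distrib]
      abel
    rw [e]
    exact Submodule.sub_mem _ (hv m i)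
      (Submodule.smul_mono_left (Ideal.pow_le_pow_right (by omega)) (hv (m + 1) i))
  choose w hw1 hw2 using hw
  let u : ℕ → Fin t → N := fun m j => v 0 j + ∑ p ∈ Finset.range m, w p j
  have hu : ∀ m i, ∑ j, lam j i • u m j = ∑ j, lam j i • v m j := by
    intro m i
    induction m with
    | zero => simp [u]
    | succ m ih =>
      have h1 : ∀ j, u (m + 1) j = u m j + w m j := fun j => by
        simp only [u, Finset.sum_range_succ, add_assoc]
      simp only [h1, smul_add, Finset.sum_add_distrib, ih, hw2]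
      simp only [smul_sub, Finset.sum_sub_distrib]
      abel
  have hlim : ∀ j, ∃ L : N, ∀ m, u m j ≡ L [SMOD (J ^ m • ⊤ : Submodule A N)] := by
    intro j
    apply IsPrecomplete.prec' (I := J)
    intro m n hmn
    rw [SModEq.sub_mem]
    have h1 : u m j - u n j = - ∑ p ∈ Finset.Ico m n, w p j := by
      rw [Finset.sum_Ico_eq_sub _ hmn]
      simp only [u]
      abel
    rw [h1]
    refine Submodule.neg_mem _ (Submodule.sum_mem _ fun p hp => ?_)
    exact Submodule.smul_mono_left (Ideal.pow_le_pow_right (Finset.mem_Ico.mp hp).1) (hw1 p j)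
  choose uinf huinf using hlim
  refine ⟨t, fun i j => lam j i, uinf, ?_, ?_⟩
  · intro i
    rw [← sub_eq_zero]
    apply IsHausdorff.haus' (I := J)
    intro m
    rw [SModEq.zero]
    have h1 : x i - ∑ j, lam j i • uinf j =
        (x i - ∑ j, lam j i • v m j) + ∑ j, lam j i • (u m j - uinf j) := by
      rw [← hu m i]
      simp only [smul_sub, Finset.sum_sub_distrib]
      abel
    rw [h1]
    refine Submodule.add_mem _
      (Submodule.smul_mono_left (Ideal.pow_le_pow_right (by omega)) (hv m i))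
      (Submodule.sum_mem _ fun j _ => Submodule.smul_mem _ _ ?_)
    exact SModEq.sub_mem.mp (huinf j m)
  · intro j
    exact hlam0 j

end Groth.Agent.Lib.Helper65.Flat0912
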