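import Groth.Agent.Lib.Helper65.Gonf1

set_option autoImplicit false
universe u

namespace Groth.Agent.Lib.Helper65.Gonf

open IsLocalRing Polynomial
open scoped Classical

variable {R : Type u} [CommRing R] [IsLocalRing R] {K : Type u} [Field K]
  [Algebra (ResidueField R) K]

namespace Stage

/-- the base stage `B = R`. -/
noncomputable def base : Stage R K where
  B := R
  res := (algebraMap (ResidueField R) K).comp (residue R)
  x := fun a => if h : ∃ r : R, algebraMap (ResidueField R) K (residue R r) = a then h.choose else 0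
  isUnit_of_res_ne_zero b hb := by
    by_contra h
    apply hb
    have : residue R b = 0 := (residue_eq_zero_iff b).mpr ((mem_maximalIdeal b).mpr h)
    simp [this]
  res_algebraMap r := rfl
  res_x b := by
    have h : ∃ r : R, algebraMap (ResidueField R) K (residue R r) =
        algebraMap (ResidueField R) K (residue R b) := ⟨b, rfl⟩
    simp only [RingHom.comp_apply]
    rw [dif_pos h]
    exact h.choose_spec
  flat := inferInstance
  mem_map b hb := by
    have h1 : residue R b = 0 := by
      apply (algebraMap (ResidueField R) K).injective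
      simpa using hb
    rw [Algebra.algebraMap_self, Ideal.map_id]
    exact (residue_eq_zero_iff b).mp h1
  gen b := Gen.algebraMap (R := R) (B := R) b
  noeth _ h := h

theorem maximalIdeal_eq (s : Stage R K) :
    letI := s.isLocalRing
    maximalIdeal s.B = (maximalIdeal R).map (algebraMap R s.B) := by
  letI := s.isLocalRing
  apply le_antisymm
  · intro b hb
    apply s.mem_map
    rw [res_eq_zero_iff]
    exact (mem_maximalIdeal b).mp hb
  · rw [Ideal.map_le_iff_le_comap]
    intro r hr
    rw [Ideal.mem_comap, mem_maximalIdeal, mem_nonunits_iff, ← res_eq_zero_iff, s.res_algebraMap]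
    rw [(residue_eq_zero_iff r).mpr hr, map_zero]

end Stage

end Groth.Agent.Lib.Helper65.Gonf

namespace Groth.Agent.Lib.Helper65.Gonf

open IsLocalRing Polynomial
open scoped Classical

variable {R : Type u} [CommRing R] [IsLocalRing R] {K : Type u} [Field K]
  [Algebra (ResidueField R) K]

namespace Stage

/-- existence of a monic polynomial with irreducible reduction killing an algebraic element. -/
theorem exists_monic_irreducible (s : Stage R K) (a : K)
    (halg : ∃ p : s.B[X], p.eval₂ s.res a = 0 ∧ ∃ i, s.res (p.coeff i) ≠ 0) :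
    letI := s.isLocalRing
    ∃ f : s.B[X], f.Monic ∧ f.eval₂ s.res a = 0 ∧
      Irreducible (f.map (Ideal.Quotient.mk (maximalIdeal s.B))) := by
  letI := s.isLocalRing
  obtain ⟨p, hp0, i, hpi⟩ := halg
  let resbar : (s.B ⧸ maximalIdeal s.B) →+* K := Ideal.Quotient.lift (maximalIdeal s.B) s.res (by
    intro b hb
    rw [res_eq_zero_iff]
    exact (mem_maximalIdeal b).mp hb)
  letI : Field (s.B ⧸ maximalIdeal s.B) := Ideal.Quotient.field _
  letI : Algebra (s.B ⧸ maximalIdeal s.B) K := resbar.toAlgebra
  have hcomp : resbar.comp (Ideal.Quotient.mk (maximalIdeal s.B)) = s.res := by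
    ext b; rfl
  have hev : ∀ q : s.B[X], aeval a (q.map (Ideal.Quotient.mk (maximalIdeal s.B))) = q.eval₂ s.res a := by
    intro q
    rw [aeval_def, eval₂_map]
    show eval₂ (resbar.comp _) a q = _
    rw [hcomp]
  have hint : IsIntegral (s.B ⧸ maximalIdeal s.B) a := by
    apply IsAlgebraic.isIntegral
    refine ⟨p.map (Ideal.Quotient.mk (maximalIdeal s.B)), ?_, by rw [hev, hp0]⟩
    intro h0
    have := congrArg (fun q => q.coeff i) h0
    simp only [coeff_map, coeff_zero] at this
    apply hpi
    rw [← hcomp, RingHom.comp_apply, this, map_zero]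
  obtain ⟨f, hf1, -, hf2⟩ := lifts_and_degree_eq_and_monic
    ((mem_lifts _).mpr (map_surjective _ Ideal.Quotient.mk_surjective (minpoly (s.B ⧸ maximalIdeal s.B) a)))
    (minpoly.monic hint)
  refine ⟨f, hf2, ?_, ?_⟩
  · rw [← hev, hf1, minpoly.aeval]
  · rw [hf1]
    exact minpoly.irreducible hint

end Stage

end Groth.Agent.Lib.Helper65.Gonf

namespace Groth.Agent.Lib.Helper65.Gonf

open IsLocalRing Polynomial
open scoped Classical

variable {R : Type u} [CommRing R] [IsLocalRing R] {K : Type u} [Field K]
  [Algebra (ResidueField R) K]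

namespace Stage

theorem extend_alg (s : Stage R K) (a : K) (ha : a ∉ Set.range s.res)
    (halg : ∃ p : s.B[X], p.eval₂ s.res a = 0 ∧ ∃ i, s.res (p.coeff i) ≠ 0) :
    ∃ t : Stage R K, le s t ∧ a ∈ Set.range t.res ∧ (Module.Finite R s.B → Module.Finite R t.B) := by
  letI := s.isLocalRing
  obtain ⟨f, hfm, hfa, hfirr⟩ := s.exists_monic_irreducible a halg
  obtain ⟨hloc, hmax⟩ := adjoinRoot_isLocalRing f hfm hfirr
  let res' : AdjoinRoot f →+* K := AdjoinRoot.lift s.res a hfa
  have hres'of : ∀ b : s.B, res' (AdjoinRoot.of f b) = s.res b := fun b => AdjoinRoot.lift_of hfa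
  have hres'root : res' (AdjoinRoot.root f) = a := AdjoinRoot.lift_root hfa
  let x' : K → AdjoinRoot f := fun y =>
    if y ∈ Set.range s.res then AdjoinRoot.of f (s.x y)
    else if y = a then AdjoinRoot.root f
    else if h : ∃ b', res' b' = y then h.choose else 0
  have hx'1 : ∀ y ∈ Set.range s.res, x' y = AdjoinRoot.of f (s.x y) := fun y hy => by
    simp only [x', if_pos hy]
  have hx'a : x' a = AdjoinRoot.root f := by
    simp only [x', if_neg ha, if_true]
  have hker : ∀ b' : AdjoinRoot f, res' b' ≠ 0 → IsUnit b' := by
    intro b' hb'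
    by_contra hu
    apply hb'
    have hmem : b' ∈ maximalIdeal (AdjoinRoot f) := (mem_maximalIdeal b').mpr hu
    rw [hmax] at hmem
    have hle : (maximalIdeal s.B).map (AdjoinRoot.of f) ≤ RingHom.ker res' := by
      rw [Ideal.map_le_iff_le_comap]
      intro b hb
      rw [Ideal.mem_comap, RingHom.mem_ker, hres'of, res_eq_zero_iff]
      exact (mem_maximalIdeal b).mp hb
    exact hle hmem
  have halgmap : ∀ r : R, algebraMap R (AdjoinRoot f) r = AdjoinRoot.of f (algebraMap R s.B r) := by
    intro r
    rfl
  haveI : Module.Free s.B (AdjoinRoot f) := hfm.free_adjoinRoot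
  haveI := s.flat
  have hflat : Module.Flat R (AdjoinRoot f) := Module.Flat.trans R s.B (AdjoinRoot f)
  let φ : s.B →ₐ[R] AdjoinRoot f := IsScalarTower.toAlgHom R s.B (AdjoinRoot f)
  have hφ : ∀ b, φ b = AdjoinRoot.of f b := fun b => rfl
  let t : Stage R K :=
    { B := AdjoinRoot f
      res := res'
      x := x'
      isUnit_of_res_ne_zero := hker
      res_algebraMap := fun r => by rw [halgmap, hres'of, s.res_algebraMap]
      res_x := fun b' => by
        by_cases h1 : res' b' ∈ Set.range s.res
        · rw [hx'1 _ h1, hres'of]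
          obtain ⟨b, hb⟩ := h1
          rw [← hb, s.res_x]
        · by_cases h2 : res' b' = a
          · rw [h2, hx'a, hres'root]
          · have h3 : ∃ b'', res' b'' = res' b' := ⟨b', rfl⟩
            simp only [x', if_neg h1, if_neg h2, dif_pos h3]
            exact h3.choose_spec
      flat := hflat
      mem_map := fun b' hb' => by
        have hnu : ¬ IsUnit b' := fun hu => by
          have := hu.map res'
          rw [hb'] at this
          exact not_isUnit_zero this
        have hmem : b' ∈ maximalIdeal (AdjoinRoot f) := (mem_maximalIdeal b').mpr hnu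
        rw [hmax, s.maximalIdeal_eq, Ideal.map_map] at hmem
        exact hmem
      gen := fun b' => by
        have hS : ∀ b : s.B, Gen R (x' '' Set.range res') (AdjoinRoot.of f b) := by
          intro b
          refine Gen.map φ ?_ (s.gen b)
          rintro _ ⟨y, hy, rfl⟩
          rw [hφ, ← hx'1 y hy]
          refine Gen.mem ⟨y, ?_, rfl⟩
          obtain ⟨b0, rfl⟩ := hy
          exact ⟨AdjoinRoot.of f b0, hres'of b0⟩
        have hroot : Gen R (x' '' Set.range res') (AdjoinRoot.root f) := by
          rw [← hx'a]
          exact Gen.mem ⟨a, ⟨AdjoinRoot.root f, hres'root⟩, rfl⟩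
        induction b' using AdjoinRoot.induction_on with
        | ih p =>
          induction p using Polynomial.induction_on with
          | C c => rw [AdjoinRoot.mk_C]; exact hS c
          | add p q hp hq => rw [map_add]; exact Gen.add hp hq
          | monomial n c h =>
            rw [pow_succ, ← mul_assoc, map_mul, AdjoinRoot.mk_X]
            exact Gen.mul h hroot
      noeth := fun hN hR => by
        haveI := s.noeth hN hR
        infer_instance }
  refine ⟨t, ⟨fun h => ?_, φ, ?_, fun b => hres'of b, fun y hy => (hx'1 y hy).symm⟩,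
    ⟨AdjoinRoot.root f, hres'root⟩, fun hfin => ?_⟩
  · exfalso
    apply ha
    rw [h]
    exact ⟨AdjoinRoot.root f, hres'root⟩
  · show (algebraMap s.B (AdjoinRoot f)).Flat
    rw [RingHom.flat_algebraMap_iff]
    infer_instance
  · haveI := hfin
    haveI : Module.Finite s.B (AdjoinRoot f) := hfm.finite_adjoinRoot
    exact Module.Finite.trans s.B (AdjoinRoot f)

end Stage

end Groth.Agent.Lib.Helper65.Gonf

namespace Groth.Agent.Lib.Helper65.Gonf

open IsLocalRing Polynomial
open scoped Classical

variable {R : Type u} [CommRing R] [IsLocalRing R] {K : Type u} [Field K]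
  [Algebra (ResidueField R) K]

namespace Stage

theorem extend_trans (s : Stage R K) (a : K) (ha : a ∉ Set.range s.res)
    (htr : ∀ p : s.B[X], p.eval₂ s.res a = 0 → ∀ i, s.res (p.coeff i) = 0) :
    ∃ t : Stage R K, le s t ∧ a ∈ Set.range t.res := by
  letI := s.isLocalRing
  let ev : s.B[X] →+* K := Polynomial.eval₂RingHom s.res a
  let 𝔓 : Ideal s.B[X] := RingHom.ker ev
  haveI h𝔓 : 𝔓.IsPrime := RingHom.ker_isPrime ev
  let B' := Localization.AtPrime 𝔓
  have hunit : ∀ y : 𝔓.primeCompl, IsUnit (ev y) := by
    intro y
    rw [isUnit_iff_ne_zero]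
    exact fun h => y.2 h
  let res' : B' →+* K := IsLocalization.lift (M := 𝔓.primeCompl) hunit
  have hres'alg : ∀ p : s.B[X], res' (algebraMap s.B[X] B' p) = ev p :=
    fun p => IsLocalization.lift_eq hunit p
  have hres'B : ∀ b : s.B, res' (algebraMap s.B B' b) = s.res b := by
    intro b
    rw [IsScalarTower.algebraMap_apply s.B s.B[X] B', hres'alg]
    simp [ev]
  have hres'X : res' (algebraMap s.B[X] B' X) = a := by
    rw [hres'alg]
    simp [ev]
  let x' : K → B' := fun y =>
    if y ∈ Set.range s.res then algebraMap s.B B' (s.x y)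
    else if y = a then algebraMap s.B[X] B' X
    else if h : ∃ b', res' b' = y then h.choose else 0
  have hx'1 : ∀ y ∈ Set.range s.res, x' y = algebraMap s.B B' (s.x y) := fun y hy => by
    simp only [x', if_pos hy]
  have hx'a : x' a = algebraMap s.B[X] B' X := by
    simp only [x', if_neg ha, if_true]
  have hker : ∀ b' : B', res' b' ≠ 0 → IsUnit b' := by
    intro b' hb'
    obtain ⟨p, q, rfl⟩ := IsLocalization.exists_mk'_eq 𝔓.primeCompl b'
    have h1 : res' (IsLocalization.mk' B' p q) * ev q = ev p := by
      rw [← hres'alg, ← hres'alg, ← map_mul, IsLocalization.mk'_spec]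
    have h2 : ev p ≠ 0 := by
      rw [← h1]
      exact mul_ne_zero hb' (fun h => q.2 h)
    have h3 : IsUnit (algebraMap s.B[X] B' p) :=
      IsLocalization.map_units B' (⟨p, h2⟩ : 𝔓.primeCompl)
    have h4 : IsLocalization.mk' B' p q * algebraMap s.B[X] B' q = algebraMap s.B[X] B' p :=
      IsLocalization.mk'_spec _ _ _
    exact isUnit_of_mul_isUnit_left (h4 ▸ h3)
  haveI := s.flat
  haveI : Module.Flat R s.B[X] := Module.Flat.trans R s.B s.B[X]
  have hflat : Module.Flat R B' := Module.Flat.trans R s.B[X] B'
  have hflatB : Module.Flat s.B B' := Module.Flat.trans s.B s.B[X] B'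
  let φ : s.B →ₐ[R] B' := IsScalarTower.toAlgHom R s.B B'
  have hφ : ∀ b, φ b = algebraMap s.B B' b := fun b => rfl
  let t : Stage R K :=
    { B := B'
      res := res'
      x := x'
      isUnit_of_res_ne_zero := hker
      res_algebraMap := fun r => by
        rw [IsScalarTower.algebraMap_apply R s.B B', hres'B, s.res_algebraMap]
      res_x := fun b' => by
        by_cases h1 : res' b' ∈ Set.range s.res
        · rw [hx'1 _ h1, hres'B]
          obtain ⟨b, hb⟩ := h1
          rw [← hb, s.res_x]
        · by_cases h2 : res' b' = a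
          · rw [h2, hx'a, hres'X]
          · have h3 : ∃ b'', res' b'' = res' b' := ⟨b', rfl⟩
            simp only [x', if_neg h1, if_neg h2, dif_pos h3]
            exact h3.choose_spec
      flat := hflat
      mem_map := fun b' hb' => by
        obtain ⟨p, q, rfl⟩ := IsLocalization.exists_mk'_eq 𝔓.primeCompl b'
        have h1 : ev p = 0 := by
          have : res' (IsLocalization.mk' B' p q) * ev q = ev p := by
            rw [← hres'alg, ← hres'alg, ← map_mul, IsLocalization.mk'_spec]
          rw [← this, hb', zero_mul]
        have h2 : p ∈ ((maximalIdeal R).map (algebraMap R s.B)).map (C : s.B →+* s.B[X]) := by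
          rw [Ideal.mem_map_C_iff]
          intro n
          exact s.mem_map _ (htr p h1 n)
        have h3 : algebraMap s.B[X] B' p ∈ (maximalIdeal R).map (algebraMap R B') := by
          have := Ideal.mem_map_of_mem (algebraMap s.B[X] B') h2
          rwa [Ideal.map_map, Ideal.map_map] at this
        have h4 : IsLocalization.mk' B' p q =
            algebraMap s.B[X] B' p * IsLocalization.mk' B' 1 q :=
          IsLocalization.mk'_eq_mul_mk'_one p q
        rw [h4]
        exact Ideal.mul_mem_right _ _ h3
      gen := fun b' => by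
        have hS : ∀ b : s.B, Gen R (x' '' Set.range res') (algebraMap s.B B' b) := by
          intro b
          refine Gen.map φ ?_ (s.gen b)
          rintro _ ⟨y, hy, rfl⟩
          rw [hφ, ← hx'1 y hy]
          refine Gen.mem ⟨y, ?_, rfl⟩
          obtain ⟨b0, rfl⟩ := hy
          exact ⟨algebraMap s.B B' b0, hres'B b0⟩
        have hX : Gen R (x' '' Set.range res') (algebraMap s.B[X] B' X) := by
          rw [← hx'a]
          exact Gen.mem ⟨a, ⟨algebraMap s.B[X] B' X, hres'X⟩, rfl⟩
        have hpoly : ∀ p : s.B[X], Gen R (x' '' Set.range res') (algebraMap s.B[X] B' p) := by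
          intro p
          induction p using Polynomial.induction_on with
          | C c =>
            rw [Polynomial.C_eq_algebraMap, ← IsScalarTower.algebraMap_apply s.B s.B[X] B']
            exact hS c
          | add p q hp hq => rw [map_add]; exact Gen.add hp hq
          | monomial n c h =>
            rw [pow_succ, ← mul_assoc, map_mul]
            exact Gen.mul h hX
        obtain ⟨p, q, rfl⟩ := IsLocalization.exists_mk'_eq 𝔓.primeCompl b'
        have h4 : IsLocalization.mk' B' p q =
            algebraMap s.B[X] B' p * IsLocalization.mk' B' 1 q :=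
          IsLocalization.mk'_eq_mul_mk'_one p q
        rw [h4]
        refine Gen.mul (hpoly p) (Gen.inv (hpoly q) ?_)
        rw [mul_comm, IsLocalization.mk'_spec, map_one]
      noeth := fun hN hR => by
        haveI := s.noeth hN hR
        exact IsLocalization.isNoetherianRing 𝔓.primeCompl B' inferInstance }
  refine ⟨t, ⟨fun h => ?_, φ, ?_, fun b => hres'B b, fun y hy => (hx'1 y hy).symm⟩,
    ⟨algebraMap s.B[X] B' X, hres'X⟩⟩
  · exfalso
    apply ha
    rw [h]
    exact ⟨algebraMap s.B[X] B' X, hres'X⟩
  · show (algebraMap s.B B').Flat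
    rw [RingHom.flat_algebraMap_iff]
    exact hflatB

/-- one-step extension. -/
theorem exists_extension (s : Stage R K) (a : K) (ha : a ∉ Set.range s.res) :
    ∃ t : Stage R K, le s t ∧ a ∈ Set.range t.res := by
  by_cases h : ∀ p : s.B[X], p.eval₂ s.res a = 0 → ∀ i, s.res (p.coeff i) = 0
  · exact s.extend_trans a ha h
  · push Not at h
    obtain ⟨p, hp, i, hi⟩ := h
    obtain ⟨t, h1, h2, -⟩ := s.extend_alg a ha ⟨p, hp, i, hi⟩
    exact ⟨t, h1, h2⟩

end Stage

end Groth.Agent.Lib.Helper65.Gonf
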