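import Groth.Agent.Lib.Helper65.Gonf3

set_option autoImplicit false
universe u

namespace Groth.Agent.Lib.Helper65.Gonf

open IsLocalRing Polynomial
open scoped Classical

variable {R : Type u} [CommRing R] [IsLocalRing R] {K : Type u} [Field K]
  [Algebra (ResidueField R) K]

namespace Stage

theorem isLocalHom_of_le {s t : Stage R K} (φ : s.B →ₐ[R] t.B) (h : ∀ b, t.res (φ b) = s.res b) :
    IsLocalHom φ.toRingHom := by
  constructor
  intro b hb
  by_contra hu
  have h1 : s.res b = 0 := (s.res_eq_zero_iff b).mpr hu
  have h2 : t.res (φ b) = 0 := by rw [h, h1]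
  exact (t.res_eq_zero_iff (φ b)).mp h2 hb

set_option maxHeartbeats 1600000 in
/-- chains of stages without a greatest element have an upper bound (the colimit). -/
theorem exists_upper_bound_of_no_max (c : Set (Stage R K)) (hc : IsChain le c) (hne : c.Nonempty)
    (hnomax : ∀ m ∈ c, ∃ s ∈ c, ¬ le s m) : ∃ ub : Stage R K, ∀ s ∈ c, le s ub := by
  -- index set
  let ι := {T : Set K // ∃ s ∈ c, Set.range s.res = T}
  let st : ι → Stage R K := fun i => i.2.choose
  have hst_mem : ∀ i, st i ∈ c := fun i => i.2.choose_spec.1
  have hst_range : ∀ i : ι, Set.range (st i).res = i.1 := fun i => i.2.choose_spec.2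
  have hcmp : ∀ s ∈ c, ∀ t ∈ c, le s t ∨ le t s := by
    intro s hs t ht
    by_cases h : s = t
    · subst h; exact Or.inl (le_refl s)
    · exact hc hs ht h
  have F1 : ∀ s (hs : s ∈ c), s = st ⟨Set.range s.res, s, hs, rfl⟩ := by
    intro s hs
    have hr := hst_range ⟨Set.range s.res, s, hs, rfl⟩
    rcases hcmp s hs _ (hst_mem ⟨Set.range s.res, s, hs, rfl⟩) with h | h
    · exact h.1 hr.symm
    · exact (h.1 hr).symm
  have F2 : ∀ i j : ι, i ≤ j → le (st i) (st j) := by
    intro i j hij
    rcases hcmp _ (hst_mem i) _ (hst_mem j) with h | h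
    · exact h
    · have h1 := range_subset h
      rw [hst_range, hst_range] at h1
      have : i = j := Subtype.ext (Set.Subset.antisymm hij h1)
      subst this
      exact le_refl _
  haveI : Nonempty ι := by
    obtain ⟨s, hs⟩ := hne
    exact ⟨⟨Set.range s.res, s, hs, rfl⟩⟩
  haveI : IsDirected ι (· ≤ ·) := by
    constructor
    intro i j
    rcases hcmp _ (hst_mem i) _ (hst_mem j) with h | h
    · have h1 := range_subset h
      rw [hst_range, hst_range] at h1
      exact ⟨j, h1, le_rfl⟩
    · have h1 := range_subset h
      rw [hst_range, hst_range] at h1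
      exact ⟨i, le_rfl, h1⟩
  -- transition maps
  let tr : ∀ i j : ι, i ≤ j → ((st i).B →ₐ[R] (st j).B) := fun i j h => (F2 i j h).2.choose
  have tr_flat : ∀ i j h, (tr i j h).toRingHom.Flat := fun i j h => (F2 i j h).2.choose_spec.1
  have tr_res : ∀ i j h b, (st j).res (tr i j h b) = (st i).res b :=
    fun i j h => (F2 i j h).2.choose_spec.2.1
  have tr_x : ∀ i j h, ∀ a ∈ Set.range (st i).res, tr i j h ((st i).x a) = (st j).x a :=
    fun i j h => (F2 i j h).2.choose_spec.2.2
  let G : ι → Type u := fun i => (st i).B
  let f : ∀ i j, i ≤ j → G i →+* G j := fun i j h => (tr i j h).toRingHom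
  haveI : DirectedSystem G fun i j h => f i j h := by
    constructor
    · intro i b
      have : tr i i le_rfl = AlgHom.id R _ :=
        hom_unique _ _ (tr_x i i le_rfl) (fun a _ => rfl)
      show tr i i le_rfl b = b
      rw [this]; rfl
    · intro k j i hij hjk b
      have : (tr j k hjk).comp (tr i j hij) = tr i k (hij.trans hjk) := by
        refine hom_unique _ _ (fun a ha => ?_) (tr_x i k (hij.trans hjk))
        show tr j k hjk (tr i j hij ((st i).x a)) = _
        rw [tr_x i j hij a ha]
        apply tr_x j k hjk
        exact range_subset (F2 i j hij) ha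
      show tr j k hjk (tr i j hij b) = tr i k (hij.trans hjk) b
      rw [← this]; rfl
  -- the colimit
  let Bc := Ring.DirectLimit G fun i j h => f i j h
  let of : ∀ i, G i →+* Bc := fun i => Ring.DirectLimit.of G (fun i j h => f i j h) i
  have of_f : ∀ i j (h : i ≤ j) (b : G i), of j (tr i j h b) = of i b := fun i j h b =>
    Ring.DirectLimit.of_f (G := G) (f := fun i j h => f i j h) h b
  have exists_of : ∀ z : Bc, ∃ i b, of i b = z := fun z => Ring.DirectLimit.exists_of z
  let i₀ : ι := Classical.arbitrary ι
  letI algc : Algebra R Bc := ((of i₀).comp (algebraMap R (G i₀))).toAlgebra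
  have of_alg : ∀ i (r : R), of i (algebraMap R (G i) r) = algebraMap R Bc r := by
    intro i r
    obtain ⟨k, hik, hi₀k⟩ := exists_ge_ge i i₀
    show _ = of i₀ (algebraMap R (G i₀) r)
    rw [← of_f i k hik, ← of_f i₀ k hi₀k, AlgHom.commutes, AlgHom.commutes]
  let ofₐ : ∀ i, G i →ₐ[R] Bc := fun i => { of i with commutes' := of_alg i }
  let resc : Bc →+* K := Ring.DirectLimit.lift G (fun i j h => f i j h) K (fun i => (st i).res)
    (fun i j h b => tr_res i j h b)
  have resc_of : ∀ i b, resc (of i b) = (st i).res b := fun i b =>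
    Ring.DirectLimit.lift_of (G := G) (f := fun i j h => f i j h) K _ _ i b
  let xc : K → Bc := fun a => if h : ∃ i : ι, a ∈ i.1 then of h.choose ((st h.choose).x a) else 0
  have hxc : ∀ (i : ι) a, a ∈ i.1 → xc a = of i ((st i).x a) := by
    intro i a hai
    have h : ∃ i : ι, a ∈ i.1 := ⟨i, hai⟩
    simp only [xc, dif_pos h]
    have haj := h.choose_spec
    obtain ⟨k, hik, hjk⟩ := exists_ge_ge i h.choose
    rw [← of_f i k hik, ← of_f h.choose k hjk, tr_x i k hik a (by rw [hst_range]; exact hai),
      tr_x h.choose k hjk a (by rw [hst_range]; exact haj)]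
  have hunit : ∀ z : Bc, resc z ≠ 0 → IsUnit z := by
    intro z hz
    obtain ⟨i, b, rfl⟩ := exists_of z
    rw [resc_of] at hz
    exact ((st i).isUnit_of_res_ne_zero b hz).map (of i)
  have hrange : ∀ i : ι, i.1 ⊆ Set.range resc := by
    intro i a ha
    rw [← hst_range i] at ha
    obtain ⟨b, rfl⟩ := ha
    exact ⟨of i b, resc_of i b⟩
  have hflatR : Module.Flat R Bc := by
    have := flat_of_comp G f (A := R) i₀ (fun j _ => algebraMap R (G j))
      (fun j k _ hjk r => (tr j k hjk).commutes r)
      (fun j _ => by
        rw [RingHom.flat_algebraMap_iff]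
        exact (st j).flat)
    exact this
  have hflat_of : ∀ i, (ofₐ i).toRingHom.Flat := by
    intro i
    have := flat_of_comp G f (A := G i) i (fun j hj => f i j hj)
      (fun j k hj hjk r => DirectedSystem.map_map (f := fun i j h => f i j h) hj hjk r)
      (fun j hj => tr_flat i j hj)
    have e : (Ring.DirectLimit.of G (fun i j h => f i j h) i).comp (f i i le_rfl) = of i := by
      ext b
      exact of_f i i le_rfl b
    rw [e] at this
    exact this
  let ub : Stage R K :=
    { B := Bc
      res := resc
      x := xc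
      isUnit_of_res_ne_zero := hunit
      res_algebraMap := fun r => by
        rw [← of_alg i₀ r, resc_of, (st i₀).res_algebraMap]
      res_x := fun z => by
        obtain ⟨i, b, rfl⟩ := exists_of z
        rw [resc_of]
        have hmem : (st i).res b ∈ i.1 := by rw [← hst_range i]; exact ⟨b, rfl⟩
        rw [hxc i _ hmem, resc_of, (st i).res_x]
      flat := hflatR
      mem_map := fun z hz => by
        obtain ⟨i, b, rfl⟩ := exists_of z
        rw [resc_of] at hz
        have h1 := (st i).mem_map b hz
        have h2 := Ideal.mem_map_of_mem (of i) h1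
        rw [Ideal.map_map] at h2
        have e : (of i).comp (algebraMap R (G i)) = algebraMap R Bc := RingHom.ext (of_alg i)
        rw [e] at h2
        exact h2
      gen := fun z => by
        obtain ⟨i, b, rfl⟩ := exists_of z
        refine Gen.map (ofₐ i) ?_ ((st i).gen b)
        rintro _ ⟨y, hy, rfl⟩
        have hyi : y ∈ i.1 := by rw [← hst_range i]; exact hy
        refine Gen.mem ⟨y, hrange i hyi, ?_⟩
        exact hxc i y hyi
      noeth := fun hN hR => by
        haveI : ∀ i, IsLocalRing (G i) := fun i => (st i).isLocalRing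
        haveI : ∀ i, IsNoetherianRing (G i) := fun i => (st i).noeth hN hR
        refine hN G f (fun i j h => isLocalHom_of_le (tr i j h) (tr_res i j h)) ?_
          (fun i j h => tr_flat i j h)
        intro i j h
        have e1 := (st i).maximalIdeal_eq
        have e2 := (st j).maximalIdeal_eq
        rw [e1, e2, Ideal.map_map]
        congr 1
        exact RingHom.ext (tr i j h).commutes }
  refine ⟨ub, fun s hs => ?_⟩
  rw [F1 s hs]
  set i : ι := ⟨Set.range s.res, s, hs, rfl⟩ with hi
  refine ⟨fun heq => ?_, ofₐ i, hflat_of i, resc_of i, fun a ha => ?_⟩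
  · exfalso
    obtain ⟨s', hs', hnot⟩ := hnomax _ (hst_mem i)
    rw [F1 s' hs'] at hnot
    set j : ι := ⟨Set.range s'.res, s', hs', rfl⟩ with hj
    rcases hcmp _ (hst_mem i) _ (hst_mem j) with h | h
    · have h1 : Set.range (st j).res ⊆ Set.range (st i).res := by
        rw [heq, hst_range j]
        exact hrange j
      have h2 := h.1 (Set.Subset.antisymm (range_subset h) h1)
      rw [h2] at hnot
      exact hnot (le_refl _)
    · exact hnot h
  · have hai : a ∈ i.1 := by rw [← hst_range i]; exact ha
    exact (hxc i a hai).symm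

end Stage

end Groth.Agent.Lib.Helper65.Gonf
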