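import Mathlib

namespace Groth.Agent.Lib.Helper65.JacCot

open MvPolynomial

variable {k : Type*} [Field k] {n : ℕ} (a : Fin n → k)

/-- differential at `a` -/
noncomputable def D : MvPolynomial (Fin n) k →ₗ[k] (Fin n → k) where
  toFun p j := eval a (pderiv j p)
  map_add' p q := by ext j; simp
  map_smul' c p := by ext j; simp [MvPolynomial.smul_eval]

@[simp] theorem D_apply (p : MvPolynomial (Fin n) k) (j : Fin n) : D a p j = eval a (pderiv j p) := rfl

/-- linear polynomial with prescribed differential -/
noncomputable def ell : (Fin n → k) →ₗ[k] MvPolynomial (Fin n) k where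
  toFun c := ∑ j, C (c j) * (X j - C (a j))
  map_add' c d := by simp [add_mul, Finset.sum_add_distrib]
  map_smul' c d := by simp [Finset.smul_sum, MvPolynomial.smul_eq_C_mul, mul_assoc]

theorem ell_apply (c : Fin n → k) : ell a c = ∑ j, C (c j) * (X j - C (a j)) := rfl

/-- the ideal of the point -/
noncomputable def N : Ideal (MvPolynomial (Fin n) k) :=
  Ideal.span (Set.range fun j : Fin n => (X j - C (a j) : MvPolynomial (Fin n) k))

theorem X_sub_mem_N (j : Fin n) : (X j - C (a j) : MvPolynomial (Fin n) k) ∈ N a :=
  Ideal.subset_span ⟨j, rfl⟩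

theorem ell_mem_N (c : Fin n → k) : ell a c ∈ N a := by
  rw [ell_apply]
  exact Ideal.sum_mem _ fun j _ => Ideal.mul_mem_left _ _ (X_sub_mem_N a j)

theorem eval_of_mem_N {p : MvPolynomial (Fin n) k} (hp : p ∈ N a) : eval a p = 0 := by
  have : N a ≤ RingHom.ker (eval a) := by
    rw [N, Ideal.span_le]
    rintro _ ⟨j, rfl⟩
    simp [RingHom.mem_ker]
  exact RingHom.mem_ker.mp (this hp)

theorem D_ell (c : Fin n → k) : D a (ell a c) = c := by
  ext j
  simp only [D_apply, ell_apply, map_sum, Derivation.leibniz, pderiv_C, map_sub, pderiv_X]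
  simp only [Pi.single_apply, smul_zero, sub_zero, add_zero, smul_eq_mul, mul_ite, mul_one,
    mul_zero]
  rw [Finset.sum_eq_single j]
  · simp
  · intro b _ hb; simp [hb]
  · simp

theorem D_mul (p q : MvPolynomial (Fin n) k) :
    D a (p * q) = eval a p • D a q + eval a q • D a p := by
  ext j
  simp [Derivation.leibniz]

theorem D_of_mem_sq {p : MvPolynomial (Fin n) k} (hp : p ∈ N a ^ 2) : D a p = 0 := by
  rw [pow_two] at hp
  refine Submodule.mul_induction_on hp ?_ ?_
  · intro x hx y hy
    rw [D_mul, eval_of_mem_N a hx, eval_of_mem_N a hy]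
    simp
  · intro x y hx hy
    rw [map_add, hx, hy, add_zero]

/-- first order Taylor expansion -/
theorem taylor (p : MvPolynomial (Fin n) k) : p - C (eval a p) - ell a (D a p) ∈ N a ^ 2 := by
  induction p using MvPolynomial.induction_on with
  | C c =>
    have : D a (C c) = 0 := by ext j; simp
    simp [this]
  | add p q hp hq =>
    have : p + q - C (eval a (p + q)) - ell a (D a (p + q)) =
        (p - C (eval a p) - ell a (D a p)) + (q - C (eval a q) - ell a (D a q)) := by
      simp only [map_add]
      ring
    rw [this]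
    exact Ideal.add_mem _ hp hq
  | mul_X p i hp =>
    have hD : D a (p * X i) = eval a p • D a (X i) + a i • D a p := by
      rw [D_mul]; simp
    have hDX : ell a (D a (X i : MvPolynomial (Fin n) k)) = X i - C (a i) := by
      rw [ell_apply]
      simp [Pi.single_apply, Finset.sum_ite_eq]
    have : p * X i - C (eval a (p * X i)) - ell a (D a (p * X i)) =
        (p - C (eval a p) - ell a (D a p)) * X i
          + ell a (D a p) * (X i - C (a i)) := by
      rw [hD, map_add, map_smul, map_smul, hDX]
      simp only [map_mul, eval_X, MvPolynomial.smul_eq_C_mul]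
      ring
    rw [this]
    refine Ideal.add_mem _ (Ideal.mul_mem_right _ _ hp) ?_
    rw [pow_two]
    exact Ideal.mul_mem_mul (ell_mem_N a _) (X_sub_mem_N a i)

theorem ker_eval_eq_N : RingHom.ker (eval a) = N a := by
  apply le_antisymm
  · intro p hp
    have h := taylor a p
    rw [RingHom.mem_ker.mp hp, map_zero, sub_zero] at h
    have h2 : p = (p - ell a (D a p)) + ell a (D a p) := by ring
    rw [h2]
    exact Ideal.add_mem _ (Ideal.pow_le_self two_ne_zero h) (ell_mem_N a _)
  · intro p hp
    exact RingHom.mem_ker.mpr (eval_of_mem_N a hp)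

open IsLocalRing

/-- abstract dimension count for the cotangent space of a local `k`-algebra with residue field `k`,
whose maximal ideal is generated by the images of `n` elements `ψ (ℓ e_j)`. -/
theorem finrank_cotangent_add {k P L : Type*} [Field k] [CommRing P] [Algebra k P] [CommRing L]
    [Algebra k L] [IsLocalRing L] [IsNoetherianRing L] (ψ : P →ₐ[k] L) {n : ℕ}
    (ℓ : (Fin n → k) →ₗ[k] P)
    (hgen : maximalIdeal L = Ideal.span (Set.range fun j : Fin n => ψ (ℓ (Pi.single j 1))))
    (hres : ∀ l : L, ∃ c : k, l - algebraMap k L c ∈ maximalIdeal L)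
    (W : Submodule k (Fin n → k))
    (hW : ∀ c, ψ (ℓ c) ∈ maximalIdeal L ^ 2 ↔ c ∈ W) :
    Module.finrank (ResidueField L) (CotangentSpace L) + Module.finrank k W = n := by
  classical
  have hℓm : ∀ c, ψ (ℓ c) ∈ maximalIdeal L := by
    intro c
    have : c = ∑ j, c j • (Pi.single j (1 : k) : Fin n → k) := by
      ext i
      simp [Pi.single_apply]
    rw [this, map_sum, map_sum]
    refine Ideal.sum_mem _ fun j _ => ?_
    rw [map_smul, map_smul, Algebra.smul_def]
    refine Ideal.mul_mem_left _ _ ?_
    rw [hgen]
    exact Ideal.subset_span ⟨j, rfl⟩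
  let Φ : (Fin n → k) →ₗ[k] CotangentSpace L :=
    { toFun := fun c => (maximalIdeal L).toCotangent ⟨ψ (ℓ c), hℓm c⟩
      map_add' := fun c d => by
        rw [← map_add]
        congr 1
        apply Subtype.ext
        simp
      map_smul' := fun c d => by
        have e1 : ∀ v : CotangentSpace L, c • v = (algebraMap k L c) • v :=
          fun v => (algebraMap_smul L c v).symm
        rw [RingHom.id_apply, e1, ← map_smul]
        congr 1
        apply Subtype.ext
        show ψ (ℓ (c • d)) = algebraMap k L c * ψ (ℓ d)
        rw [map_smul, map_smul, Algebra.smul_def] }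
  have hΦ : ∀ c, Φ c = (maximalIdeal L).toCotangent ⟨ψ (ℓ c), hℓm c⟩ := fun c => rfl
  have hΦsurj : Function.Surjective Φ := by
    intro v
    obtain ⟨⟨y, hy⟩, rfl⟩ := Ideal.toCotangent_surjective _ v
    have hy' := hy
    rw [hgen] at hy'
    obtain ⟨l, hl⟩ := (Ideal.mem_span_range_iff_exists_fun).mp hy'
    choose c hc using fun j => hres (l j)
    refine ⟨c, ?_⟩
    rw [hΦ, Ideal.toCotangent_eq]
    show ψ (ℓ c) - y ∈ _
    have hcs : c = ∑ j, c j • (Pi.single j (1 : k) : Fin n → k) := by
      ext i
      simp [Pi.single_apply]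
    have e : ψ (ℓ c) - y = ∑ j, (algebraMap k L (c j) - l j) * ψ (ℓ (Pi.single j 1)) := by
      rw [← hl]
      conv_lhs => rw [hcs, map_sum, map_sum]
      simp only [map_smul]
      simp only [sub_mul, Finset.sum_sub_distrib, Algebra.smul_def]
    rw [e]
    refine Ideal.sum_mem _ fun j _ => ?_
    rw [pow_two]
    refine Ideal.mul_mem_mul ?_ (hℓm _)
    rw [← neg_sub]
    exact neg_mem (hc j)
  have hker : LinearMap.ker Φ = W := by
    ext c
    rw [LinearMap.mem_ker, hΦ, Ideal.toCotangent_eq_zero]
    exact hW c
  -- dimension count over k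
  have h1 := LinearMap.finrank_range_add_finrank_ker Φ
  rw [LinearMap.range_eq_top.mpr hΦsurj, finrank_top, hker, Module.finrank_fintype_fun_eq_card,
    Fintype.card_fin] at h1
  -- compare finrank over k and over the residue field
  have hbij : Function.Bijective (algebraMap k (ResidueField L)) := by
    refine ⟨(algebraMap k (ResidueField L)).injective, ?_⟩
    intro x
    obtain ⟨l, rfl⟩ := residue_surjective x
    obtain ⟨c, hc⟩ := hres l
    refine ⟨c, ?_⟩
    have := (residue_eq_zero_iff _).mpr hc
    rw [map_sub, sub_eq_zero] at this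
    rw [this]
    rfl
  haveI : IsScalarTower k L (ResidueField L) := IsScalarTower.of_algebraMap_eq (fun x => rfl)
  haveI : IsScalarTower k (ResidueField L) (CotangentSpace L) := by
    refine ⟨fun c x v => ?_⟩
    obtain ⟨l, rfl⟩ := residue_surjective x
    have e1 : c • residue L l = residue L (c • l) := by
      rw [Algebra.smul_def, Algebra.smul_def, map_mul]; rfl
    rw [e1]
    show (c • l) • v = c • (l • v)
    rw [smul_assoc]
  have h2 : Module.finrank k (ResidueField L) = 1 := by
    rw [← (LinearEquiv.ofBijective (Algebra.linearMap k (ResidueField L)) hbij).finrank_eq,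
      Module.finrank_self]
  have h3 := Module.finrank_mul_finrank k (ResidueField L) (CotangentSpace L)
  rw [h2, one_mul] at h3
  rw [h3]
  exact h1


end Groth.Agent.Lib.Helper65.JacCot
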