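import Mathlib

/-!
# Lifting along nil ideals

* `isNilpotent_of_mem_ker_mapMatrix`: a square matrix whose entries lie in the (nil) kernel of a ring
  map is nilpotent; hence idempotent matrices lift along surjections with nil kernel
  (`exists_idempotent_matrix_lift`).
* `bijective_of_nil`: a nil-Nakayama bijectivity criterion: for `I` a nil ideal, `M` finite flat,
  `E` an idempotent endomorphism of `R^r` and `g : R^r → M` with `g ∘ E = g`, if `g` induces a
  bijection `E(R^r)/I → M/IM` then `g` is surjective with kernel `ker E`.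
-/

namespace Groth.Agent.Lib.Helper65.NilLift

open Module

theorem isNilpotent_of_mem_ker_mapMatrix {R S : Type*} [CommRing R] [CommRing S] (f : R →+* S)
    (h : ∀ x ∈ RingHom.ker f, IsNilpotent x) {r : ℕ} (X : Matrix (Fin r) (Fin r) R)
    (hX : X ∈ RingHom.ker (f.mapMatrix : Matrix (Fin r) (Fin r) R →+* Matrix (Fin r) (Fin r) S)) :
    IsNilpotent X := by
  classical
  obtain ⟨J, hJ⟩ : ∃ J : Ideal R, J = Ideal.span (Set.range fun p : Fin r × Fin r => X p.1 p.2) :=
    ⟨_, rfl⟩
  have hXJ : ∀ i j, X i j ∈ J := fun i j => hJ ▸ Ideal.subset_span ⟨(i, j), rfl⟩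
  have hJk : J ≤ RingHom.ker f := by
    rw [hJ, Ideal.span_le]
    rintro _ ⟨p, rfl⟩
    have := Matrix.ext_iff.mpr (RingHom.mem_ker.mp hX) p.1 p.2
    simpa using this
  have hJfg : J.FG := by
    rw [hJ]
    exact ⟨(Finset.univ.image fun p : Fin r × Fin r => X p.1 p.2), by simp⟩
  have hJnil : IsNilpotent J := by
    rw [Ideal.FG.isNilpotent_iff_le_nilradical hJfg]
    intro x hx
    exact mem_nilradical.mpr (h x (hJk hx))
  obtain ⟨N, hN⟩ := hJnil
  have key : ∀ k i j, (X ^ k) i j ∈ J ^ k := by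
    intro k
    induction k with
    | zero => intro i j; simp
    | succ k ih =>
      intro i j
      rw [pow_succ X, Matrix.mul_apply, pow_succ]
      exact Ideal.sum_mem _ fun l _ => Ideal.mul_mem_mul (ih i l) (hXJ l j)
  refine ⟨N, ?_⟩
  ext i j
  have := key N i j
  rw [hN] at this
  simpa using this

theorem exists_idempotent_matrix_lift {R S : Type*} [CommRing R] [CommRing S] (f : R →+* S)
    (hf : Function.Surjective f)
    (h : ∀ x ∈ RingHom.ker f, IsNilpotent x) {r : ℕ} (X : Matrix (Fin r) (Fin r) S)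
    (hX : IsIdempotentElem X) :
    ∃ Y : Matrix (Fin r) (Fin r) R, IsIdempotentElem Y ∧ f.mapMatrix Y = X := by
  refine exists_isIdempotentElem_eq_of_ker_isNilpotent
    (f.mapMatrix : Matrix (Fin r) (Fin r) R →+* Matrix (Fin r) (Fin r) S)
    (fun Z hZ => isNilpotent_of_mem_ker_mapMatrix f h Z hZ) X ?_ hX
  refine ⟨X.map (Function.surjInv hf), ?_⟩
  ext i j
  simp [Function.surjInv_eq hf]

theorem bijective_of_nil {R : Type*} [CommRing R] (I : Ideal R) (hI : ∀ a ∈ I, IsNilpotent a)
    {M : Type*} [AddCommGroup M] [Module R M] [Module.Finite R M] [Module.Flat R M] {r : ℕ}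
    (E : (Fin r → R) →ₗ[R] (Fin r → R)) (hE : E ∘ₗ E = E)
    (g : (Fin r → R) →ₗ[R] M) (hgE : g ∘ₗ E = g)
    (h1 : ∀ x, g x ∈ I • (⊤ : Submodule R M) → ∀ i, E x i ∈ I)
    (h2 : ∀ m : M, ∃ x, m - g x ∈ I • (⊤ : Submodule R M)) :
    Function.Surjective g ∧ ∀ x, g x = 0 → E x = 0 := by
  classical
  have hEE : ∀ x, E (E x) = E x := fun x => LinearMap.congr_fun hE x
  have hgE' : ∀ x, g (E x) = g x := fun x => LinearMap.congr_fun hgE x
  have hIjac : I ≤ Ideal.jacobson ⊥ := by
    intro a ha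
    have : a ∈ (⊥ : Ideal R).radical := by
      obtain ⟨n, hn⟩ := hI a ha
      exact ⟨n, by simp [hn]⟩
    exact Ideal.radical_le_jacobson this
  have hsurj : Function.Surjective g := by
    have : (⊤ : Submodule R M) ≤ LinearMap.range g := by
      refine Submodule.le_of_le_smul_of_le_jacobson_bot Module.Finite.fg_top hIjac ?_
      intro m _
      obtain ⟨x, hx⟩ := h2 m
      have : m = g x + (m - g x) := by abel
      rw [this]
      exact Submodule.add_mem_sup ⟨x, rfl⟩ hx
    exact LinearMap.range_eq_top.mp (top_le_iff.mp this)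
  refine ⟨hsurj, ?_⟩
  intro x0 hx0
  -- replace x0 by x = E x0
  obtain ⟨x, hx⟩ : ∃ x, x = E x0 := ⟨_, rfl⟩
  have hxE : E x = x := by rw [hx, hEE]
  have hgx : g x = 0 := by rw [hx, hgE', hx0]
  rw [← hx]
  -- relation Σ x_i g(ε_i) = 0
  have hrel : ∑ i, x i • g (Pi.single i 1) = 0 := by
    rw [← hgx]
    conv_rhs => rw [LinearMap.pi_apply_eq_sum_univ g x]
    refine Finset.sum_congr rfl fun i _ => ?_
    congr 2
    ext j
    simp [Pi.single_apply, eq_comm]
  obtain ⟨k, a, y, hy, ha⟩ := Module.Flat.isTrivialRelation_of_sum_smul_eq_zero hrel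
  choose z' hz' using fun j => hsurj (y j)
  -- z_j = E z'_j
  have hgz : ∀ j, g (E (z' j)) = y j := fun j => by rw [hgE', hz']
  -- c_j(w) = Σ_i w_i a i j
  let c : Fin k → ((Fin r → R) →ₗ[R] R) := fun j => ∑ i, a i j • LinearMap.proj i
  have hc : ∀ j w, c j w = ∑ i, w i * a i j := by
    intro j w
    simp [c, mul_comm]
  have hgw : ∀ w, g w = ∑ j, c j w • y j := by
    intro w
    rw [LinearMap.pi_apply_eq_sum_univ g w]
    have : ∀ i, g (fun j => if i = j then (1 : R) else 0) = ∑ j, a i j • y j := by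
      intro i
      rw [← hy i]
      congr 1
      ext j
      simp [Pi.single_apply, eq_comm]
    simp_rw [this, Finset.smul_sum, hc, Finset.sum_smul, smul_smul]
    rw [Finset.sum_comm]
  let θ : (Fin r → R) →ₗ[R] (Fin r → R) :=
    E - (∑ j, (c j).smulRight (E (z' j))) ∘ₗ E
  have hθ : ∀ w, θ w = E w - ∑ j, c j (E w) • E (z' j) := by
    intro w
    simp [θ]
  have hgθ : ∀ w, g (θ w) = 0 := by
    intro w
    rw [hθ, map_sub, map_sum]
    simp_rw [map_smul, hgz]
    rw [← hgw (E w), sub_self]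
  have hEθ : ∀ w, E (θ w) = θ w := by
    intro w
    rw [hθ, map_sub, map_sum, hEE]
    simp_rw [map_smul, hEE]
  have hθI : ∀ w i, θ w i ∈ I := by
    intro w i
    have := h1 (θ w) (by rw [hgθ]; exact zero_mem _) i
    rwa [hEθ] at this
  have hθx : θ x = x := by
    rw [hθ, hxE]
    have : ∀ j, c j x = 0 := fun j => by rw [hc]; exact ha j
    simp [this]
  -- nilpotency argument
  obtain ⟨J, hJ⟩ : ∃ J : Ideal R,
      J = Ideal.span (Set.range fun p : Fin r × Fin r => θ (fun j => if p.1 = j then (1 : R) else 0) p.2) :=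
    ⟨_, rfl⟩
  have hθJ : ∀ l i, θ (fun j => if l = j then (1 : R) else 0) i ∈ J :=
    fun l i => hJ ▸ Ideal.subset_span ⟨(l, i), rfl⟩
  have hJI : J ≤ I := by
    rw [hJ, Ideal.span_le]
    rintro _ ⟨p, rfl⟩
    exact hθI _ _
  have hJfg : J.FG := by
    rw [hJ]
    exact ⟨(Finset.univ.image fun p : Fin r × Fin r =>
      θ (fun j => if p.1 = j then (1 : R) else 0) p.2), by simp⟩
  have hJnil : IsNilpotent J := by
    rw [Ideal.FG.isNilpotent_iff_le_nilradical hJfg]
    intro b hb
    exact mem_nilradical.mpr (hI b (hJI hb))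
  obtain ⟨N, hN⟩ := hJnil
  have key : ∀ m i, x i ∈ J ^ m := by
    intro m
    induction m with
    | zero => intro i; simp
    | succ m ih =>
      intro i
      have : x i = ∑ l, x l * θ (fun j => if l = j then (1 : R) else 0) i := by
        conv_lhs => rw [← hθx, LinearMap.pi_apply_eq_sum_univ θ x]
        simp
      rw [this, pow_succ]
      exact Ideal.sum_mem _ fun l _ => Ideal.mul_mem_mul (ih l) (hθJ l i)
  ext i
  have := key N i
  rw [hN] at this
  simpa using this

end Groth.Agent.Lib.Helper65.NilLift
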