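import Mathlib

/-! # Separating families and nilpotent thickenings (helper65, for S5910) -/

set_option autoImplicit false
universe u
open TensorProduct

namespace Groth.Agent.Lib.Helper65.NilSep

variable {A : Type u} [CommRing A] {M : Type u} [AddCommGroup M] [Module A M] {ι : Type u}
  {N : ι → Type u} [∀ i, AddCommGroup (N i)] [∀ i, Module A (N i)] (u : ∀ i, M →ₗ[A] N i)

/-- The family `(P ⊗ u_i)` is jointly injective. -/
def SP (P : Type u) [AddCommGroup P] [Module A P] : Prop :=
  ∀ x : P ⊗[A] M, (∀ i, (u i).lTensor P x = 0) → x = 0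

variable {u}

lemma SP.of_equiv {P P' : Type u} [AddCommGroup P] [Module A P] [AddCommGroup P'] [Module A P']
    (e : P ≃ₗ[A] P') (h : SP u P') : SP u P := by
  intro x hx
  have := h (e.toLinearMap.rTensor M x) (fun i => by
    rw [← LinearMap.comp_apply, LinearMap.lTensor_comp_rTensor, ← LinearMap.rTensor_comp_lTensor,
      LinearMap.comp_apply, hx i, map_zero])
  exact (LinearEquiv.rTensor M e).injective (this.trans (map_zero _).symm)

lemma SP.of_exact [∀ i, Module.Flat A (N i)] {P' P P'' : Type u} [AddCommGroup P'] [Module A P']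
    [AddCommGroup P] [Module A P] [AddCommGroup P''] [Module A P''] (f : P' →ₗ[A] P)
    (g : P →ₗ[A] P'') (hf : Function.Injective f) (hex : Function.Exact f g)
    (hg : Function.Surjective g) (h' : SP u P') (h'' : SP u P'') : SP u P := by
  intro x hx
  have h1 : g.rTensor M x = 0 := by
    apply h''
    intro i
    have : (u i).lTensor P'' (g.rTensor M x) = g.rTensor (N i) ((u i).lTensor P x) := by
      rw [← LinearMap.comp_apply, ← LinearMap.comp_apply, LinearMap.lTensor_comp_rTensor,
        LinearMap.rTensor_comp_lTensor]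
    rw [this, hx i, map_zero]
  obtain ⟨x', rfl⟩ := (rTensor_exact M hex hg x).mp h1
  have : x' = 0 := by
    apply h'
    intro i
    have hinj := Module.Flat.rTensor_preserves_injective_linearMap (M := N i) f hf
    apply hinj
    rw [map_zero]
    have : f.rTensor (N i) ((u i).lTensor P' x') = (u i).lTensor P (f.rTensor M x') := by
      rw [← LinearMap.comp_apply, ← LinearMap.comp_apply, LinearMap.lTensor_comp_rTensor,
        LinearMap.rTensor_comp_lTensor]
    rw [this, hx i]
  rw [this, map_zero]

lemma SP.of_free (K : Type u) [CommRing K] [Algebra A K] (P : Type u) [AddCommGroup P]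
    [Module A P] [Module K P] [IsScalarTower A K P] [Module.Free K P] (h : SP u K) : SP u P := by
  intro x hx
  let b := Module.Free.chooseBasis K P
  let e : P ≃ₗ[A] (Module.Free.ChooseBasisIndex K P →₀ K) := b.repr.restrictScalars A
  have hx0 : (TensorProduct.finsuppLeft A A K M _) ((e.toLinearMap.rTensor M) x) = 0 := by
    ext α : 1
    rw [TensorProduct.finsuppLeft_apply, Finsupp.zero_apply]
    apply h
    intro i
    have hcomm : ∀ y : P ⊗[A] M, (u i).lTensor K ((Finsupp.lapply α).rTensor M
        ((e.toLinearMap.rTensor M) y)) =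
        ((Finsupp.lapply α) ∘ₗ e.toLinearMap).rTensor (N i) ((u i).lTensor P y) := by
      intro y
      induction y using TensorProduct.induction_on with
      | zero => simp
      | tmul p m => simp
      | add a b ha hb => simp only [map_add, ha, hb]
    rw [hcomm, hx i, map_zero]
  have h2 := (TensorProduct.finsuppLeft A A K M _).injective (hx0.trans (map_zero _).symm)
  exact (LinearEquiv.rTensor M e).injective (h2.trans (map_zero _).symm)

theorem core (J : Ideal A) (hJ : IsNilpotent J)
    (hfree : ∀ k : ℕ, Module.Free (A ⧸ J) ((A ⧸ J) ⊗[A] ↥(J ^ k)))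
    [∀ i, Module.Flat A (N i)] (h0 : SP u (A ⧸ J)) (m : M) (hm : ∀ i, u i m = 0) : m = 0 := by
  obtain ⟨n, hn⟩ := hJ
  have key : ∀ d k : ℕ, k + d = n → SP u ↥(J ^ k) := by
    intro d
    induction d with
    | zero =>
      intro k hk
      have hk0 : J ^ k = ⊥ := by rw [add_zero] at hk; rw [hk]; exact hn
      intro x _
      haveI : Subsingleton ↥(J ^ k) := by rw [hk0]; infer_instance
      exact Subsingleton.elim _ _
    | succ d ih =>
      intro k hk
      have h' : SP u ↥(J ^ (k + 1)) := ih (k + 1) (by omega)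
      have hle : J ^ (k + 1) ≤ J ^ k := Ideal.pow_le_pow_right (Nat.le_succ k)
      let f : ↥(J ^ (k + 1)) →ₗ[A] ↥(J ^ k) := Submodule.inclusion hle
      let g : ↥(J ^ k) →ₗ[A] (A ⧸ J) ⊗[A] ↥(J ^ k) :=
        (TensorProduct.quotTensorEquivQuotSMul ↥(J ^ k) J).symm.toLinearMap ∘ₗ
          (J • (⊤ : Submodule A ↥(J ^ k))).mkQ
      haveI := hfree k
      have h'' : SP u ((A ⧸ J) ⊗[A] ↥(J ^ k)) := SP.of_free (A ⧸ J) _ h0
      refine SP.of_exact f g (Submodule.inclusion_injective hle) ?_ ?_ h' h''
      · rw [LinearMap.exact_iff]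
        ext y
        rw [LinearMap.mem_ker, LinearMap.comp_apply, LinearEquiv.coe_coe,
          LinearEquiv.map_eq_zero_iff, Submodule.mkQ_apply, Submodule.Quotient.mk_eq_zero,
          Submodule.mem_smul_top_iff, Submodule.range_inclusion, Submodule.mem_comap,
          Submodule.subtype_apply, smul_eq_mul, ← pow_succ']
      · exact (TensorProduct.quotTensorEquivQuotSMul ↥(J ^ k) J).symm.surjective.comp
          (Submodule.mkQ_surjective _)
  have hA : SP u ↥(J ^ 0) := key n 0 (by omega)
  let eA : ↥(J ^ 0) ≃ₗ[A] A :=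
    (LinearEquiv.ofEq (J ^ 0) (⊤ : Submodule A A) (by rw [pow_zero, Ideal.one_eq_top])).trans
      (Submodule.topEquiv : ↥(⊤ : Submodule A A) ≃ₗ[A] A)
  have hA' : SP u A := SP.of_equiv eA.symm hA
  have h1 := hA' ((1 : A) ⊗ₜ[A] m) (fun i => by
    rw [LinearMap.lTensor_tmul, hm i, tmul_zero])
  have h2 := congrArg (TensorProduct.lid A M) h1
  simpa using h2

end Groth.Agent.Lib.Helper65.NilSep
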