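import Mathlib

/-! # Separating families of linear maps: abstract framework (helper65, for S4911) -/

set_option autoImplicit false
universe u
open TensorProduct

namespace Groth.Agent.Lib.Helper65.Sep

/-- Separation property of a family of subsets `P i` of an `A`-module. -/
def SepP (A : Type*) [CommRing A] {M : Type*} [AddCommGroup M] [Module A M] {ι : Type*}
    (P : ι → Set M) : Prop :=
  ∀ (f : A) (m : M), (∀ i, ∃ n : ℕ, f ^ n • m ∈ P i) → ∃ n : ℕ, f ^ n • m = 0

/-- The kernel sets of a family of linear maps. -/
def kerSet {A : Type*} [CommRing A] {M : Type*} [AddCommGroup M] [Module A M] {ι : Type*}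
    {N : ι → Type*} [∀ i, AddCommGroup (N i)] [∀ i, Module A (N i)] (u : ∀ i, M →ₗ[A] N i) :
    ι → Set M := fun i => {m | u i m = 0}

/-- An `A`-algebra `C` is good if base change along `A → C` preserves separating families. -/
def Good (A C : Type u) [CommRing A] [CommRing C] [Algebra A C] : Prop :=
  ∀ (M : Type u) [AddCommGroup M] [Module A M] (ι : Type u) (N : ι → Type u)
    [∀ i, AddCommGroup (N i)] [∀ i, Module A (N i)] (u : ∀ i, M →ₗ[A] N i),
    SepP A (kerSet u) → SepP C (kerSet (fun i => (u i).baseChange C))

section transfer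

variable {D : Type*} [CommRing D] {M M' : Type*} [AddCommGroup M] [Module D M]
  [AddCommGroup M'] [Module D M'] {ι : Type*} (P : ι → Set M) (P' : ι → Set M')

lemma SepP.of_equiv (e : M' ≃ₗ[D] M) (h : ∀ i x, e x ∈ P i → x ∈ P' i)
    (hs : SepP D P') : SepP D P := by
  intro f m hm
  obtain ⟨n, hn⟩ := hs f (e.symm m) (fun i => by
    obtain ⟨n, hn⟩ := hm i
    refine ⟨n, h i _ ?_⟩
    rw [map_smul, e.apply_symm_apply]; exact hn)
  refine ⟨n, ?_⟩
  have := congrArg e hn
  rwa [map_smul, e.apply_symm_apply, map_zero] at this

end transfer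

section semilinear

variable {A : Type*} [CommRing A] {C C' : Type*} [CommRing C] [CommRing C'] [Algebra A C]
  [Algebra A C']

lemma rTensor_smul (φ : C →ₐ[A] C') (N : Type*) [AddCommGroup N] [Module A N]
    (c : C) (z : C ⊗[A] N) :
    φ.toLinearMap.rTensor N (c • z) = φ c • φ.toLinearMap.rTensor N z := by
  induction z using TensorProduct.induction_on with
  | zero => simp
  | tmul c' n =>
    simp only [TensorProduct.smul_tmul', LinearMap.rTensor_tmul, AlgHom.toLinearMap_apply,
      smul_eq_mul, map_mul]
  | add x y hx hy => simp only [smul_add, map_add, hx, hy]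

lemma rTensor_baseChange (f : C →ₗ[A] C') {M N : Type*} [AddCommGroup M] [Module A M]
    [AddCommGroup N] [Module A N] (u : M →ₗ[A] N) (z : C ⊗[A] M) :
    f.rTensor N (u.baseChange C z) = u.baseChange C' (f.rTensor M z) := by
  induction z using TensorProduct.induction_on with
  | zero => simp
  | tmul c' n => simp
  | add x y hx hy => simp only [map_add, hx, hy]

end semilinear

section good

variable {A C C' : Type u} [CommRing A] [CommRing C] [CommRing C'] [Algebra A C] [Algebra A C']

/-- Descent of goodness along an algebra map with an `A`-linear retraction. -/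
lemma Good.of_retract (φ : C →ₐ[A] C') (ρ : C' →ₗ[A] C) (hρ : ∀ c, ρ (φ c) = c)
    (h : Good A C') : Good A C := by
  intro M _ _ ι N _ _ u hsep f x hx
  have hinj : ∀ (N' : Type u) [AddCommGroup N'] [Module A N'],
      Function.Injective (φ.toLinearMap.rTensor N') := by
    intro N' _ _
    apply Function.LeftInverse.injective (g := ρ.rTensor N')
    intro z
    rw [← LinearMap.comp_apply, ← LinearMap.rTensor_comp]
    have : ρ ∘ₗ φ.toLinearMap = LinearMap.id := by
      ext c; exact hρ c
    rw [this, LinearMap.rTensor_id, LinearMap.id_apply]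
  obtain ⟨n, hn⟩ := h M ι N u hsep (φ f) (φ.toLinearMap.rTensor M x) (fun i => by
    obtain ⟨n, hn⟩ := hx i
    refine ⟨n, ?_⟩
    change (u i).baseChange C' _ = 0
    rw [← map_pow, ← rTensor_smul, ← rTensor_baseChange]
    have : (u i).baseChange C (f ^ n • x) = 0 := hn
    rw [this, map_zero])
  refine ⟨n, hinj M ?_⟩
  rw [rTensor_smul, map_pow, hn, map_zero]

lemma Good.of_algEquiv (e : C ≃ₐ[A] C') (h : Good A C') : Good A C :=
  Good.of_retract e.toAlgHom e.symm.toLinearMap (fun c => e.symm_apply_apply c) h

lemma Good.self : Good A A := by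
  intro M _ _ ι N _ _ u hsep
  refine SepP.of_equiv _ (kerSet u) (TensorProduct.lid A M).symm ?_ hsep
  intro i x hx
  change u i x = 0
  have h1 : (u i).baseChange A ((TensorProduct.lid A M).symm x) = 0 := hx
  rw [TensorProduct.lid_symm_apply, LinearMap.baseChange_tmul] at h1
  have := congrArg (TensorProduct.lid A (N i)) h1
  simpa using this

end good

section trans

variable {A C D : Type u} [CommRing A] [CommRing C] [CommRing D] [Algebra A C] [Algebra C D]
  [Algebra A D] [IsScalarTower A C D]

lemma Good.trans (h1 : Good A C) (h2 : Good C D) : Good A D := by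
  intro M _ _ ι N _ _ u hsep
  have hs2 := h2 (C ⊗[A] M) ι (fun i => C ⊗[A] N i) (fun i => (u i).baseChange C)
    (h1 M ι N u hsep)
  refine SepP.of_equiv _ _ (TensorProduct.AlgebraTensorModule.cancelBaseChange A C D D M) ?_ hs2
  intro i x hx
  change ((u i).baseChange C).baseChange D x = 0
  have hx' : (u i).baseChange D
      (TensorProduct.AlgebraTensorModule.cancelBaseChange A C D D M x) = 0 := hx
  have key : ∀ x : D ⊗[C] (C ⊗[A] M),
      TensorProduct.AlgebraTensorModule.cancelBaseChange A C D D (N i)
        (((u i).baseChange C).baseChange D x) =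
      (u i).baseChange D (TensorProduct.AlgebraTensorModule.cancelBaseChange A C D D M x) := by
    intro x
    induction x using TensorProduct.induction_on with
    | zero => simp
    | tmul d y =>
      induction y using TensorProduct.induction_on with
      | zero => simp
      | tmul c m => simp
      | add y1 y2 h1 h2 =>
        rw [TensorProduct.tmul_add, map_add, map_add, h1, h2, map_add, map_add]
    | add x1 x2 h1 h2 => simp only [map_add, h1, h2]
  apply (TensorProduct.AlgebraTensorModule.cancelBaseChange A C D D (N i)).injective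
  rw [key, hx', map_zero]

end trans

end Groth.Agent.Lib.Helper65.Sep
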