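import Mathlib
import Groth.Agent.Lib.Helper65.Sep1

/-! # Separating families: the integral (finite free) case (helper65, for S4911) -/

set_option autoImplicit false
universe u
open TensorProduct Polynomial

namespace Groth.Agent.Lib.Helper65.Sep

section endo

variable {A E : Type*} [CommRing A] [AddCommGroup E] [Module A E] (T : Module.End A E)

lemma stable_pow {P : Submodule A E} (hT : ∀ e ∈ P, T e ∈ P) (n : ℕ) :
    ∀ e ∈ P, (T ^ n) e ∈ P := by
  induction n with
  | zero => intro e he; simpa using he
  | succ n ih =>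
    intro e he
    rw [pow_succ, Module.End.mul_apply]
    exact ih _ (hT e he)

lemma stable_aeval {P : Submodule A E} (hT : ∀ e ∈ P, T e ∈ P) (p : A[X]) :
    ∀ e ∈ P, aeval T p e ∈ P := by
  induction p using Polynomial.induction_on' with
  | add p q hp hq =>
    intro e he
    rw [map_add, LinearMap.add_apply]
    exact P.add_mem (hp e he) (hq e he)
  | monomial n a =>
    intro e he
    rw [aeval_monomial, Module.End.mul_apply, Module.algebraMap_end_apply]
    exact P.smul_mem _ (stable_pow T hT n e he)

lemma pow_mem_of_le {P : Submodule A E} (hT : ∀ e ∈ P, T e ∈ P) {e : E} {n m : ℕ}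
    (h : (T ^ n) e ∈ P) (hnm : n ≤ m) : (T ^ m) e ∈ P := by
  obtain ⟨k, rfl⟩ := Nat.exists_eq_add_of_le hnm
  rw [add_comm, pow_add, Module.End.mul_apply]
  exact stable_pow T hT k _ h

/-- Key lemma: an endomorphism killed by a monic polynomial on a stable submodule `W`. -/
theorem endo_sep {ι : Type*} (P : ι → Submodule A E) (hT : ∀ i, ∀ e ∈ P i, T e ∈ P i)
    (hsep : SepP A (fun i => (P i : Set E))) :
    ∀ (m : ℕ) (W : Submodule A E), (∀ w ∈ W, T w ∈ W) → ∀ (χ : A[X]), χ.Monic →
      χ.natDegree = m → (∀ w ∈ W, aeval T χ w = 0) → ∀ e ∈ W,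
      (∀ i, ∃ n : ℕ, (T ^ n) e ∈ P i) → ∃ n : ℕ, (T ^ n) e = 0 := by
  intro m
  induction m with
  | zero =>
    intro W _ χ hχ hdeg hkill e he _
    have h1 : χ = 1 := eq_one_of_monic_natDegree_zero hχ hdeg
    refine ⟨0, ?_⟩
    have := hkill e he
    rw [h1, map_one] at this
    simpa using this
  | succ m ih =>
    intro W hW χ hχ hdeg hkill
    set c : A := χ.coeff 0 with hc
    set ψ : A[X] := χ.divX with hψ
    have hχeq : ψ * X + C c = χ := divX_mul_X_add χ
    have hψdeg : ψ.natDegree = m := by
      rw [hψ, natDegree_divX_eq_natDegree_tsub_one, hdeg]; rfl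
    have hψmonic : ψ.Monic := by
      unfold Polynomial.Monic Polynomial.leadingCoeff
      rw [hψdeg, hψ, coeff_divX, ← hdeg]
      exact hχ
    set S : Module.End A E := aeval T ψ with hS
    have hSW : ∀ w ∈ W, S w ∈ W := stable_aeval T hW ψ
    -- c • w = - S (T w) on W
    have hcw : ∀ w ∈ W, c • w = - S (T w) := by
      intro w hw
      have := hkill w hw
      rw [← hχeq, map_add, map_mul, aeval_X, aeval_C, LinearMap.add_apply,
        Module.End.mul_apply, Module.algebraMap_end_apply] at this
      exact eq_neg_of_add_eq_zero_right this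
    have hcpow : ∀ (n : ℕ), ∀ w ∈ W, c ^ n • w = (-1 : A) ^ n • (S ^ n) ((T ^ n) w) := by
      intro n
      induction n with
      | zero => intro w _; simp
      | succ n ihn =>
        intro w hw
        have hTw : T w ∈ W := hW w hw
        rw [pow_succ, mul_smul, hcw w hw, smul_neg, ← map_smul, ihn (T w) hTw, map_smul,
          pow_succ (-1 : A), mul_smul, neg_one_smul, smul_neg]
        congr 2
        rw [pow_succ' S, Module.End.mul_apply, pow_succ T, Module.End.mul_apply]
    -- Step A
    have stepA : ∀ e ∈ W, (∀ i, ∃ n : ℕ, (T ^ n) e ∈ P i) → ∃ n : ℕ, c ^ n • e = 0 := by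
      intro e he hyp
      apply hsep c e
      intro i
      obtain ⟨n, hn⟩ := hyp i
      refine ⟨n, ?_⟩
      change c ^ n • e ∈ P i
      rw [hcpow n e he]
      apply (P i).smul_mem
      have hSP : ∀ e ∈ P i, S e ∈ P i := stable_aeval T (hT i) ψ
      exact stable_pow S hSP n _ hn
    -- Step B
    have stepB : ∀ (n : ℕ), ∀ e ∈ W, (∀ i, ∃ k : ℕ, (T ^ k) e ∈ P i) → c ^ n • e = 0 →
        ∃ N : ℕ, (T ^ N) e = 0 := by
      intro n
      induction n with
      | zero =>
        intro e _ _ h0
        refine ⟨0, ?_⟩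
        simpa using h0
      | succ n ihn =>
        intro e he hyp h0
        have he1 : c • e ∈ W := W.smul_mem c he
        have hyp1 : ∀ i, ∃ k : ℕ, (T ^ k) (c • e) ∈ P i := by
          intro i
          obtain ⟨k, hk⟩ := hyp i
          exact ⟨k, by rw [map_smul]; exact (P i).smul_mem c hk⟩
        obtain ⟨N, hN⟩ := ihn (c • e) he1 hyp1 (by rw [← mul_smul, ← pow_succ]; exact h0)
        set e2 : E := (T ^ N) e with he2
        have he2W : e2 ∈ W := stable_pow T hW N e he
        have hce2 : c • e2 = 0 := by rw [he2, ← map_smul]; exact hN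
        have hyp2 : ∀ i, ∃ k : ℕ, (T ^ k) (T e2) ∈ P i := by
          intro i
          obtain ⟨k, hk⟩ := hyp i
          refine ⟨k, ?_⟩
          have : (T ^ k) (T e2) = (T ^ (k + 1 + N)) e := by
            rw [he2, pow_add, pow_succ, Module.End.mul_apply, Module.End.mul_apply]
          rw [this]
          exact pow_mem_of_le T (hT i) hk (by omega)
        let W2 : Submodule A E := W ⊓ LinearMap.ker (c • (LinearMap.id : E →ₗ[A] E))
        have hW2 : ∀ w ∈ W2, T w ∈ W2 := by
          intro w hw
          refine ⟨hW w hw.1, ?_⟩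
          have h2 : c • w = 0 := by simpa using hw.2
          change (c • (LinearMap.id : E →ₗ[A] E)) (T w) = 0
          rw [LinearMap.smul_apply, LinearMap.id_apply, ← map_smul, h2, map_zero]
        let W' : Submodule A E := W2.map T
        have hW' : ∀ w ∈ W', T w ∈ W' := by
          rintro _ ⟨w, hw, rfl⟩
          exact ⟨T w, hW2 w hw, rfl⟩
        have hkill' : ∀ w ∈ W', aeval T ψ w = 0 := by
          rintro _ ⟨w, hw, rfl⟩
          have h2 : c • w = 0 := by simpa using hw.2
          have := hcw w hw.1
          rw [h2] at this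
          exact (neg_eq_zero.mp this.symm)
        have he2W' : T e2 ∈ W' := ⟨e2, ⟨he2W, by simpa using hce2⟩, rfl⟩
        obtain ⟨k, hk⟩ := ih W' hW' ψ hψmonic hψdeg hkill' (T e2) he2W' hyp2
        refine ⟨k + 1 + N, ?_⟩
        rw [pow_add, pow_succ, Module.End.mul_apply, Module.End.mul_apply]
        exact hk
    intro e he hyp
    obtain ⟨n, hn⟩ := stepA e he hyp
    exact stepB n e he hyp hn

end endo

section integral

variable {A C : Type u} [CommRing A] [CommRing C] [Algebra A C]

lemma baseChange_eq_zero_iff_of_basis {I : Type*} [DecidableEq I] (b : Module.Basis I A C) {M N : Type*}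
    [AddCommGroup M] [Module A M] [AddCommGroup N] [Module A N] (u : M →ₗ[A] N)
    (z : C ⊗[A] M) :
    u.baseChange C z = 0 ↔ ∀ β, u (TensorProduct.equivFinsuppOfBasisLeft b z β) = 0 := by
  have key : ∀ z : C ⊗[A] M, ∀ β,
      TensorProduct.equivFinsuppOfBasisLeft b (u.baseChange C z) β =
        u (TensorProduct.equivFinsuppOfBasisLeft b z β) := by
    intro z β
    induction z using TensorProduct.induction_on with
    | zero => simp
    | tmul c m =>
      rw [LinearMap.baseChange_tmul, TensorProduct.equivFinsuppOfBasisLeft_apply_tmul_apply,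
        TensorProduct.equivFinsuppOfBasisLeft_apply_tmul_apply, map_smul]
    | add x y hx hy =>
      rw [map_add, map_add, Finsupp.add_apply, hx, hy, map_add, Finsupp.add_apply, map_add]
  constructor
  · intro h β
    rw [← key, h, map_zero, Finsupp.zero_apply]
  · intro h
    apply (TensorProduct.equivFinsuppOfBasisLeft b).injective
    rw [map_zero]
    ext β
    rw [key, h β, Finsupp.zero_apply]

/-- A free integral algebra is good. -/
theorem Good.of_free_of_isIntegral [Module.Free A C] [Algebra.IsIntegral A C] : Good A C := by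
  classical
  intro M _ _ ι N _ _ u hsep h x hx
  let b := Module.Free.chooseBasis A C
  let eM := TensorProduct.equivFinsuppOfBasisLeft (N := M) b
  let P : ι → Submodule A (C ⊗[A] M) :=
    fun i => LinearMap.ker (((u i).baseChange C).restrictScalars A)
  let T : Module.End A (C ⊗[A] M) := Algebra.lsmul A A (C ⊗[A] M) h
  have hTpow : ∀ (n : ℕ) (e : C ⊗[A] M), (T ^ n) e = h ^ n • e := by
    intro n e
    change ((Algebra.lsmul A A (C ⊗[A] M) h) ^ n) e = _
    rw [← map_pow]
    rfl
  have hsepA : SepP A (fun i => (P i : Set (C ⊗[A] M))) := by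
    intro f z hz
    have hcoord : ∀ β, ∃ n : ℕ, f ^ n • eM z β = 0 := by
      intro β
      apply hsep f (eM z β)
      intro i
      obtain ⟨n, hn⟩ := hz i
      refine ⟨n, ?_⟩
      have h1 : (u i).baseChange C (f ^ n • z) = 0 := hn
      have h2 := (baseChange_eq_zero_iff_of_basis b (u i) (f ^ n • z)).mp h1 β
      change u i (f ^ n • eM z β) = 0
      have h3 : eM (f ^ n • z) β = f ^ n • eM z β := by
        rw [map_smul, Finsupp.smul_apply]
      rw [← h3]
      exact h2
    choose nβ hnβ using hcoord
    refine ⟨(eM z).support.sup nβ, ?_⟩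
    apply eM.injective
    rw [map_zero, map_smul]
    ext β
    rw [Finsupp.smul_apply, Finsupp.zero_apply]
    by_cases hβ : β ∈ (eM z).support
    · have hle : nβ β ≤ (eM z).support.sup nβ := Finset.le_sup hβ
      obtain ⟨k, hk⟩ := Nat.exists_eq_add_of_le hle
      rw [hk, pow_add, mul_comm, mul_smul, hnβ β, smul_zero]
    · rw [Finsupp.notMem_support_iff.mp hβ, smul_zero]
  have hTP : ∀ i, ∀ e ∈ P i, T e ∈ P i := by
    intro i e he
    have h1 : (u i).baseChange C e = 0 := he
    change (u i).baseChange C (h • e) = 0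
    rw [map_smul, h1, smul_zero]
  obtain ⟨χ, hχ, hχ0⟩ := Algebra.IsIntegral.isIntegral (R := A) h
  have hkill : ∀ w ∈ (⊤ : Submodule A (C ⊗[A] M)), aeval T χ w = 0 := by
    intro w _
    change aeval (Algebra.lsmul A A (C ⊗[A] M) h) χ w = 0
    rw [aeval_algHom_apply, aeval_def, hχ0, map_zero, LinearMap.zero_apply]
  obtain ⟨n, hn⟩ := endo_sep T P hTP hsepA χ.natDegree ⊤ (fun _ _ => trivial) χ hχ rfl hkill x
    trivial (fun i => by
      obtain ⟨n, hn⟩ := hx i
      refine ⟨n, ?_⟩
      change (u i).baseChange C ((T ^ n) x) = 0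
      rw [hTpow]
      exact hn)
  exact ⟨n, by rw [← hTpow]; exact hn⟩

end integral

end Groth.Agent.Lib.Helper65.Sep
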