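import Mathlib
import Groth.Agent.Lib.Helper65.Sep1

/-! # Separating families: polynomial rings (helper65, for S4911) -/

set_option autoImplicit false
universe u
open TensorProduct Polynomial

namespace Groth.Agent.Lib.Helper65.Sep

section poly

variable {C M : Type*} [CommRing C] [AddCommGroup M] [Module C M]

lemma C_smul_coeff (a : C) (v : PolynomialModule C M) (n : ℕ) :
    (Polynomial.C a • v).coeff n = a • v.coeff n := by
  rw [← Polynomial.monomial_zero_left, PolynomialModule.monomial_smul_apply]
  simp

lemma top_coeff (p : C[X]) (D e : ℕ) (hp : ∀ N, D < N → p.coeff N = 0)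
    (v : PolynomialModule C M) (hv : ∀ n, e < n → v.coeff n = 0) :
    (p • v).coeff (D + e) = p.coeff D • v.coeff e := by
  rw [PolynomialModule.smul_apply]
  rw [Finset.sum_eq_single (D, e)]
  · rintro ⟨x1, x2⟩ hx hne
    rw [Finset.HasAntidiagonal.mem_antidiagonal] at hx
    simp only at hx
    by_cases h1 : D < x1
    · rw [hp x1 h1, zero_smul]
    · have h2 : e < x2 := by
        by_contra h2
        apply hne
        have : x1 = D := by omega
        have : x2 = e := by omega
        simp [*]
      rw [hv x2 h2, smul_zero]
  · intro h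
    exact absurd (Finset.HasAntidiagonal.mem_antidiagonal.mpr (rfl : (D, e).1 + (D, e).2 = D + e)) h

lemma eq_zero_of_coeff (v : PolynomialModule C M) (h : ∀ n, v.coeff n = 0) : v = 0 := by
  apply PolynomialModule.coeff_injective
  ext n
  simpa using h n

/-- The coefficientwise submodule sets are stable under the polynomial action. -/
lemma smul_mem_coeff {K : Submodule C M} (p : C[X]) (v : PolynomialModule C M)
    (hv : ∀ n, v.coeff n ∈ K) : ∀ n, (p • v).coeff n ∈ K := by
  intro n
  rw [PolynomialModule.smul_apply]
  exact K.sum_mem (fun x _ => K.smul_mem _ (hv _))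

theorem poly_sep {ι : Type*} (K : ι → Submodule C M)
    (hsep : SepP C (fun i => (K i : Set M))) :
    SepP C[X] (fun i => {v : PolynomialModule C M | ∀ n, v.coeff n ∈ K i}) := by
  -- main induction on the degree bound
  suffices main : ∀ (d : ℕ) (h : C[X]), (∀ m, d ≤ m → h.coeff m = 0) →
      ∀ v : PolynomialModule C M, (∀ i, ∃ n : ℕ, ∀ k, (h ^ n • v).coeff k ∈ K i) →
        ∃ n : ℕ, h ^ n • v = 0 by
    intro h v hv
    exact main (h.natDegree + 1) h
      (fun m hm => Polynomial.coeff_eq_zero_of_natDegree_lt (by omega)) v hv
  intro d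
  induction d with
  | zero =>
    intro h hh v _
    have h0 : h = 0 := Polynomial.ext (fun n => by simpa using hh n (Nat.zero_le n))
    exact ⟨1, by rw [h0, pow_one, zero_smul]⟩
  | succ d ih =>
    intro h hh
    set a : C := h.coeff d with ha
    have hdeg : h.natDegree ≤ d := by
      rw [Polynomial.natDegree_le_iff_coeff_eq_zero]
      intro N hN
      exact hh N hN
    -- Step A
    have stepA : ∀ (e : ℕ) (v : PolynomialModule C M), (∀ n, e ≤ n → v.coeff n = 0) →
        (∀ i, ∃ n : ℕ, ∀ k, (h ^ n • v).coeff k ∈ K i) →
        ∃ m : ℕ, (Polynomial.C a) ^ m • v = 0 := by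
      intro e
      induction e with
      | zero =>
        intro v hv _
        exact ⟨0, by rw [pow_zero, one_smul]; exact eq_zero_of_coeff v (fun n => hv n (Nat.zero_le n))⟩
      | succ e ihe =>
        intro v hv hyp
        have hve : ∃ m : ℕ, a ^ m • v.coeff e = 0 := by
          apply hsep a (v.coeff e)
          intro i
          obtain ⟨n, hn⟩ := hyp i
          refine ⟨n, ?_⟩
          have h1 := hn (n * d + e)
          rw [top_coeff (h ^ n) (n * d) e ?_ v (fun k hk => hv k hk),
            Polynomial.coeff_pow_of_natDegree_le hdeg] at h1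
          · exact h1
          · intro N hN
            apply Polynomial.coeff_eq_zero_of_natDegree_lt
            exact lt_of_le_of_lt (Polynomial.natDegree_pow_le_of_le n hdeg) hN
        obtain ⟨m, hm⟩ := hve
        set v' : PolynomialModule C M := (Polynomial.C a) ^ m • v with hv'
        have hv'c : ∀ n, v'.coeff n = a ^ m • v.coeff n := by
          intro n
          rw [hv', ← Polynomial.C_pow, C_smul_coeff]
        have hv'0 : ∀ n, e ≤ n → v'.coeff n = 0 := by
          intro n hn
          rw [hv'c]
          rcases Nat.eq_or_lt_of_le hn with h1 | h1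
          · rw [← h1, hm]
          · rw [hv n h1, smul_zero]
        have hyp' : ∀ i, ∃ n : ℕ, ∀ k, (h ^ n • v').coeff k ∈ K i := by
          intro i
          obtain ⟨n, hn⟩ := hyp i
          refine ⟨n, ?_⟩
          rw [hv', smul_comm]
          exact smul_mem_coeff _ _ hn
        obtain ⟨m', hm'⟩ := ihe v' hv'0 hyp'
        exact ⟨m' + m, by rw [pow_add, mul_smul]; exact hm'⟩
    -- the truncated polynomial
    set h' : C[X] := h - Polynomial.monomial d a with hh'
    have hh'c : ∀ m, d ≤ m → h'.coeff m = 0 := by
      intro m hm
      rw [hh', Polynomial.coeff_sub, Polynomial.coeff_monomial]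
      rcases Nat.eq_or_lt_of_le hm with h1 | h1
      · rw [if_pos h1, ← h1, ha, sub_self]
      · rw [if_neg (by omega), hh m h1, sub_zero]
    have hsame : ∀ w : PolynomialModule C M, Polynomial.C a • w = 0 → h • w = h' • w := by
      intro w hw
      have : h = h' + Polynomial.monomial d a := by rw [hh']; ring
      rw [this, add_smul, ← Polynomial.C_mul_X_pow_eq_monomial, mul_comm, mul_smul, hw, smul_zero,
        add_zero]
    have hsamepow : ∀ (n : ℕ) (w : PolynomialModule C M), Polynomial.C a • w = 0 →
        h ^ n • w = h' ^ n • w ∧ Polynomial.C a • (h' ^ n • w) = 0 := by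
      intro n
      induction n with
      | zero => intro w hw; simp [hw]
      | succ n ihn =>
        intro w hw
        obtain ⟨h1, h2⟩ := ihn w hw
        refine ⟨?_, ?_⟩
        · rw [pow_succ', mul_smul, h1, hsame _ h2, ← mul_smul, ← pow_succ']
        · rw [pow_succ', mul_smul, smul_comm, h2, smul_zero]
    -- Step B
    have stepB : ∀ (m : ℕ) (v : PolynomialModule C M),
        (∀ i, ∃ n : ℕ, ∀ k, (h ^ n • v).coeff k ∈ K i) → (Polynomial.C a) ^ m • v = 0 →
        ∃ n : ℕ, h ^ n • v = 0 := by
      intro m
      induction m with
      | zero =>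
        intro v _ hv
        exact ⟨0, by simpa using hv⟩
      | succ m ihm =>
        intro v hyp hv
        set v1 : PolynomialModule C M := (Polynomial.C a) ^ m • v with hv1
        have hav1 : Polynomial.C a • v1 = 0 := by
          rw [hv1, ← mul_smul, ← pow_succ']; exact hv
        have hyp1 : ∀ i, ∃ n : ℕ, ∀ k, (h' ^ n • v1).coeff k ∈ K i := by
          intro i
          obtain ⟨n, hn⟩ := hyp i
          refine ⟨n, ?_⟩
          rw [← (hsamepow n v1 hav1).1, hv1, smul_comm]
          exact smul_mem_coeff _ _ hn
        obtain ⟨n, hn⟩ := ih h' hh'c v1 hyp1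
        rw [← (hsamepow n v1 hav1).1, hv1, smul_comm] at hn
        have hyp2 : ∀ i, ∃ k : ℕ, ∀ j, (h ^ k • (h ^ n • v)).coeff j ∈ K i := by
          intro i
          obtain ⟨k, hk⟩ := hyp i
          refine ⟨k, ?_⟩
          rw [smul_comm]
          exact smul_mem_coeff _ _ hk
        obtain ⟨n', hn'⟩ := ihm (h ^ n • v) hyp2 hn
        exact ⟨n' + n, by rw [pow_add, mul_smul]; exact hn'⟩
    intro v hyp
    obtain ⟨m, hm⟩ := stepA (v.coeff.support.sup id + 1) v (fun n hn => by
      by_contra hne
      have : n ∈ v.coeff.support := Finsupp.mem_support_iff.mpr hne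
      have := Finset.le_sup (f := id) this
      simp only [id] at this
      omega) hyp
    exact stepB m v hyp hm

end poly

section good

variable (C : Type u) [CommRing C]

lemma polyEquiv_tmul_coeff {M : Type*} [AddCommGroup M] [Module C M] (p : C[X]) (m : M) (n : ℕ) :
    (PolynomialModule.polynomialTensorProductLEquivPolynomialModule C M (p ⊗ₜ m)).coeff n =
      p.coeff n • m := by
  have : PolynomialModule.polynomialTensorProductLEquivPolynomialModule C M (p ⊗ₜ m) =
      p • PolynomialModule.single C 0 m := by
    simp [PolynomialModule.polynomialTensorProductLEquivPolynomialModule]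
    rfl
  rw [this, PolynomialModule.smul_single_apply]
  simp

theorem Good.polynomial : Good C C[X] := by
  intro M _ _ ι N _ _ u hsep
  have hs := poly_sep (fun i => LinearMap.ker (u i)) (M := M) (by
    intro f m hm
    exact hsep f m hm)
  refine SepP.of_equiv _ _
    (PolynomialModule.polynomialTensorProductLEquivPolynomialModule C M).symm ?_ hs
  intro i v hv n
  have key : ∀ (z : C[X] ⊗[C] M) (n : ℕ),
      (PolynomialModule.polynomialTensorProductLEquivPolynomialModule C (N i)
        ((u i).baseChange C[X] z)).coeff n =
      u i ((PolynomialModule.polynomialTensorProductLEquivPolynomialModule C M z).coeff n) := by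
    intro z n
    induction z using TensorProduct.induction_on with
    | zero => simp
    | tmul p m =>
      rw [LinearMap.baseChange_tmul, polyEquiv_tmul_coeff, polyEquiv_tmul_coeff, map_smul]
    | add x y hx hy =>
      simp only [map_add, PolynomialModule.coeff_add, Finsupp.add_apply, hx, hy]
  have h1 : (u i).baseChange C[X]
      ((PolynomialModule.polynomialTensorProductLEquivPolynomialModule C M).symm v) = 0 := hv
  have h2 := key ((PolynomialModule.polynomialTensorProductLEquivPolynomialModule C M).symm v) n
  rw [h1, map_zero, LinearEquiv.apply_symm_apply] at h2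
  change u i (v.coeff n) = 0
  rw [← h2]
  simp

theorem Good.mvPolynomial (A : Type u) [CommRing A] (d : ℕ) :
    Good A (MvPolynomial (Fin d) A) := by
  induction d with
  | zero =>
    exact Good.of_algEquiv (MvPolynomial.isEmptyAlgEquiv A (Fin 0)) Good.self
  | succ d ih =>
    have h1 : Good A (Polynomial (MvPolynomial (Fin d) A)) :=
      Good.trans ih (Good.polynomial (MvPolynomial (Fin d) A))
    exact Good.of_algEquiv (MvPolynomial.finSuccEquiv A d) h1

end good

end Groth.Agent.Lib.Helper65.Sep
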