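import Mathlib
import Groth.Agent.Lib.Helper65.Sep1

/-! # Separating families: localizations (helper65, for S4911) -/

set_option autoImplicit false
universe u
open TensorProduct

namespace Groth.Agent.Lib.Helper65.Sep

section loc

variable {A C₀ C : Type u} [CommRing A] [CommRing C₀] [CommRing C] [Algebra A C₀] [Algebra C₀ C]
  [Algebra A C] [IsScalarTower A C₀ C]

/-- The comparison map `C₀ ⊗ N → C ⊗ N`. -/
noncomputable abbrev jmap (A C₀ C : Type u) [CommRing A] [CommRing C₀] [CommRing C] [Algebra A C₀]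
    [Algebra C₀ C] [Algebra A C] [IsScalarTower A C₀ C] (N : Type*) [AddCommGroup N] [Module A N] :
    C₀ ⊗[A] N →ₗ[A] C ⊗[A] N :=
  (IsScalarTower.toAlgHom A C₀ C).toLinearMap.rTensor N

lemma jmap_smul (N : Type*) [AddCommGroup N] [Module A N] (c : C₀) (z : C₀ ⊗[A] N) :
    jmap A C₀ C N (c • z) = algebraMap C₀ C c • jmap A C₀ C N z :=
  rTensor_smul (IsScalarTower.toAlgHom A C₀ C) N c z

lemma exists_jmap_eq (S : Submonoid C₀)
    (hs : ∀ c : C, ∃ s ∈ S, ∃ c₀ : C₀, c * algebraMap C₀ C s = algebraMap C₀ C c₀)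
    (N : Type*) [AddCommGroup N] [Module A N] (x : C ⊗[A] N) :
    ∃ s ∈ S, ∃ x₀ : C₀ ⊗[A] N, algebraMap C₀ C s • x = jmap A C₀ C N x₀ := by
  induction x using TensorProduct.induction_on with
  | zero => exact ⟨1, S.one_mem, 0, by simp⟩
  | tmul c n =>
    obtain ⟨s, hsS, c₀, hc⟩ := hs c
    refine ⟨s, hsS, c₀ ⊗ₜ n, ?_⟩
    rw [TensorProduct.smul_tmul', smul_eq_mul, mul_comm, hc]
    simp [jmap]
  | add x y hx hy =>
    obtain ⟨s, hsS, x₀, hx⟩ := hx
    obtain ⟨t, htS, y₀, hy⟩ := hy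
    refine ⟨s * t, S.mul_mem hsS htS, t • x₀ + s • y₀, ?_⟩
    rw [map_add, jmap_smul, jmap_smul, ← hx, ← hy, map_mul, smul_add, smul_smul, smul_smul,
      mul_comm (algebraMap C₀ C t)]

/-- General localization lemma. -/
theorem Good.of_localization_aux (S : Submonoid C₀)
    (hu : ∀ s ∈ S, IsUnit (algebraMap C₀ C s))
    (hs : ∀ c : C, ∃ s ∈ S, ∃ c₀ : C₀, c * algebraMap C₀ C s = algebraMap C₀ C c₀)
    (hk : ∀ (N : Type u) [AddCommGroup N] [Module A N] (z : C₀ ⊗[A] N),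
      jmap A C₀ C N z = 0 → ∃ s ∈ S, s • z = 0)
    (g : C₀) (hgS : g ∈ S)
    (hg : ∀ (N : Type u) [AddCommGroup N] [Module A N] (z : C₀ ⊗[A] N), ∀ s ∈ S, s • z = 0 →
      ∃ k : ℕ, g ^ k • z = 0)
    (h : Good A C₀) : Good A C := by
  intro M _ _ ι N _ _ u hsep hC x hx
  obtain ⟨s₁, hs₁, h₀, hh₀⟩ := hs hC
  obtain ⟨s₂, hs₂, x₀, hx₀⟩ := exists_jmap_eq S hs M x
  have hyp : ∀ i, ∃ n : ℕ, (g * h₀) ^ n • x₀ ∈ kerSet (fun i => (u i).baseChange C₀) i := by
    intro i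
    obtain ⟨n, hn⟩ := hx i
    have hn' : (u i).baseChange C (hC ^ n • x) = 0 := hn
    have h1 : jmap A C₀ C (N i) ((u i).baseChange C₀ (h₀ ^ n • x₀)) = 0 := by
      rw [jmap, rTensor_baseChange]
      change (u i).baseChange C (jmap A C₀ C M (h₀ ^ n • x₀)) = 0
      have e : jmap A C₀ C M (h₀ ^ n • x₀) =
          (algebraMap C₀ C s₁ ^ n * algebraMap C₀ C s₂) • (hC ^ n • x) := by
        rw [jmap_smul, ← hx₀, map_pow, ← hh₀, mul_pow, smul_smul, smul_smul]
        congr 1; ring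
      rw [e, map_smul, hn', smul_zero]
    obtain ⟨s, hsS, hsz⟩ := hk (N i) _ h1
    obtain ⟨k, hk'⟩ := hg (N i) _ s hsS hsz
    refine ⟨max k n, ?_⟩
    change (u i).baseChange C₀ ((g * h₀) ^ max k n • x₀) = 0
    have e1 : (g * h₀) ^ max k n = (g ^ (max k n - k) * h₀ ^ (max k n - n)) * (g ^ k * h₀ ^ n) := by
      rw [mul_pow]
      have h2 : g ^ max k n = g ^ (max k n - k) * g ^ k := by
        rw [← pow_add]; congr 1; omega
      have h3 : h₀ ^ max k n = h₀ ^ (max k n - n) * h₀ ^ n := by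
        rw [← pow_add]; congr 1; omega
      rw [h2, h3]; ring
    rw [e1, mul_smul, map_smul, mul_smul (g ^ k), map_smul, hk', smul_zero]
  obtain ⟨n, hn⟩ := h M ι N u hsep (g * h₀) x₀ hyp
  refine ⟨n, ?_⟩
  have h1 := congrArg (jmap A C₀ C M) hn
  rw [jmap_smul, map_zero, ← hx₀, map_pow, map_mul, ← hh₀, ← mul_smul] at h1
  have e2 : (algebraMap C₀ C g * (hC * algebraMap C₀ C s₁)) ^ n * algebraMap C₀ C s₂ =
      ((algebraMap C₀ C g * algebraMap C₀ C s₁) ^ n * algebraMap C₀ C s₂) * hC ^ n := by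
    ring
  rw [e2, mul_smul] at h1
  have hu' : IsUnit ((algebraMap C₀ C g * algebraMap C₀ C s₁) ^ n * algebraMap C₀ C s₂) :=
    (((hu g hgS).mul (hu s₁ hs₁)).pow n).mul (hu s₂ hs₂)
  exact (hu'.smul_eq_zero).mp h1

theorem Good.of_localization_injective (S : Submonoid C₀)
    (hu : ∀ s ∈ S, IsUnit (algebraMap C₀ C s))
    (hs : ∀ c : C, ∃ s ∈ S, ∃ c₀ : C₀, c * algebraMap C₀ C s = algebraMap C₀ C c₀)
    (hinj : ∀ (N : Type u) [AddCommGroup N] [Module A N],
      Function.Injective (jmap A C₀ C N))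
    (h : Good A C₀) : Good A C := by
  refine Good.of_localization_aux S hu hs ?_ 1 S.one_mem ?_ h
  · intro N _ _ z hz
    refine ⟨1, S.one_mem, ?_⟩
    rw [one_smul]
    exact hinj N (by rw [hz, map_zero])
  · intro N _ _ z s hsS hsz
    refine ⟨0, ?_⟩
    rw [pow_zero, one_smul]
    apply hinj N
    have := congrArg (jmap A C₀ C N) hsz
    rw [jmap_smul, map_zero] at this
    rw [map_zero]
    exact ((hu s hsS).smul_eq_zero).mp this

lemma away_ker (s : C₀) [IsLocalization.Away s C] (N : Type u) [AddCommGroup N] [Module A N]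
    (z : C₀ ⊗[A] N) (hz : jmap A C₀ C N z = 0) : ∃ k : ℕ, s ^ k • z = 0 := by
  let f₁ : N →ₗ[A] C₀ ⊗[A] N := TensorProduct.mk A C₀ N 1
  have hf : IsBaseChange C₀ f₁ := TensorProduct.isBaseChange A N C₀
  let hmap : C₀ ⊗[A] N →ₗ[C₀] C ⊗[A] N :=
    TensorProduct.AlgebraTensorModule.map (Algebra.linearMap C₀ C) LinearMap.id
  have hc : IsBaseChange C ((hmap.restrictScalars A) ∘ₗ f₁) := by
    convert TensorProduct.isBaseChange A N C using 1
    ext n
    simp [hmap, f₁]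
  have hh : IsBaseChange C hmap := IsBaseChange.of_comp hf hc
  have hloc : IsLocalizedModule (Submonoid.powers s) hmap :=
    (isLocalizedModule_iff_isBaseChange (Submonoid.powers s) C hmap).mpr hh
  have hmz : ∀ z : C₀ ⊗[A] N, hmap z = jmap A C₀ C N z := by
    intro z
    induction z using TensorProduct.induction_on with
    | zero => simp
    | tmul c n => simp [hmap, jmap]
    | add x y hx hy => rw [map_add, map_add, hx, hy]
  have h0 : hmap z = 0 := by rw [hmz, hz]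
  obtain ⟨⟨c, k, rfl⟩, hc⟩ := (IsLocalizedModule.eq_zero_iff (Submonoid.powers s) hmap).mp h0
  exact ⟨k, hc⟩

theorem Good.of_isLocalization_away (s : C₀) [IsLocalization.Away s C] (h : Good A C₀) :
    Good A C := by
  refine Good.of_localization_aux (Submonoid.powers s) ?_ ?_ ?_ s
    (Submonoid.mem_powers s) ?_ h
  · rintro _ ⟨k, rfl⟩
    rw [map_pow]
    exact (IsLocalization.Away.algebraMap_isUnit s).pow k
  · intro c
    obtain ⟨⟨c₀, ⟨_, k, rfl⟩⟩, hc⟩ := IsLocalization.surj (Submonoid.powers s) c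
    exact ⟨s ^ k, ⟨k, rfl⟩, c₀, hc⟩
  · intro N _ _ z hz
    obtain ⟨k, hk⟩ := away_ker s N z hz
    exact ⟨s ^ k, ⟨k, rfl⟩, hk⟩
  · rintro N _ _ z _ ⟨k, rfl⟩ hsz
    exact ⟨k, hsz⟩

end loc

end Groth.Agent.Lib.Helper65.Sep
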