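import Mathlib
import Groth.Agent.Lib.Helper65.Sep1
import Groth.Agent.Lib.Helper65.Sep2
import Groth.Agent.Lib.Helper65.Sep3
import Groth.Agent.Lib.Helper65.Sep4

/-! # Separating families over a field: algebras good over every base (helper65, for S4911) -/

set_option autoImplicit false
universe u
open TensorProduct

namespace Groth.Agent.Lib.Helper65.Sep

attribute [local instance] Algebra.TensorProduct.rightAlgebra

/-- A `k`-algebra `B` such that `A → B ⊗[k] A` is good for every `k`-algebra `A`. -/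
def GoodK (k B : Type u) [Field k] [CommRing B] [Algebra k B] : Prop :=
  ∀ (A : Type u) [CommRing A] [Algebra k A], Good A (B ⊗[k] A)

section maps

variable {k : Type u} [Field k] (A : Type u) [CommRing A] [Algebra k A]
  {B₁ B₂ : Type u} [CommRing B₁] [Algebra k B₁] [CommRing B₂] [Algebra k B₂]

/-- `f ⊗ A` as an `A`-linear map for the right module structures. -/
noncomputable def rT (f : B₁ →ₗ[k] B₂) : B₁ ⊗[k] A →ₗ[A] B₂ ⊗[k] A where
  toFun := f.rTensor A
  map_add' := map_add _
  map_smul' := by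
    intro a z
    simp only [RingHom.id_apply, Algebra.smul_def, Algebra.TensorProduct.right_algebraMap_apply]
    induction z using TensorProduct.induction_on with
    | zero => simp
    | tmul b a' =>
      simp only [Algebra.TensorProduct.tmul_mul_tmul, one_mul, LinearMap.rTensor_tmul]
    | add x y hx hy => simp only [mul_add, map_add, hx, hy]

@[simp] lemma rT_tmul (f : B₁ →ₗ[k] B₂) (b : B₁) (a : A) : rT A f (b ⊗ₜ a) = f b ⊗ₜ a := rfl

/-- `f ⊗ A` as an `A`-algebra map for the right algebra structures. -/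
noncomputable def rTA (f : B₁ →ₐ[k] B₂) : B₁ ⊗[k] A →ₐ[A] B₂ ⊗[k] A :=
  { (Algebra.TensorProduct.map f (AlgHom.id k A)).toRingHom with
    commutes' := by
      intro a
      simp [Algebra.TensorProduct.right_algebraMap_apply] }

@[simp] lemma rTA_tmul (f : B₁ →ₐ[k] B₂) (b : B₁) (a : A) : rTA A f (b ⊗ₜ a) = f b ⊗ₜ a := by
  change Algebra.TensorProduct.map f (AlgHom.id k A) (b ⊗ₜ a) = _
  simp

lemma rT_comp_rTA (f : B₁ →ₐ[k] B₂) (r : B₂ →ₗ[k] B₁) (hr : r.comp f.toLinearMap = LinearMap.id)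
    (z : B₁ ⊗[k] A) : rT A r (rTA A f z) = z := by
  induction z using TensorProduct.induction_on with
  | zero => simp
  | tmul b a =>
    rw [rTA_tmul, rT_tmul]
    have : r (f b) = b := by
      have := congrArg (fun l => l b) hr
      simpa using this
    rw [this]
  | add x y hx hy => rw [map_add, map_add, hx, hy]

end maps

section basic

variable {k : Type u} [Field k]

/-- Descent along an injective algebra map. -/
theorem GoodK.of_injective {B D : Type u} [CommRing B] [Algebra k B] [CommRing D] [Algebra k D]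
    (f : B →ₐ[k] D) (hf : Function.Injective f) (h : GoodK k D) : GoodK k B := by
  intro A _ _
  obtain ⟨r, hr⟩ := f.toLinearMap.exists_leftInverse_of_injective
    (LinearMap.ker_eq_bot.mpr hf)
  exact Good.of_retract (rTA A f) (rT A r) (rT_comp_rTA A f r hr) (h A)

theorem GoodK.mvPolynomial (d : ℕ) : GoodK k (MvPolynomial (Fin d) k) := by
  intro A _ _
  exact Good.of_algEquiv
    ((Algebra.TensorProduct.commRight k A (MvPolynomial (Fin d) k)).symm.trans
      (MvPolynomial.algebraTensorAlgEquiv k A)) (Good.mvPolynomial A d)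

/-- Finite algebras over a good field extension are good. -/
theorem GoodK.of_finite {Q D : Type u} [Field Q] [Algebra k Q] [CommRing D] [Algebra Q D]
    [Algebra k D] [IsScalarTower k Q D] [Module.Finite Q D] (h : GoodK k Q) : GoodK k D := by
  intro A _ _
  have hfree : Module.Free (Q ⊗[k] A) (D ⊗[Q] (Q ⊗[k] A)) :=
    Module.Free.of_equiv (Algebra.TensorProduct.commRight Q (Q ⊗[k] A) D).toLinearEquiv
  have hfin : Module.Finite (Q ⊗[k] A) (D ⊗[Q] (Q ⊗[k] A)) :=
    Module.Finite.equiv (Algebra.TensorProduct.commRight Q (Q ⊗[k] A) D).toLinearEquiv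
  have hint : Algebra.IsIntegral (Q ⊗[k] A) (D ⊗[Q] (Q ⊗[k] A)) := Algebra.IsIntegral.of_finite _ _
  have h1 : Good (Q ⊗[k] A) (D ⊗[Q] (Q ⊗[k] A)) := Good.of_free_of_isIntegral
  letI : Algebra A (D ⊗[Q] (Q ⊗[k] A)) :=
    ((algebraMap (Q ⊗[k] A) (D ⊗[Q] (Q ⊗[k] A))).comp (algebraMap A (Q ⊗[k] A))).toAlgebra
  haveI : IsScalarTower A (Q ⊗[k] A) (D ⊗[Q] (Q ⊗[k] A)) :=
    IsScalarTower.of_algebraMap_eq (fun _ => rfl)
  have h2 : Good A (D ⊗[Q] (Q ⊗[k] A)) := Good.trans (h A) h1
  let e₀ := Algebra.TensorProduct.cancelBaseChange k Q Q D A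
  let e : (D ⊗[Q] (Q ⊗[k] A)) ≃ₐ[A] D ⊗[k] A :=
    AlgEquiv.ofRingEquiv (f := e₀.toRingEquiv) (by
      intro a
      change e₀ ((1 : D) ⊗ₜ[Q] ((1 : Q) ⊗ₜ[k] a)) = (1 : D) ⊗ₜ[k] a
      rw [Algebra.TensorProduct.cancelBaseChange_tmul, one_smul])
  exact Good.of_algEquiv e.symm h2

end basic

section fraction

variable {k : Type u} [Field k] {R Q : Type u} [CommRing R] [IsDomain R] [Field Q] [Algebra k R]
  [Algebra k Q] [Algebra R Q] [IsScalarTower k R Q] [IsFractionRing R Q]

theorem GoodK.of_isFractionRing (h : GoodK k R) : GoodK k Q := by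
  intro A _ _
  let ψ : R ⊗[k] A →ₐ[A] Q ⊗[k] A := rTA A (IsScalarTower.toAlgHom k R Q)
  letI : Algebra (R ⊗[k] A) (Q ⊗[k] A) := ψ.toRingHom.toAlgebra
  haveI : IsScalarTower A (R ⊗[k] A) (Q ⊗[k] A) :=
    IsScalarTower.of_algebraMap_eq (fun a => (ψ.commutes a).symm)
  have halg : ∀ z : R ⊗[k] A, algebraMap (R ⊗[k] A) (Q ⊗[k] A) z = ψ z := fun _ => rfl
  let S : Submonoid (R ⊗[k] A) :=
    (nonZeroDivisors R).map (Algebra.TensorProduct.includeLeftRingHom : R →+* R ⊗[k] A)
  refine Good.of_localization_injective S ?_ ?_ ?_ (h A)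
  · rintro _ ⟨r, hr, rfl⟩
    rw [halg]
    change IsUnit (ψ (r ⊗ₜ (1 : A)))
    rw [rTA_tmul]
    have hu : IsUnit (algebraMap R Q r) := IsLocalization.map_units Q ⟨r, hr⟩
    exact hu.map (Algebra.TensorProduct.includeLeftRingHom : Q →+* Q ⊗[k] A)
  · intro c
    induction c using TensorProduct.induction_on with
    | zero => exact ⟨1, S.one_mem, 0, by simp⟩
    | tmul q a =>
      obtain ⟨⟨r, s⟩, hrs⟩ := IsLocalization.surj (nonZeroDivisors R) q
      refine ⟨s.1 ⊗ₜ 1, ⟨s.1, s.2, rfl⟩, r ⊗ₜ a, ?_⟩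
      rw [halg, halg, rTA_tmul, rTA_tmul, Algebra.TensorProduct.tmul_mul_tmul, mul_one]
      simp only [IsScalarTower.coe_toAlgHom']
      rw [hrs]
    | add x y hx hy =>
      obtain ⟨s, hsS, x₀, hx⟩ := hx
      obtain ⟨t, htS, y₀, hy⟩ := hy
      refine ⟨s * t, S.mul_mem hsS htS, x₀ * t + y₀ * s, ?_⟩
      rw [map_add, map_mul, map_mul, map_mul, ← hx, ← hy]
      ring
  · intro N _ _
    obtain ⟨r, hr⟩ := (IsScalarTower.toAlgHom k R Q).toLinearMap.exists_leftInverse_of_injective
      (LinearMap.ker_eq_bot.mpr (IsFractionRing.injective R Q))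
    apply Function.LeftInverse.injective (g := (rT A r).rTensor N)
    intro z
    rw [← LinearMap.comp_apply, ← LinearMap.rTensor_comp]
    have : (rT A r) ∘ₗ (IsScalarTower.toAlgHom A (R ⊗[k] A) (Q ⊗[k] A)).toLinearMap =
        LinearMap.id := by
      ext c
      exact rT_comp_rTA A (IsScalarTower.toAlgHom k R Q) r hr c
    rw [this, LinearMap.rTensor_id, LinearMap.id_apply]

end fraction

end Groth.Agent.Lib.Helper65.Sep
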