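import Mathlib
import Groth.Agent.Lib.Helper65.Sep5

/-! # Separating families over a field: every algebra is good (helper65, for S4911) -/

set_option autoImplicit false
universe u
open TensorProduct

namespace Groth.Agent.Lib.Helper65.Sep

attribute [local instance] Algebra.TensorProduct.rightAlgebra

variable {k : Type u} [Field k]

theorem GoodK.of_subsingleton {B : Type u} [CommRing B] [Algebra k B] [Subsingleton B] :
    GoodK k B := by
  intro A _ _ M _ _ ι N _ _ u _ f x _
  haveI : Subsingleton (B ⊗[k] A) := by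
    refine subsingleton_of_zero_eq_one ?_
    rw [Algebra.TensorProduct.one_def, Subsingleton.elim (1 : B) 0, TensorProduct.zero_tmul]
  haveI : Subsingleton ((B ⊗[k] A) ⊗[A] M) := Module.subsingleton (B ⊗[k] A) _
  exact ⟨0, Subsingleton.elim _ _⟩

theorem GoodK.of_domain_fg {B : Type u} [CommRing B] [IsDomain B] [Algebra k B]
    [Algebra.FiniteType k B] : GoodK k B := by
  obtain ⟨d, g, hinj, hint⟩ := exists_integral_inj_algHom_of_fg k B
  letI : Algebra (MvPolynomial (Fin d) k) B := g.toRingHom.toAlgebra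
  haveI : IsScalarTower k (MvPolynomial (Fin d) k) B :=
    IsScalarTower.of_algebraMap_eq (fun c => (g.commutes c).symm)
  haveI : Algebra.IsIntegral (MvPolynomial (Fin d) k) B := ⟨hint⟩
  haveI : Algebra.FiniteType (MvPolynomial (Fin d) k) B :=
    Algebra.FiniteType.of_restrictScalars_finiteType k (MvPolynomial (Fin d) k) B
  haveI : Module.Finite (MvPolynomial (Fin d) k) B := Algebra.IsIntegral.finite
  have hQ : GoodK k (FractionRing (MvPolynomial (Fin d) k)) :=
    GoodK.of_isFractionRing (R := MvPolynomial (Fin d) k) (GoodK.mvPolynomial d)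
  have hD : GoodK k (FractionRing (MvPolynomial (Fin d) k) ⊗[MvPolynomial (Fin d) k] B) :=
    GoodK.of_finite (Q := FractionRing (MvPolynomial (Fin d) k)) hQ
  let incl : B →ₐ[k] FractionRing (MvPolynomial (Fin d) k) ⊗[MvPolynomial (Fin d) k] B :=
    (Algebra.TensorProduct.includeRight :
      B →ₐ[MvPolynomial (Fin d) k] FractionRing (MvPolynomial (Fin d) k) ⊗[MvPolynomial (Fin d) k] B
      ).restrictScalars k
  have hincl : Function.Injective incl := by
    have hloc : IsLocalizedModule (nonZeroDivisors (MvPolynomial (Fin d) k))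
        (TensorProduct.mk (MvPolynomial (Fin d) k) (FractionRing (MvPolynomial (Fin d) k)) B 1) :=
      (isLocalizedModule_iff_isBaseChange (nonZeroDivisors (MvPolynomial (Fin d) k))
        (FractionRing (MvPolynomial (Fin d) k)) _).mpr
        (TensorProduct.isBaseChange (MvPolynomial (Fin d) k) B
          (FractionRing (MvPolynomial (Fin d) k)))
    rw [injective_iff_map_eq_zero]
    intro b hb
    have hb' : (TensorProduct.mk (MvPolynomial (Fin d) k)
        (FractionRing (MvPolynomial (Fin d) k)) B 1) b = 0 := hb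
    obtain ⟨s, hs⟩ := (IsLocalizedModule.eq_zero_iff
      (nonZeroDivisors (MvPolynomial (Fin d) k)) _).mp hb'
    have hs' : g s.1 * b = 0 := by
      have : (s : MvPolynomial (Fin d) k) • b = 0 := hs
      rwa [Algebra.smul_def] at this
    rcases mul_eq_zero.mp hs' with h0 | h0
    · exfalso
      have : (s : MvPolynomial (Fin d) k) = 0 := hinj (by rw [h0, map_zero])
      exact nonZeroDivisors.ne_zero s.2 this
    · exact h0
  exact GoodK.of_injective incl hincl hD

section noeth

variable {B : Type u} [CommRing B] [Algebra k B]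

lemma rTA_eq_rT (A : Type u) [CommRing A] [Algebra k A] {B₁ B₂ : Type u} [CommRing B₁]
    [Algebra k B₁] [CommRing B₂] [Algebra k B₂] (f : B₁ →ₐ[k] B₂) (z : B₁ ⊗[k] A) :
    rTA A f z = rT A f.toLinearMap z := by
  induction z using TensorProduct.induction_on with
  | zero => simp
  | tmul b a => simp
  | add x y hx hy => rw [map_add, map_add, hx, hy]

/-- The inductive step: a non-prime proper ideal. -/
theorem GoodK.step (I : Ideal B) (a b : B) (ha : a ∉ I) (hb : b ∉ I) (hab : a * b ∈ I)
    (h1 : GoodK k (B ⧸ (I ⊔ Ideal.span {a})))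
    (h2 : GoodK k (B ⧸ (Submodule.comap (LinearMap.mulRight B a) I : Ideal B))) :
    GoodK k (B ⧸ I) := by
  set I₁ : Ideal B := I ⊔ Ideal.span {a} with hI₁
  set I₂ : Ideal B := Submodule.comap (LinearMap.mulRight B a) I with hI₂
  have hle₁ : I ≤ I₁ := le_sup_left
  have hmem₂ : ∀ x, x ∈ I₂ ↔ x * a ∈ I := by
    intro x
    rw [hI₂, Submodule.mem_comap, LinearMap.mulRight_apply]
  have hle₂ : I ≤ I₂ := fun x hx => (hmem₂ x).mpr (I.mul_mem_right a hx)
  let π₁ : B ⧸ I →ₐ[k] B ⧸ I₁ := Ideal.Quotient.factorₐ k hle₁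
  let π₂ : B ⧸ I →ₐ[k] B ⧸ I₂ := Ideal.Quotient.factorₐ k hle₂
  let f : B →ₗ[B] B ⧸ I := LinearMap.toSpanSingleton B (B ⧸ I) (Ideal.Quotient.mk I a)
  have hf : ∀ x, f x = Ideal.Quotient.mk I (x * a) := by
    intro x
    change x • Ideal.Quotient.mk I a = _
    rw [map_mul]; rfl
  have hker : LinearMap.ker f = I₂ := by
    ext x
    rw [LinearMap.mem_ker, hf, Ideal.Quotient.eq_zero_iff_mem, hmem₂]
  let μB : B ⧸ I₂ →ₗ[B] B ⧸ I := Submodule.liftQ I₂ f (le_of_eq hker.symm)
  let μ : B ⧸ I₂ →ₗ[k] B ⧸ I := μB.restrictScalars k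
  have hμ : ∀ x : B, μ (Ideal.Quotient.mk I₂ x) = Ideal.Quotient.mk I (x * a) := by
    intro x
    change μB (Submodule.Quotient.mk x) = _
    rw [Submodule.liftQ_apply, hf]
  have hμinj : Function.Injective μ := by
    have : LinearMap.ker μB = ⊥ := Submodule.ker_liftQ_eq_bot _ _ _ (le_of_eq hker)
    intro x y hxy
    exact LinearMap.ker_eq_bot.mp this hxy
  have hπ₁ : ∀ x : B, π₁ (Ideal.Quotient.mk I x) = Ideal.Quotient.mk I₁ x := fun x => rfl
  have hπ₂ : ∀ x : B, π₂ (Ideal.Quotient.mk I x) = Ideal.Quotient.mk I₂ x := fun x => rfl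
  have hexact : Function.Exact μ π₁.toLinearMap := by
    intro y
    obtain ⟨y, rfl⟩ := Ideal.Quotient.mk_surjective y
    change π₁ (Ideal.Quotient.mk I y) = 0 ↔ _
    rw [hπ₁, Ideal.Quotient.eq_zero_iff_mem, hI₁, Submodule.mem_sup]
    constructor
    · rintro ⟨i, hi, j, hj, hij⟩
      obtain ⟨c, rfl⟩ := Ideal.mem_span_singleton'.mp hj
      refine ⟨Ideal.Quotient.mk I₂ c, ?_⟩
      rw [hμ, ← hij, map_add, Ideal.Quotient.eq_zero_iff_mem.mpr hi, zero_add]
    · rintro ⟨z, hz⟩
      obtain ⟨c, rfl⟩ := Ideal.Quotient.mk_surjective z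
      rw [hμ, Ideal.Quotient.eq] at hz
      refine ⟨y - c * a, ?_, c * a, Ideal.mem_span_singleton'.mpr ⟨c, rfl⟩, by ring⟩
      have := I.neg_mem hz
      rwa [neg_sub] at this
  have hπ₁surj : Function.Surjective π₁.toLinearMap := by
    intro y
    obtain ⟨y, rfl⟩ := Ideal.Quotient.mk_surjective y
    exact ⟨Ideal.Quotient.mk I y, rfl⟩
  have hsemi : ∀ (y : B ⧸ I) (z : B ⧸ I₂), μ (π₂ y * z) = y * μ z := by
    intro y z
    obtain ⟨y, rfl⟩ := Ideal.Quotient.mk_surjective y
    obtain ⟨z, rfl⟩ := Ideal.Quotient.mk_surjective z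
    rw [hπ₂, ← map_mul, hμ, hμ, ← map_mul]
    congr 1; ring
  obtain ⟨r, hr⟩ := μ.exists_leftInverse_of_injective (LinearMap.ker_eq_bot.mpr hμinj)
  intro A _ _ M _ _ ι N _ _ u hsep h x hx
  -- tensor level maps
  let φ₁ : (B ⧸ I) ⊗[k] A →ₐ[A] (B ⧸ I₁) ⊗[k] A := rTA A π₁
  let φ₂ : (B ⧸ I) ⊗[k] A →ₐ[A] (B ⧸ I₂) ⊗[k] A := rTA A π₂
  let μA : (B ⧸ I₂) ⊗[k] A →ₗ[A] (B ⧸ I) ⊗[k] A := rT A μ
  have hμA : ∀ (c : (B ⧸ I) ⊗[k] A) (c₂ : (B ⧸ I₂) ⊗[k] A), μA (φ₂ c * c₂) = c * μA c₂ := by
    intro c c₂
    induction c using TensorProduct.induction_on with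
    | zero => simp
    | tmul y a' =>
      induction c₂ using TensorProduct.induction_on with
      | zero => simp
      | tmul z a'' =>
        change rT A μ (rTA A π₂ (y ⊗ₜ a') * z ⊗ₜ a'') = y ⊗ₜ a' * rT A μ (z ⊗ₜ a'')
        rw [rTA_tmul, Algebra.TensorProduct.tmul_mul_tmul, rT_tmul, rT_tmul,
          Algebra.TensorProduct.tmul_mul_tmul, hsemi]
      | add p q hp hq => rw [mul_add, map_add, hp, hq, map_add, mul_add]
    | add p q hp hq => rw [map_add, add_mul, map_add, hp, hq, add_mul]
  have hμM : ∀ (N' : Type u) [AddCommGroup N'] [Module A N'] (c : (B ⧸ I) ⊗[k] A)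
      (z : ((B ⧸ I₂) ⊗[k] A) ⊗[A] N'), μA.rTensor N' (φ₂ c • z) = c • μA.rTensor N' z := by
    intro N' _ _ c z
    induction z using TensorProduct.induction_on with
    | zero => simp
    | tmul c₂ n =>
      rw [TensorProduct.smul_tmul', LinearMap.rTensor_tmul, LinearMap.rTensor_tmul,
        TensorProduct.smul_tmul', smul_eq_mul, smul_eq_mul, hμA]
    | add p q hp hq => rw [smul_add, map_add, hp, hq, map_add, smul_add]
  have hμMinj : ∀ (N' : Type u) [AddCommGroup N'] [Module A N'],
      Function.Injective (μA.rTensor N') := by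
    intro N' _ _
    apply Function.LeftInverse.injective (g := (rT A r).rTensor N')
    intro z
    rw [← LinearMap.comp_apply, ← LinearMap.rTensor_comp]
    have : rT A r ∘ₗ μA = LinearMap.id := by
      ext c
      change rT A r (rT A μ c) = c
      induction c using TensorProduct.induction_on with
      | zero => simp
      | tmul z a' =>
        rw [rT_tmul, rT_tmul]
        have : r (μ z) = z := by
          have := congrArg (fun l => l z) hr
          simpa using this
        rw [this]
      | add p q hp hq => rw [map_add, map_add, hp, hq]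
    rw [this, LinearMap.rTensor_id, LinearMap.id_apply]
  have hexA : Function.Exact μA φ₁.toLinearMap := by
    have := rTensor_exact A hexact hπ₁surj
    intro c
    rw [show φ₁.toLinearMap c = (π₁.toLinearMap.rTensor A) c from rTA_eq_rT A π₁ c]
    exact this c
  have hsurjA : Function.Surjective φ₁.toLinearMap := by
    intro c
    obtain ⟨c', hc'⟩ := LinearMap.rTensor_surjective A hπ₁surj c
    exact ⟨c', (rTA_eq_rT A π₁ c').trans hc'⟩
  have hexM : Function.Exact (μA.rTensor M) (φ₁.toLinearMap.rTensor M) :=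
    rTensor_exact M hexA hsurjA
  -- Stage 1
  obtain ⟨n₀, hn₀⟩ := h1 A M ι N u hsep (φ₁ h) (φ₁.toLinearMap.rTensor M x) (fun i => by
    obtain ⟨n, hn⟩ := hx i
    refine ⟨n, ?_⟩
    change (u i).baseChange _ _ = 0
    rw [← map_pow, ← rTensor_smul, ← rTensor_baseChange]
    have : (u i).baseChange _ (h ^ n • x) = 0 := hn
    rw [this, map_zero])
  rw [← map_pow, ← rTensor_smul] at hn₀
  obtain ⟨x₂, hx₂⟩ := (hexM _).mp hn₀
  -- Stage 2
  obtain ⟨n₂, hn₂⟩ := h2 A M ι N u hsep (φ₂ h) x₂ (fun i => by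
    obtain ⟨n, hn⟩ := hx i
    refine ⟨n, ?_⟩
    change (u i).baseChange _ _ = 0
    apply hμMinj (N i)
    rw [map_zero, rTensor_baseChange, ← map_pow, hμM, hx₂, smul_comm, map_smul]
    have : (u i).baseChange _ (h ^ n • x) = 0 := hn
    rw [this, smul_zero])
  refine ⟨n₂ + n₀, ?_⟩
  have := congrArg (μA.rTensor M) hn₂
  rw [← map_pow, hμM, hx₂, map_zero] at this
  rw [pow_add, mul_smul]
  exact this

theorem GoodK.of_fg [Algebra.FiniteType k B] : GoodK k B := by
  haveI : IsNoetherianRing B := Algebra.FiniteType.isNoetherianRing k B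
  have key : ∀ I : Ideal B, GoodK k (B ⧸ I) := by
    intro I
    refine IsNoetherian.induction (P := fun I : Ideal B => GoodK k (B ⧸ I)) ?_ I
    intro (I : Ideal B) ih
    by_cases hprime : Ideal.IsPrime I
    · haveI := hprime
      exact GoodK.of_domain_fg
    · rcases Ideal.not_isPrime_iff.mp hprime with htop | ⟨a, ha, b, hb, hab⟩
      · haveI : Subsingleton (B ⧸ I) := by
          rw [htop]; exact Ideal.Quotient.subsingleton_iff.mpr rfl
        exact GoodK.of_subsingleton
      · refine GoodK.step I a b ha hb hab (ih _ ?_) (ih _ ?_)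
        · refine lt_of_le_of_ne le_sup_left ?_
          intro he
          apply ha
          rw [he]
          exact Ideal.mem_sup_right (Ideal.mem_span_singleton_self a)
        · have hle : I ≤ (Submodule.comap (LinearMap.mulRight B a) I : Ideal B) := by
            intro x hx
            rw [Submodule.mem_comap, LinearMap.mulRight_apply]
            exact I.mul_mem_right a hx
          refine lt_of_le_of_ne hle ?_
          intro he
          apply hb
          rw [he, Submodule.mem_comap, LinearMap.mulRight_apply]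
          rwa [mul_comm]
  exact GoodK.of_injective (Ideal.Quotient.mkₐ k (⊥ : Ideal B))
    ((injective_iff_map_eq_zero _).mpr (fun x hx => by
      have := Ideal.Quotient.eq_zero_iff_mem.mp hx
      simpa using this)) (key ⊥)

end noeth

end Groth.Agent.Lib.Helper65.Sep
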