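import Mathlib
import Groth.Agent.Lib.Helper65.Sep6

/-! # Separating families over a field: every algebra is good (helper65, for S4911) -/

set_option autoImplicit false
universe u
open TensorProduct

namespace Groth.Agent.Lib.Helper65.Sep

attribute [local instance] Algebra.TensorProduct.rightAlgebra

variable {k : Type u} [Field k] {B : Type u} [CommRing B] [Algebra k B]
  (A : Type u) [CommRing A] [Algebra k A]

lemma rTA_val_inclusion {B₀ B₁ : Subalgebra k B} (hle : B₀ ≤ B₁) (z : B₀ ⊗[k] A) :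
    rTA A B₁.val (rTA A (Subalgebra.inclusion hle) z) = rTA A B₀.val z := by
  induction z using TensorProduct.induction_on with
  | zero => simp
  | tmul b a => rw [rTA_tmul, rTA_tmul, rTA_tmul]; rfl
  | add x y hx hy => rw [map_add, map_add, map_add, hx, hy]

lemma rTA_val_inclusion_mod {B₀ B₁ : Subalgebra k B} (hle : B₀ ≤ B₁) (M : Type u)
    [AddCommGroup M] [Module A M] (x : (B₀ ⊗[k] A) ⊗[A] M) :
    (rTA A B₁.val).toLinearMap.rTensor M
      ((rTA A (Subalgebra.inclusion hle)).toLinearMap.rTensor M x) =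
      (rTA A B₀.val).toLinearMap.rTensor M x := by
  induction x using TensorProduct.induction_on with
  | zero => simp
  | tmul c m =>
    simp only [LinearMap.rTensor_tmul, AlgHom.toLinearMap_apply, rTA_val_inclusion]
  | add x y hx hy => rw [map_add, map_add, map_add, hx, hy]

lemma exists_fg_ring (c : B ⊗[k] A) :
    ∃ B₀ : Subalgebra k B, B₀.FG ∧ c ∈ Set.range (rTA A B₀.val) := by
  induction c using TensorProduct.induction_on with
  | zero => exact ⟨⊥, Subalgebra.fg_bot, 0, by simp⟩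
  | tmul b a =>
    refine ⟨Algebra.adjoin k {b}, ⟨{b}, by simp⟩, ⟨b, Algebra.subset_adjoin rfl⟩ ⊗ₜ a, ?_⟩
    rw [rTA_tmul]; rfl
  | add x y hx hy =>
    obtain ⟨B₀, h₀, x₀, rfl⟩ := hx
    obtain ⟨B₁, h₁, y₀, rfl⟩ := hy
    refine ⟨B₀ ⊔ B₁, h₀.sup h₁, rTA A (Subalgebra.inclusion le_sup_left) x₀ +
      rTA A (Subalgebra.inclusion le_sup_right) y₀, ?_⟩
    rw [map_add, rTA_val_inclusion, rTA_val_inclusion]

lemma exists_fg_mod (M : Type u) [AddCommGroup M] [Module A M] (x : (B ⊗[k] A) ⊗[A] M) :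
    ∃ B₀ : Subalgebra k B, B₀.FG ∧
      x ∈ Set.range ((rTA A B₀.val).toLinearMap.rTensor M) := by
  induction x using TensorProduct.induction_on with
  | zero => exact ⟨⊥, Subalgebra.fg_bot, 0, by simp⟩
  | tmul c m =>
    obtain ⟨B₀, h₀, c₀, rfl⟩ := exists_fg_ring A c
    exact ⟨B₀, h₀, c₀ ⊗ₜ m, by simp⟩
  | add x y hx hy =>
    obtain ⟨B₀, h₀, x₀, rfl⟩ := hx
    obtain ⟨B₁, h₁, y₀, rfl⟩ := hy
    refine ⟨B₀ ⊔ B₁, h₀.sup h₁,
      (rTA A (Subalgebra.inclusion le_sup_left)).toLinearMap.rTensor M x₀ +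
      (rTA A (Subalgebra.inclusion le_sup_right)).toLinearMap.rTensor M y₀, ?_⟩
    rw [map_add, rTA_val_inclusion_mod, rTA_val_inclusion_mod]

variable (k B) in
/-- Every algebra over a field is good over every base. -/
theorem GoodK.all : GoodK k B := by
  intro A _ _ M _ _ ι N _ _ u hsep h x hx
  obtain ⟨B₀, hB₀, h₀', hh₀'⟩ := exists_fg_ring A h
  obtain ⟨B₁, hB₁, x₁', hx₁'⟩ := exists_fg_mod A M x
  -- pass to the join
  set B₂ : Subalgebra k B := B₀ ⊔ B₁ with hB₂
  have hfg : B₂.FG := hB₀.sup hB₁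
  let h₀ : B₂ ⊗[k] A := rTA A (Subalgebra.inclusion (le_sup_left : B₀ ≤ B₂)) h₀'
  let x₀ : (B₂ ⊗[k] A) ⊗[A] M :=
    (rTA A (Subalgebra.inclusion (le_sup_right : B₁ ≤ B₂))).toLinearMap.rTensor M x₁'
  have hh₀ : rTA A B₂.val h₀ = h := by rw [rTA_val_inclusion]; exact hh₀'
  have hx₀ : (rTA A B₂.val).toLinearMap.rTensor M x₀ = x := by
    rw [rTA_val_inclusion_mod]; exact hx₁'
  haveI : Algebra.FiniteType k B₂ := (Subalgebra.fg_iff_finiteType B₂).mp hfg
  have hgood : Good A (B₂ ⊗[k] A) := GoodK.of_fg A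
  obtain ⟨r, hr⟩ := B₂.val.toLinearMap.exists_leftInverse_of_injective
    (LinearMap.ker_eq_bot.mpr Subtype.val_injective)
  have hinj : ∀ (N' : Type u) [AddCommGroup N'] [Module A N'],
      Function.Injective ((rTA A B₂.val).toLinearMap.rTensor N') := by
    intro N' _ _
    apply Function.LeftInverse.injective (g := (rT A r).rTensor N')
    intro z
    rw [← LinearMap.comp_apply, ← LinearMap.rTensor_comp]
    have : rT A r ∘ₗ (rTA A B₂.val).toLinearMap = LinearMap.id := by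
      ext c
      exact rT_comp_rTA A B₂.val r hr c
    rw [this, LinearMap.rTensor_id, LinearMap.id_apply]
  obtain ⟨n, hn⟩ := hgood M ι N u hsep h₀ x₀ (fun i => by
    obtain ⟨n, hn⟩ := hx i
    refine ⟨n, ?_⟩
    change (u i).baseChange _ _ = 0
    apply hinj (N i)
    rw [map_zero, rTensor_baseChange, rTensor_smul, map_pow, hh₀, hx₀]
    exact hn)
  refine ⟨n, ?_⟩
  have := congrArg ((rTA A B₂.val).toLinearMap.rTensor M) hn
  rw [rTensor_smul, map_pow, hh₀, hx₀, map_zero] at this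
  exact this

end Groth.Agent.Lib.Helper65.Sep
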