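import Mathlib.RingTheory.Finiteness.Nakayama
import Mathlib.Algebra.Module.Torsion.Basic
import Mathlib.RingTheory.TensorProduct.Quotient
import Mathlib.LinearAlgebra.Dual.Lemmas
import Mathlib.RingTheory.Spectrum.Prime.Basic
import Mathlib.RingTheory.Spectrum.Prime.RingHom
import Mathlib.RingTheory.Ideal.Quotient.Basic
import Mathlib.LinearAlgebra.TensorProduct.RightExactness

/-!
# Descent along ring maps that are surjective on spectra (helper65)

* `subsingleton_of_tensor`: finite module `C` with `S ⊗ C = 0` is zero.
* `surjective_of_lTensor`, `bijective_of_lTensor`: a map of finite (projective) modules which is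
  surjective / bijective after base change is so.
-/

set_option autoImplicit false

namespace Groth.Agent.Lib.Helper65.SpecSurj

open TensorProduct

/-- a finite module vanishing after base change along a ring map which is surjective on spectra
vanishes -/
theorem subsingleton_of_tensor (R : Type*) [CommRing R] (S : Type*) [CommRing S] [Algebra R S]
    (hS : Function.Surjective (PrimeSpectrum.comap (algebraMap R S)))
    (C : Type*) [AddCommGroup C] [Module R C] [Module.Finite R C]
    [Subsingleton (S ⊗[R] C)] : Subsingleton C := by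
  by_contra hC
  rw [not_subsingleton_iff_nontrivial] at hC
  obtain ⟨c₀, hc₀⟩ := exists_ne (0 : C)
  have hann : Module.annihilator R C ≠ ⊤ := by
    intro h
    have : (1 : R) ∈ Module.annihilator R C := h ▸ Submodule.mem_top
    rw [Module.mem_annihilator] at this
    exact hc₀ (by simpa using this c₀)
  obtain ⟨m, hm, hle⟩ := Ideal.exists_le_maximal _ hann
  have hnak : ¬ ((⊤ : Submodule R C) ≤ m • (⊤ : Submodule R C)) := by
    intro h
    obtain ⟨r, hr1, hr2⟩ := Submodule.exists_sub_one_mem_and_smul_eq_zero_of_fg_of_le_smul m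
      (⊤ : Submodule R C) Module.Finite.fg_top h
    have hrann : r ∈ Module.annihilator R C := by
      rw [Module.mem_annihilator]
      intro c
      exact hr2 c Submodule.mem_top
    have hrm : r ∈ m := hle hrann
    have : (1 : R) ∈ m := by
      have := m.sub_mem hrm hr1
      simpa using this
    exact hm.ne_top ((Ideal.eq_top_iff_one m).mpr this)
  obtain ⟨c, -, hc⟩ := SetLike.not_le_iff_exists.mp hnak
  letI : Field (R ⧸ m) := Ideal.Quotient.field m
  have hx : (Submodule.Quotient.mk c : C ⧸ m • (⊤ : Submodule R C)) ≠ 0 := by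
    rw [Ne, Submodule.Quotient.mk_eq_zero]
    exact hc
  obtain ⟨f, hf⟩ := Module.Projective.exists_dual_eq_one (R ⧸ m) hx
  let g : C →ₗ[R] (R ⧸ m) := (f.restrictScalars R) ∘ₗ (Submodule.mkQ _)
  have hgc : g c = 1 := hf
  have hg : Function.Surjective g := by
    intro y
    obtain ⟨r, rfl⟩ := Ideal.Quotient.mk_surjective y
    refine ⟨r • c, ?_⟩
    rw [map_smul, hgc, Algebra.smul_def, mul_one]
    rfl
  have hsurj : Function.Surjective (g.lTensor S) := LinearMap.lTensor_surjective S hg
  haveI : Subsingleton (S ⊗[R] (R ⧸ m)) := hsurj.subsingleton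
  haveI : Subsingleton (S ⧸ m.map (algebraMap R S)) :=
    (Algebra.TensorProduct.quotIdealMapEquivTensorQuot S m).toEquiv.subsingleton
  have hmap : m.map (algebraMap R S) = ⊤ := Ideal.Quotient.subsingleton_iff.mp inferInstance
  obtain ⟨q, hq⟩ := hS ⟨m, hm.isPrime⟩
  have hmq : m.map (algebraMap R S) ≤ q.asIdeal := by
    rw [Ideal.map_le_iff_le_comap]
    have := congrArg PrimeSpectrum.asIdeal hq
    rw [PrimeSpectrum.comap_asIdeal] at this
    rw [this]
  rw [hmap] at hmq
  exact q.2.ne_top (top_le_iff.mp hmq)

section maps

variable (R : Type*) [CommRing R] (S : Type*) [CommRing S] [Algebra R S]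
  (hS : Function.Surjective (PrimeSpectrum.comap (algebraMap R S)))
  {P Q : Type*} [AddCommGroup P] [Module R P] [AddCommGroup Q] [Module R Q]

include hS in
theorem surjective_of_lTensor [Module.Finite R Q] (φ : P →ₗ[R] Q)
    (h : Function.Surjective (φ.lTensor S)) : Function.Surjective φ := by
  haveI : Subsingleton (S ⊗[R] (Q ⧸ LinearMap.range φ)) := by
    have hz : ∀ w : S ⊗[R] (Q ⧸ LinearMap.range φ), w = 0 := by
      intro w
      obtain ⟨y, rfl⟩ := LinearMap.lTensor_surjective S
        (Submodule.mkQ_surjective (LinearMap.range φ)) w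
      obtain ⟨z, rfl⟩ := h y
      rw [← LinearMap.comp_apply, ← LinearMap.lTensor_comp]
      have : (LinearMap.range φ).mkQ ∘ₗ φ = 0 := LinearMap.range_mkQ_comp φ
      rw [this, LinearMap.lTensor_zero]
      rfl
    exact ⟨fun a b => by rw [hz a, hz b]⟩
  haveI := subsingleton_of_tensor R S hS (Q ⧸ LinearMap.range φ)
  rw [← LinearMap.range_eq_top]
  exact Submodule.Quotient.subsingleton_iff.mp inferInstance

include hS in
theorem injective_of_lTensor [Module.Finite R P] [Module.Projective R Q] (φ : P →ₗ[R] Q)
    (hφ : Function.Surjective φ) (h : Function.Injective (φ.lTensor S)) :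
    Function.Injective φ := by
  obtain ⟨σ, hσ⟩ := Module.projective_lifting_property φ LinearMap.id hφ
  let π : P →ₗ[R] P := LinearMap.id - σ ∘ₗ φ
  have hφσ : ∀ y, φ (σ y) = y := fun y => LinearMap.congr_fun hσ y
  have hπidem : ∀ x, π (π x) = π x := by
    intro x
    simp only [π, LinearMap.sub_apply, LinearMap.id_apply, LinearMap.comp_apply, map_sub, hφσ]
    simp
  have hlπ : π.lTensor S = 0 := by
    have h1 : (φ.lTensor S) ∘ₗ (σ.lTensor S) = LinearMap.id := by
      rw [← LinearMap.lTensor_comp, hσ, LinearMap.lTensor_id]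
    have h2 : (σ.lTensor S) ∘ₗ (φ.lTensor S) = LinearMap.id := by
      apply LinearMap.ext
      intro z
      apply h
      have := LinearMap.congr_fun h1 (φ.lTensor S z)
      simpa using this
    rw [LinearMap.lTensor_sub, LinearMap.lTensor_id, LinearMap.lTensor_comp, h2]
    exact sub_self (LinearMap.id : S ⊗[R] P →ₗ[R] S ⊗[R] P)
  haveI : Module.Finite R (LinearMap.range π) := Module.Finite.range π
  haveI : Subsingleton (S ⊗[R] (LinearMap.range π)) := by
    have hρι : π.rangeRestrict ∘ₗ (LinearMap.range π).subtype = LinearMap.id := by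
      apply LinearMap.ext
      rintro ⟨x, y, rfl⟩
      apply Subtype.ext
      simp only [LinearMap.comp_apply, Submodule.subtype_apply, LinearMap.codRestrict_apply,
        LinearMap.id_apply]
      exact hπidem y
    have hz : ∀ w : S ⊗[R] (LinearMap.range π), w = 0 := by
      intro w
      obtain ⟨z, rfl⟩ := LinearMap.lTensor_surjective S (LinearMap.surjective_rangeRestrict π) w
      have h3 : (π.rangeRestrict.lTensor S) z =
          (π.rangeRestrict.lTensor S) (((LinearMap.range π).subtype.lTensor S)
            ((π.rangeRestrict.lTensor S) z)) := by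
        rw [← LinearMap.comp_apply (π.rangeRestrict.lTensor S), ← LinearMap.lTensor_comp, hρι,
          LinearMap.lTensor_id, LinearMap.id_apply]
      rw [h3, ← LinearMap.comp_apply ((LinearMap.range π).subtype.lTensor S),
        ← LinearMap.lTensor_comp, LinearMap.rangeRestrict, LinearMap.subtype_comp_codRestrict, hlπ]
      simp
    exact ⟨fun a b => by rw [hz a, hz b]⟩
  haveI := subsingleton_of_tensor R S hS (LinearMap.range π)
  rw [injective_iff_map_eq_zero]
  intro x hx
  have hπx : π x = 0 := by
    have : (⟨π x, x, rfl⟩ : LinearMap.range π) = 0 := Subsingleton.elim _ _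
    exact congrArg Subtype.val this
  have : π x = x := by
    simp only [π, LinearMap.sub_apply, LinearMap.id_apply, LinearMap.comp_apply, hx, map_zero,
      sub_zero]
  rw [← this, hπx]

include hS in
theorem bijective_of_lTensor [Module.Finite R P] [Module.Finite R Q] [Module.Projective R Q]
    (φ : P →ₗ[R] Q) (h : Function.Bijective (φ.lTensor S)) : Function.Bijective φ := by
  have hsurj := surjective_of_lTensor R S hS φ h.2
  exact ⟨injective_of_lTensor R S hS φ hsurj h.1, hsurj⟩

end maps

end Groth.Agent.Lib.Helper65.SpecSurj
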