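import Mathlib

namespace Groth.Agent.Lib.Helper65.SpreadOut

open Ideal

/-- L1: a map from a f.p. algebra to a localization lifts to a localization at one element. -/
theorem exists_lift_away {R : Type*} [CommRing R] {S : Type*} [CommRing S] [Algebra R S]
    [Algebra.FinitePresentation R S] {C : Type*} [CommRing C] [Algebra R C] (T : Submonoid C)
    {CT : Type*} [CommRing CT] [Algebra C CT] [Algebra R CT] [IsScalarTower R C CT]
    [IsLocalization T CT] (φ : S →ₐ[R] CT) :
    ∃ t ∈ T, ∃ φt : S →ₐ[R] Localization.Away t, ∀ (κ : Localization.Away t →ₐ[C] CT) (s : S),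
      κ (φt s) = φ s := by
  classical
  obtain ⟨n, π, hπ, gens, hgens⟩ := Algebra.FinitePresentation.out (R := R) (A := S)
  obtain ⟨⟨t0, ht0⟩, hb⟩ := IsLocalization.exist_integer_multiples T Finset.univ
    (fun i : Fin n => φ (π (MvPolynomial.X i)))
  choose b hb using fun i => hb i (Finset.mem_univ i)
  -- first stage
  let θ0 : MvPolynomial (Fin n) R →ₐ[R] Localization.Away t0 :=
    MvPolynomial.aeval (fun i => IsLocalization.mk' (Localization.Away t0) (b i)
      (⟨t0, Submonoid.mem_powers t0⟩ : Submonoid.powers t0))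
  have hunit0 : IsUnit (algebraMap C CT t0) := IsLocalization.map_units CT ⟨t0, ht0⟩
  let ι0 : Localization.Away t0 →ₐ[C] CT :=
    IsLocalization.Away.liftAlgHom (A := C) (R := C) (S := Localization.Away t0) t0
      (f := Algebra.ofId C CT) hunit0
  have hι0θ0 : ∀ p, ι0 (θ0 p) = φ (π p) := by
    intro p
    have : (ι0.restrictScalars R).comp θ0 = φ.comp π := by
      apply MvPolynomial.algHom_ext
      intro i
      simp only [AlgHom.comp_apply, AlgHom.restrictScalars_apply, θ0, MvPolynomial.aeval_X]
      have h1 : ι0 (IsLocalization.mk' (Localization.Away t0) (b i)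
          (⟨t0, Submonoid.mem_powers t0⟩ : Submonoid.powers t0)) * algebraMap C CT t0
          = algebraMap C CT (b i) := by
        have : algebraMap C CT t0 = ι0 (algebraMap C _ t0) := by
          simp [ι0]
        rw [this, ← map_mul]
        erw [IsLocalization.mk'_spec]
        simp [ι0]
      have h2 := hb i
      simp only [Algebra.smul_def] at h2
      apply hunit0.mul_right_cancel
      rw [h1, h2, mul_comm]
    exact DFunLike.congr_fun this p
  -- each generator dies after inverting one more element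
  have hgen : ∀ h ∈ gens, ∃ m ∈ T, ∃ (k : ℕ) (c : C), θ0 h * algebraMap C _ t0 ^ k = algebraMap C _ c ∧
      m * c = 0 := by
    intro h hh
    obtain ⟨k, c, hc⟩ := IsLocalization.Away.surj t0 (θ0 h)
    have h0 : algebraMap C CT c = 0 := by
      have : ι0 (algebraMap C _ c) = 0 := by
        rw [← hc, map_mul, hι0θ0]
        have : π h = 0 := by
          have : h ∈ RingHom.ker π.toRingHom := hgens ▸ Ideal.subset_span hh
          exact this
        rw [this, map_zero, zero_mul]
      simpa [ι0] using this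
    obtain ⟨⟨m, hm⟩, hmc⟩ := (IsLocalization.map_eq_zero_iff T CT c).mp h0
    exact ⟨m, hm, k, c, hc, hmc⟩
  choose! m hmT k c hc hmc using hgen
  set t1 : C := ∏ h ∈ gens, m h with ht1
  have ht1T : t1 ∈ T := Submonoid.prod_mem _ (fun h hh => hmT h hh)
  refine ⟨t0 * t1, T.mul_mem ht0 ht1T, ?_⟩
  have hunit : IsUnit (algebraMap C (Localization.Away (t0 * t1)) t0) :=
    IsLocalization.Away.isUnit_of_dvd (t0 * t1) (dvd_mul_right _ _)
  let κ0 : Localization.Away t0 →ₐ[C] Localization.Away (t0 * t1) :=
    IsLocalization.Away.liftAlgHom (A := C) (R := C) (S := Localization.Away t0) t0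
      (f := Algebra.ofId C _) hunit
  let θ : MvPolynomial (Fin n) R →ₐ[R] Localization.Away (t0 * t1) :=
    (κ0.restrictScalars R).comp θ0
  have hker : RingHom.ker π.toRingHom ≤ RingHom.ker θ.toRingHom := by
    rw [← hgens, Ideal.span_le]
    intro h hh
    change θ h = 0
    have h1 : κ0 (θ0 h) * algebraMap C _ t0 ^ k h = algebraMap C _ (c h) := by
      have := congrArg κ0 (hc h hh)
      rw [map_mul, map_pow] at this
      simpa [κ0] using this
    have h2 : algebraMap C (Localization.Away (t0 * t1)) (c h) = 0 := by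
      have hu : IsUnit (algebraMap C (Localization.Away (t0 * t1)) (m h)) :=
        IsLocalization.Away.isUnit_of_dvd (t0 * t1)
          ((Finset.dvd_prod_of_mem m hh).trans (dvd_mul_left _ _))
      apply hu.mul_left_cancel
      rw [← map_mul, hmc h hh, map_zero, mul_zero]
    rw [h2] at h1
    exact (hunit.pow (k h)).mul_left_eq_zero.mp h1
  refine ⟨AlgHom.liftOfSurjective π hπ θ hker, ?_⟩
  intro κ s
  obtain ⟨p, rfl⟩ := hπ s
  rw [AlgHom.liftOfSurjective_apply, ← hι0θ0]
  have : κ.comp κ0 = ι0 := by
    apply IsLocalization.algHom_ext (Submonoid.powers t0)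
    ext
  exact DFunLike.congr_fun this (θ0 p)

/-- Core: spreading out the inverse of a local isomorphism. -/
theorem core {A : Type*} [CommRing A] {B : Type*} [CommRing B] [Algebra A B]
    [Algebra.FinitePresentation A B] (M : Submonoid A) (T : Submonoid B)
    {AM : Type*} [CommRing AM] [Algebra A AM] [IsLocalization M AM]
    (ρ : B →ₐ[A] AM)
    (h2 : ∀ b, ρ b = 0 → ∃ t ∈ T, t * b = 0)
    (h3 : ∀ t ∈ T, IsUnit (ρ t)) :
    ∃ f ∈ M, ∃ ρf : B →ₐ[A] Localization.Away f, ∃ g ∈ T, IsUnit (ρf g) ∧
      ∀ b, ρf b = 0 → ∃ N : ℕ, algebraMap A B f ^ N * g * b = 0 := by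
  classical
  obtain ⟨f0, hf0, ρ0, hρ0⟩ := exists_lift_away (R := A) (S := B) (C := A) M (CT := AM) ρ
  have hunit0 : IsUnit (algebraMap A AM f0) := IsLocalization.map_units AM ⟨f0, hf0⟩
  let κ0 : Localization.Away f0 →ₐ[A] AM :=
    IsLocalization.Away.liftAlgHom (A := A) (R := A) (S := Localization.Away f0) f0
      (f := Algebra.ofId A AM) hunit0
  have hκ0 : ∀ b, κ0 (ρ0 b) = ρ b := hρ0 κ0
  set f0' : B := algebraMap A B f0 with hf0'
  have hu0' : IsUnit (ρ0 f0') := by
    rw [hf0', AlgHom.commutes]
    exact IsLocalization.Away.algebraMap_isUnit f0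
  let ρ0' : Localization.Away f0' →ₐ[A] Localization.Away f0 :=
    IsLocalization.Away.liftAlgHom (A := A) (R := B) (S := Localization.Away f0') f0'
      (f := ρ0) hu0'
  have hρ0' : ∀ b, ρ0' (algebraMap B _ b) = ρ0 b := by
    intro b
    simp [ρ0']
  have hsurj : Function.Surjective ρ0' := by
    intro z
    obtain ⟨n, a, h⟩ := IsLocalization.Away.surj f0 z
    refine ⟨algebraMap A _ a * (IsLocalization.Away.invSelf f0') ^ n, ?_⟩
    have h1 : ρ0' (IsLocalization.Away.invSelf f0') * algebraMap A _ f0 = 1 := by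
      have : algebraMap A (Localization.Away f0) f0 = ρ0' (algebraMap B _ f0') := by
        rw [hρ0', hf0', AlgHom.commutes]
      rw [this, ← map_mul, mul_comm, IsLocalization.Away.mul_invSelf, map_one]
    apply ((IsLocalization.Away.algebraMap_isUnit f0).pow n).mul_right_cancel
    rw [h, map_mul, map_pow, AlgHom.commutes, mul_assoc, ← mul_pow, h1, one_pow, mul_one]
  obtain ⟨gensI, hI⟩ := Algebra.FinitePresentation.ker_fG_of_surjective ρ0' hsurj
  -- kill the generators
  have hgen : ∀ i ∈ gensI, ∃ t ∈ T, algebraMap B (Localization.Away f0') t * i = 0 := by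
    intro i hi
    have hi0 : ρ0' i = 0 := by
      have : i ∈ RingHom.ker ρ0'.toRingHom := hI ▸ Ideal.subset_span hi
      exact this
    obtain ⟨n, b, hb⟩ := IsLocalization.Away.surj f0' i
    have hb0 : ρ b = 0 := by
      rw [← hκ0, ← hρ0', ← hb, map_mul, hi0, zero_mul, map_zero]
    obtain ⟨t, ht, htb⟩ := h2 b hb0
    refine ⟨t, ht, ?_⟩
    apply ((IsLocalization.Away.algebraMap_isUnit f0').pow n).mul_left_eq_zero.mp
    rw [mul_assoc, hb, ← map_mul, htb, map_zero]
  choose! t htT ht using hgen
  set g : B := ∏ i ∈ gensI, t i with hg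
  have hgT : g ∈ T := Submonoid.prod_mem _ (fun i hi => htT i hi)
  have hgI : ∀ x, ρ0' x = 0 → algebraMap B (Localization.Away f0') g * x = 0 := by
    intro x hx
    have hx' : x ∈ Ideal.span (gensI : Set (Localization.Away f0')) := by
      rw [hI]; exact hx
    refine Submodule.span_induction (p := fun x _ => algebraMap B (Localization.Away f0') g * x = 0)
      ?_ ?_ ?_ ?_ hx'
    · intro i hi
      obtain ⟨d, hd⟩ := Finset.dvd_prod_of_mem t hi
      rw [hg, hd, map_mul, mul_comm (algebraMap B _ (t i)), mul_assoc, ht i hi, mul_zero]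
    · simp
    · intro x y _ _ hx hy
      rw [mul_add, hx, hy, add_zero]
    · intro a x _ hx
      rw [smul_eq_mul, mul_left_comm, hx, mul_zero]
  -- make `ρ0 g` a unit
  obtain ⟨k, a, hka⟩ := IsLocalization.Away.surj f0 (ρ0 g)
  have hau : IsUnit (algebraMap A AM a) := by
    have : algebraMap A AM a = κ0 (algebraMap A _ a) := by simp
    rw [this, ← hka, map_mul, hκ0, map_pow]
    refine (h3 g hgT).mul (IsUnit.pow _ ?_)
    simpa using hunit0
  obtain ⟨f1, hf1, haf1⟩ := (IsLocalization.algebraMap_isUnit_iff M).mp hau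
  refine ⟨f0 * f1, M.mul_mem hf0 hf1, ?_⟩
  have hunit : IsUnit (algebraMap A (Localization.Away (f0 * f1)) f0) :=
    IsLocalization.Away.isUnit_of_dvd (f0 * f1) (dvd_mul_right _ _)
  let κ1 : Localization.Away f0 →ₐ[A] Localization.Away (f0 * f1) :=
    IsLocalization.Away.liftAlgHom (A := A) (R := A) (S := Localization.Away f0) f0
      (f := Algebra.ofId A _) hunit
  refine ⟨κ1.comp ρ0, g, hgT, ?_, ?_⟩
  · have h1 : κ1 (ρ0 g) * algebraMap A _ f0 ^ k = algebraMap A _ a := by
      have := congrArg κ1 hka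
      rw [map_mul, map_pow] at this
      simpa using this
    have h2 : IsUnit (algebraMap A (Localization.Away (f0 * f1)) a) :=
      IsLocalization.Away.isUnit_of_dvd (f0 * f1) (haf1.trans (dvd_mul_left _ _))
    rw [← h1] at h2
    exact isUnit_of_mul_isUnit_left h2
  · intro b hb
    change κ1 (ρ0 b) = 0 at hb
    obtain ⟨j, ab, hab⟩ := IsLocalization.Away.surj f0 (ρ0 b)
    have h1 : algebraMap A (Localization.Away (f0 * f1)) ab = 0 := by
      have := congrArg κ1 hab
      rw [map_mul, hb, zero_mul] at this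
      simpa using this.symm
    obtain ⟨N, hN⟩ := IsLocalization.Away.exists_of_eq (S := Localization.Away (f0 * f1))
      (f0 * f1) (a := ab) (b := 0) (by rw [h1, map_zero])
    rw [mul_zero] at hN
    -- back in `Away f0`
    have h3' : ρ0 (algebraMap A B (f0 * f1) ^ N * b) = 0 := by
      apply ((IsLocalization.Away.algebraMap_isUnit f0).pow j).mul_left_eq_zero.mp
      rw [map_mul, map_pow, AlgHom.commutes, mul_assoc, hab, ← map_pow, ← map_mul, hN, map_zero]
    have h4 := hgI (algebraMap B _ (algebraMap A B (f0 * f1) ^ N * b)) (by rw [hρ0', h3'])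
    rw [← map_mul] at h4
    obtain ⟨N', hN'⟩ := IsLocalization.Away.exists_of_eq (S := Localization.Away f0')
      f0' (a := g * (algebraMap A B (f0 * f1) ^ N * b)) (b := 0) (by rw [h4, map_zero])
    rw [mul_zero] at hN'
    refine ⟨N' + N, ?_⟩
    have : algebraMap A B (f0 * f1) ^ (N' + N) * g * b
        = algebraMap A B f1 ^ N' * (f0' ^ N' * (g * (algebraMap A B (f0 * f1) ^ N * b))) := by
      rw [map_mul, hf0']; ring
    rw [this, hN', mul_zero]

/-- Consequence of `core`: the two rings become isomorphic after inverting one element each. -/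
theorem core_iso {A : Type*} [CommRing A] {B : Type*} [CommRing B] [Algebra A B]
    [Algebra.FinitePresentation A B] (M : Submonoid A) (T : Submonoid B)
    {AM : Type*} [CommRing AM] [Algebra A AM] [IsLocalization M AM]
    (ρ : B →ₐ[A] AM)
    (h2 : ∀ b, ρ b = 0 → ∃ t ∈ T, t * b = 0)
    (h3 : ∀ t ∈ T, IsUnit (ρ t))
    (h4 : ∀ m ∈ M, algebraMap A B m ∈ T) :
    ∃ f ∈ M, ∃ g ∈ T, Nonempty (Localization.Away f ≃ₐ[A] Localization.Away g) := by
  obtain ⟨f, hf, ρf, g', hg', hu, hker⟩ := core M T ρ h2 h3
  refine ⟨f, hf, algebraMap A B f * g', T.mul_mem (h4 f hf) hg', ?_⟩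
  set g : B := algebraMap A B f * g' with hg
  have hug : IsUnit (ρf g) := by
    rw [hg, map_mul, AlgHom.commutes]
    exact (IsLocalization.Away.algebraMap_isUnit f).mul hu
  let ρ'' : Localization.Away g →ₐ[A] Localization.Away f :=
    IsLocalization.Away.liftAlgHom (A := A) (R := B) (S := Localization.Away g) g (f := ρf) hug
  have hρ'' : ∀ b, ρ'' (algebraMap B _ b) = ρf b := by
    intro b; simp [ρ'']
  have hunit : IsUnit (algebraMap A (Localization.Away g) f) := by
    rw [IsScalarTower.algebraMap_apply A B (Localization.Away g)]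
    exact IsLocalization.Away.isUnit_of_dvd g (dvd_mul_right _ _)
  let ι : Localization.Away f →ₐ[A] Localization.Away g :=
    IsLocalization.Away.liftAlgHom (A := A) (R := A) (S := Localization.Away f) f
      (f := Algebra.ofId A _) hunit
  have hcomp : ρ''.comp ι = AlgHom.id A _ := by
    apply IsLocalization.algHom_ext (Submonoid.powers f)
    ext
  have hinj : Function.Injective ρ'' := by
    rw [injective_iff_map_eq_zero]
    intro x hx
    obtain ⟨n, b, hb⟩ := IsLocalization.Away.surj g x
    have hb0 : ρf b = 0 := by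
      rw [← hρ'', ← hb, map_mul, hx, zero_mul]
    obtain ⟨N, hN⟩ := hker b hb0
    have h1 : algebraMap B (Localization.Away g) b = 0 := by
      have hu1 : IsUnit (algebraMap B (Localization.Away g) (algebraMap A B f ^ N * g')) := by
        rw [map_mul, map_pow]
        exact ((IsLocalization.Away.isUnit_of_dvd g (dvd_mul_right _ _)).pow N).mul
          (IsLocalization.Away.isUnit_of_dvd g (dvd_mul_left _ _))
      apply hu1.mul_right_eq_zero.mp
      rw [← map_mul, hN, map_zero]
    apply ((IsLocalization.Away.algebraMap_isUnit g).pow n).mul_left_eq_zero.mp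
    rw [hb, h1]
  have hsurj : Function.Surjective ρ'' := fun z => ⟨ι z, DFunLike.congr_fun hcomp z⟩
  exact ⟨(AlgEquiv.ofBijective ρ'' ⟨hinj, hsurj⟩).symm⟩

end Groth.Agent.Lib.Helper65.SpreadOut
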