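import Mathlib
import Groth.Prelude.Def_W4c5adicflatcomplDec
import Groth.Agent.Lib.Helper83.InvSystem

set_option autoImplicit false

namespace Groth.Agent.Lib.Helper65.SysLimAdic

open Function W4c5adicflatcompl

variable {A : Type*} [CommRing A] (I : Ideal A) (M : ℕ → Type*) [∀ n, AddCommGroup (M n)]
  [∀ n, Module A (M n)] (ψ : ∀ n, M (n + 1) →ₗ[A] M n)

theorem sysProj_surjective (hψ : ∀ n, Surjective (ψ n)) (n : ℕ) :
    Surjective (sysProj M ψ n) := by
  intro m
  obtain ⟨x, hxn, hx⟩ := Groth.Agent.Lib.Helper83.exists_compatible_through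
    (fun n => (ψ n : M (n + 1) → M n)) hψ n m
  exact ⟨⟨x, hx⟩, hxn⟩

variable {M ψ}

theorem sysLim_ext {x y : sysLim M ψ} (h : ∀ k, (x : ∀ k, M k) k = (y : ∀ k, M k) k) : x = y :=
  Subtype.ext (funext h)

theorem proj_eq_zero_of_le (x : sysLim M ψ) {j k : ℕ} (hjk : j ≤ k)
    (hk : (x : ∀ k, M k) k = 0) : (x : ∀ k, M k) j = 0 := by
  induction hjk with
  | refl => exact hk
  | step _ ih =>
    apply ih
    rw [← x.2, hk, map_zero]

/-- a sequence in the limit whose `k`-th components stabilise has a limit -/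
theorem exists_limit (s : ℕ → sysLim M ψ)
    (hs : ∀ k, (s (k + 1) : ∀ k, M k) k = (s k : ∀ k, M k) k) :
    ∃ l : sysLim M ψ, ∀ k, (l : ∀ k, M k) k = (s k : ∀ k, M k) k := by
  refine ⟨⟨fun k => (s k : ∀ k, M k) k, fun k => ?_⟩, fun k => rfl⟩
  show ψ k ((s (k + 1) : ∀ k, M k) (k + 1)) = (s k : ∀ k, M k) k
  rw [(s (k + 1)).2 k, hs]

theorem exists_sum_smul_of_mem_span_smul {L : Type*} [AddCommGroup L] [Module A L] {t : ℕ}
    (g : Fin t → A) (P : Submodule A L) {x : L}
    (hx : x ∈ (Ideal.span (Set.range g)) • P) :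
    ∃ u : Fin t → L, (∀ i, u i ∈ P) ∧ x = ∑ i, g i • u i := by
  refine Submodule.smul_induction_on hx ?_ ?_
  · intro r hr n hn
    obtain ⟨c, rfl⟩ := (Submodule.mem_span_range_iff_exists_fun A).mp hr
    refine ⟨fun i => c i • n, fun i => Submodule.smul_mem _ _ hn, ?_⟩
    rw [Finset.sum_smul]
    refine Finset.sum_congr rfl fun i _ => ?_
    rw [smul_eq_mul, mul_comm, mul_smul]
  · rintro x y ⟨u, hu, rfl⟩ ⟨v, hv, rfl⟩
    refine ⟨fun i => u i + v i, fun i => Submodule.add_mem _ (hu i) (hv i), ?_⟩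
    simp only [smul_add, Finset.sum_add_distrib]

variable (hψ : ∀ n, Surjective (ψ n))
  (hker : ∀ n, LinearMap.ker (ψ n) = (I ^ (n + 1) • ⊤ : Submodule A (M (n + 1))))
  (hkill : ∀ n, ∀ a ∈ I ^ (n + 1), ∀ x : M n, a • x = 0)

include hkill in
theorem proj_eq_zero_of_mem_pow_smul {j k : ℕ} (hjk : k + 1 ≤ j) {x : sysLim M ψ}
    (hx : x ∈ (I ^ j • ⊤ : Submodule A (sysLim M ψ))) : (x : ∀ k, M k) k = 0 := by
  have hle : (I ^ j • ⊤ : Submodule A (sysLim M ψ)) ≤ LinearMap.ker (sysProj M ψ k) := by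
    rw [Submodule.smul_le]
    intro a ha y _
    rw [LinearMap.mem_ker, map_smul]
    exact hkill k a (Ideal.pow_le_pow_right hjk ha) _
  exact hle hx

include hψ hker in
theorem exists_sub_mem (k : ℕ) (x : sysLim M ψ) (hx : (x : ∀ k, M k) k = 0) :
    ∃ y ∈ (I ^ (k + 1) • ⊤ : Submodule A (sysLim M ψ)),
      ((x - y : sysLim M ψ) : ∀ k, M k) (k + 1) = 0 := by
  have h1 : (x : ∀ k, M k) (k + 1) ∈ LinearMap.ker (ψ k) := by
    rw [LinearMap.mem_ker, x.2 k, hx]
  rw [hker k] at h1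
  have h2 : (I ^ (k + 1) • ⊤ : Submodule A (M (k + 1))) =
      Submodule.map (sysProj M ψ (k + 1)) (I ^ (k + 1) • ⊤) := by
    rw [Submodule.map_smul'', Submodule.map_top,
      LinearMap.range_eq_top.mpr (sysProj_surjective M ψ hψ (k + 1))]
  rw [h2] at h1
  obtain ⟨y, hy, hyx⟩ := h1
  refine ⟨y, hy, ?_⟩
  have : sysProj M ψ (k + 1) (x - y) = 0 := by
    rw [map_sub, hyx, sysProj_apply, sub_self]
  exact this

include hψ hker hkill in
theorem ker_sysProj_eq (hI : I.FG) (n : ℕ) :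
    LinearMap.ker (sysProj M ψ n) = (I ^ (n + 1) • ⊤ : Submodule A (sysLim M ψ)) := by
  classical
  apply le_antisymm
  swap
  · intro x hx
    rw [LinearMap.mem_ker]
    exact proj_eq_zero_of_mem_pow_smul I hkill le_rfl hx
  intro x hx
  rw [LinearMap.mem_ker, sysProj_apply] at hx
  obtain ⟨t, g, hg⟩ := Submodule.fg_iff_exists_fin_generating_family.mp (hI.pow (n := n + 1))
  -- one step
  have step : ∀ (j : ℕ) (U : Fin t → sysLim M ψ),
      ((x - ∑ i, g i • U i : sysLim M ψ) : ∀ k, M k) (n + j) = 0 →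
      ∃ U' : Fin t → sysLim M ψ,
        ((x - ∑ i, g i • U' i : sysLim M ψ) : ∀ k, M k) (n + (j + 1)) = 0 ∧
        ∀ i, U' i - U i ∈ (I ^ j • ⊤ : Submodule A (sysLim M ψ)) := by
    intro j U hU
    obtain ⟨y, hy, hy0⟩ := exists_sub_mem I hψ hker (n + j) _ hU
    have h1 : I ^ (n + j + 1) = Ideal.span (Set.range g) * I ^ j := by
      have : Ideal.span (Set.range g) = I ^ (n + 1) := hg
      rw [this, ← pow_add]
      congr 1
      omega
    rw [h1, mul_smul] at hy
    obtain ⟨u, hu, rfl⟩ := exists_sum_smul_of_mem_span_smul g _ hy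
    refine ⟨fun i => U i + u i, ?_, fun i => by simpa using hu i⟩
    have h2 : x - ∑ i, g i • (U i + u i) = x - ∑ i, g i • U i - ∑ i, g i • u i := by
      simp only [smul_add, Finset.sum_add_distrib]
      abel
    rw [h2]
    exact hy0
  choose next hnext1 hnext2 using step
  let seq : ∀ j, {U : Fin t → sysLim M ψ //
      ((x - ∑ i, g i • U i : sysLim M ψ) : ∀ k, M k) (n + j) = 0} :=
    fun j => Nat.rec ⟨0, by simpa using hx⟩
      (fun j U => ⟨next j U.1 U.2, hnext1 j U.1 U.2⟩) j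
  have hseq : ∀ j i, (seq (j + 1)).1 i - (seq j).1 i ∈
      (I ^ j • ⊤ : Submodule A (sysLim M ψ)) := fun j i => hnext2 j (seq j).1 (seq j).2 i
  have hlim : ∀ i, ∃ l : sysLim M ψ, ∀ k,
      (l : ∀ k, M k) k = ((seq (k + 1)).1 i : ∀ k, M k) k := by
    intro i
    apply exists_limit (fun k => (seq (k + 1)).1 i)
    intro k
    have h3 := proj_eq_zero_of_mem_pow_smul I hkill (le_refl (k + 1)) (hseq (k + 1) i)
    have h4 : (((seq (k + 1 + 1)).1 i - (seq (k + 1)).1 i : sysLim M ψ) : ∀ k, M k) k =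
        ((seq (k + 1 + 1)).1 i : ∀ k, M k) k - ((seq (k + 1)).1 i : ∀ k, M k) k := rfl
    rw [h4, sub_eq_zero] at h3
    exact h3
  choose Uinf hUinf using hlim
  have hfin : x = ∑ i, g i • Uinf i := by
    rw [← sub_eq_zero]
    apply sysLim_ext
    intro k
    have h5 := proj_eq_zero_of_le _ (show k ≤ n + (k + 1) by omega) (seq (k + 1)).2
    have h6 : ∀ (U : Fin t → sysLim M ψ),
        ((x - ∑ i, g i • U i : sysLim M ψ) : ∀ k, M k) k =
        (x : ∀ k, M k) k - ∑ i, g i • (U i : ∀ k, M k) k := by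
      intro U
      have : ((x - ∑ i, g i • U i : sysLim M ψ) : ∀ k, M k) k =
          sysProj M ψ k (x - ∑ i, g i • U i) := rfl
      rw [this, map_sub, map_sum]
      simp only [map_smul, sysProj_apply]
    rw [h6] at h5 ⊢
    simp only [hUinf]
    exact h5
  rw [hfin]
  refine Submodule.sum_mem _ fun i _ => Submodule.smul_mem_smul ?_ Submodule.mem_top
  rw [← hg]
  exact Submodule.subset_span (Set.mem_range_self i)

include hψ hker hkill in
theorem isAdicComplete_sysLim (hI : I.FG) : IsAdicComplete I (sysLim M ψ) := by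
  have hK := ker_sysProj_eq I hψ hker hkill hI
  refine { toIsHausdorff := ⟨?_⟩, toIsPrecomplete := ⟨?_⟩ }
  · intro x hx
    apply sysLim_ext
    intro k
    have h1 := hx (k + 1)
    rw [SModEq.zero] at h1
    exact proj_eq_zero_of_mem_pow_smul I hkill le_rfl h1
  · intro f hf
    obtain ⟨l, hl⟩ := exists_limit (fun k => f (k + 1)) (by
      intro k
      have h1 := hf (Nat.le_succ (k + 1))
      rw [SModEq.sub_mem] at h1
      have h2 := proj_eq_zero_of_mem_pow_smul I hkill le_rfl h1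
      have h3 : ((f (k + 1) - f (k + 1).succ : sysLim M ψ) : ∀ k, M k) k =
        (f (k + 1) : ∀ k, M k) k - (f (k + 1 + 1) : ∀ k, M k) k := rfl
      rw [h3, sub_eq_zero] at h2
      exact h2.symm)
    refine ⟨l, fun n => ?_⟩
    rw [SModEq.sub_mem]
    cases n with
    | zero => simp
    | succ k =>
      rw [← hK k, LinearMap.mem_ker, map_sub, sysProj_apply, sysProj_apply, hl, sub_self]

end Groth.Agent.Lib.Helper65.SysLimAdic
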