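import Mathlib

set_option autoImplicit false
universe u

namespace Groth.Agent.Lib.Helper65.TensorPres

open TensorProduct

variable {R : Type u} [CommRing R] {Q : Type u} [AddCommGroup Q] [Module R Q]
variable {n m : ℕ} (π : (Fin n → R) →ₗ[R] Q) (g : (Fin m → R) →ₗ[R] (Fin n → R))

/-- every element of `M ⊗ Q` is a combination of the images of the basis vectors. -/
theorem exists_rep (hπ : Function.Surjective π) (M : Type u) [AddCommGroup M] [Module R M]
    (t : M ⊗[R] Q) : ∃ x : Fin n → M, t = ∑ i, x i ⊗ₜ[R] π (Pi.single i 1) := by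
  induction t using TensorProduct.induction_on with
  | zero => exact ⟨0, by simp⟩
  | tmul mm q =>
    obtain ⟨v, rfl⟩ := hπ q
    refine ⟨fun i => v i • mm, ?_⟩
    have : v = ∑ i, v i • (Pi.single i (1 : R) : Fin n → R) := by
      ext i
      simp [Finset.sum_apply, Pi.single_apply]
    conv_lhs => rw [this]
    simp only [map_sum, map_smul, TensorProduct.tmul_sum, TensorProduct.tmul_smul,
      TensorProduct.smul_tmul']
  | add a b ha hb =>
    obtain ⟨x, rfl⟩ := ha
    obtain ⟨y, rfl⟩ := hb
    exact ⟨x + y, by simp [TensorProduct.add_tmul, Finset.sum_add_distrib]⟩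

/-- the matrix of `g`. -/
def mat : Fin n → Fin m → R := fun i j => g (Pi.single j 1) i

theorem sum_tmul_eq_zero (hex : Function.Exact g π) (M : Type u) [AddCommGroup M] [Module R M]
    (x : Fin n → M) (y : Fin m → M) (h : ∀ i, x i = ∑ j, mat g i j • y j) :
    ∑ i, x i ⊗ₜ[R] π (Pi.single i 1) = 0 := by
  have h1 : ∀ j, ∑ i, mat g i j • π (Pi.single i 1) = 0 := by
    intro j
    have : g (Pi.single j 1) = ∑ i, mat g i j • (Pi.single i (1 : R) : Fin n → R) := by
      ext i
      simp [Finset.sum_apply, Pi.single_apply, mat]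
    have h2 : π (g (Pi.single j 1)) = 0 := (hex _).2 ⟨_, rfl⟩
    rw [this, map_sum] at h2
    simpa [map_smul] using h2
  calc ∑ i, x i ⊗ₜ[R] π (Pi.single i 1)
      = ∑ i, ∑ j, y j ⊗ₜ[R] (mat g i j • π (Pi.single i 1)) := by
        refine Finset.sum_congr rfl fun i _ => ?_
        rw [h i, TensorProduct.sum_tmul]
        refine Finset.sum_congr rfl fun j _ => ?_
        rw [TensorProduct.smul_tmul]
    _ = ∑ j, y j ⊗ₜ[R] (∑ i, mat g i j • π (Pi.single i 1)) := by
        rw [Finset.sum_comm]
        refine Finset.sum_congr rfl fun j _ => ?_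
        rw [TensorProduct.tmul_sum]
    _ = 0 := by simp [h1]

theorem exists_of_sum_tmul_eq_zero (hπ : Function.Surjective π) (hex : Function.Exact g π)
    (M : Type u) [AddCommGroup M] [Module R M]
    (x : Fin n → M) (h : ∑ i, x i ⊗ₜ[R] π (Pi.single i 1) = 0) :
    ∃ y : Fin m → M, ∀ i, x i = ∑ j, mat g i j • y j := by
  classical
  set z : M ⊗[R] (Fin n → R) := ∑ i, x i ⊗ₜ[R] (Pi.single i (1 : R) : Fin n → R) with hz
  have h1 : LinearMap.lTensor M π z = 0 := by
    simp only [hz, map_sum, LinearMap.lTensor_tmul]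
    exact h
  obtain ⟨z', hz'⟩ := (lTensor_exact M hex hπ z).1 h1
  obtain ⟨y, hy⟩ := exists_rep (LinearMap.id : (Fin m → R) →ₗ[R] (Fin m → R))
    Function.surjective_id M z'
  refine ⟨y, fun i => ?_⟩
  have h2 : TensorProduct.piScalarRight R R M (Fin n) z = x := by
    simp only [hz, map_sum, TensorProduct.piScalarRight_apply, TensorProduct.piScalarRightHom_tmul]
    ext i'
    simp [Finset.sum_apply, Pi.single_apply]
  have h3 : TensorProduct.piScalarRight R R M (Fin n) z = fun i => ∑ j, mat g i j • y j := by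
    rw [← hz', hy]
    simp only [map_sum, LinearMap.lTensor_tmul, LinearMap.id_apply,
      TensorProduct.piScalarRight_apply, TensorProduct.piScalarRightHom_tmul]
    ext i'
    simp [Finset.sum_apply, mat]
  rw [← h2, h3]

end Groth.Agent.Lib.Helper65.TensorPres
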